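import Cfsg.Agent.Lib.R4.Stab
import Cfsg.Agent.Lib.SP.Def
import Cfsg.Agent.Lib.SE.Basic

/-!
# Package SE3: `p`-stability in groups of class `CP`
-/

set_option autoImplicit false

namespace Cfsg.Agent.I2.Se

open Subgroup Cfsg.Agent.Core Cfsg.Agent.R4 Cfsg.Agent.SP
open scoped commutatorElement Pointwise

universe u

variable {G : Type u} [Group G] [Finite G] {p : ℕ}

theorem quad [Fact p.Prime] (hp2 : p ≠ 2) {V N : Subgroup G} {a b : G}
    (h2 : ∀ (X : Type u) [Group X] [Finite X] (f : closure ({a, b} : Set G) →* X), Function.Surjective f →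
      (∀ x, f x = 1 ↔ ∀ v ∈ V, ⁅v, x.1⁆ ∈ N) → (∀ x y : X, x * x = 1 → x * y = y * x) →
      ∀ (H : Type u) [Group H] (g : X →* H), Function.Surjective g → WQ p H)
    (hV : closure ({a, b} : Set G) ≤ normalizer (V : Set G))
    (hN : closure ({a, b} : Set G) ≤ normalizer (N : Set G)) (hVV : ⁅V, V⁆ ≤ N)
    (hVp : ∀ v ∈ V, v ^ p ∈ N) (ha : ∀ v ∈ V, ⁅a, ⁅a, v⁆⁆ ∈ N) (hb : ∀ v ∈ V, ⁅b, ⁅b, v⁆⁆ ∈ N)
    {g : G} (hg : g ∈ closure ({a, b} : Set G)) (ho : (orderOf g).Coprime p) :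
    ∀ v ∈ V, ⁅v, g⁆ ∈ N := by
  set L := closure ({a, b} : Set G) with hL
  have hle : _root_.commutator V ≤ N.subgroupOf V := by
    rw [subgroupOf, ← map_le_iff_le_comap, map_subtype_commutator]; exact hVV
  have hn : (N.subgroupOf V).Normal := Normal.of_commutator_le _ hle
  have hc : IsMulCommutative (V ⧸ N.subgroupOf V) :=
    Normal.quotient_commutative_iff_commutator_le.mpr hle
  have haL : a ∈ L := Subgroup.subset_closure (by simp)
  have hbL : b ∈ L := Subgroup.subset_closure (by simp)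
  set φ := Coprime.sectionHom hV hN with hφ
  have hf := φ.rangeRestrict_surjective
  haveI := Finite.of_surjective _ hf
  have hgen : closure ({φ.rangeRestrict ⟨a, haL⟩, φ.rangeRestrict ⟨b, hbL⟩} : Set φ.range) = ⊤ := by
    rw [← Set.image_pair, ← MonoidHom.map_closure, ← map_top_of_surjective _ hf]
    congr 1
    apply map_injective L.subtype_injective
    rw [MonoidHom.map_closure, Set.image_pair, ← MonoidHom.range_eq_map, range_subtype]; rfl
  open scoped IsMulCommutative in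
  have hq : ∀ c : L, (∀ v ∈ V, ⁅(c : G), ⁅(c : G), v⁆⁆ ∈ N) → ∀ v,
      autRep φ.range.subtype (φ.rangeRestrict c) (autRep φ.range.subtype (φ.rangeRestrict c) v - v) =
        autRep φ.range.subtype (φ.rangeRestrict c) v - v := fun c hc v => by
    obtain ⟨w, hw⟩ := QuotientGroup.mk_surjective (Additive.toMul v)
    change Coprime.sectionHom hV hN c (Coprime.sectionHom hV hN c (Additive.toMul v) /
      Additive.toMul v) = Coprime.sectionHom hV hN c (Additive.toMul v) / Additive.toMul v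
    rw [← hw, Coprime.sectionHom_mk, ← QuotientGroup.mk_div, Coprime.sectionHom_mk, eq_comm,
      QuotientGroup.eq_iff_div_mem, ← inv_mem_iff, inv_div, mem_subgroupOf]
    have := hc w w.2
    simp only [commutatorElement_def] at this
    convert this using 1
    simp [Coprime.conjHom, div_eq_mul_inv, mul_assoc]
  open scoped IsMulCommutative in
  have hP : ∀ v : Additive (V ⧸ N.subgroupOf V), p • v = 0 := fun v => by
    obtain ⟨w, hw⟩ := QuotientGroup.mk_surjective (Additive.toMul v)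
    change Additive.toMul v ^ p = 1
    rw [← hw, ← QuotientGroup.mk_pow, QuotientGroup.eq_one_iff]
    exact hVp w w.2
  open scoped IsMulCommutative in
  have hz : ∀ x y : φ.range, x * x = 1 → x * y = y * x := fun x y hx => by
    have k : ∀ c, (∀ v, autRep φ.range.subtype c (autRep φ.range.subtype c v - v) =
        autRep φ.range.subtype c v - v) → (autRep φ.range.subtype c - 1) *
        (autRep φ.range.subtype c - 1) = 0 := fun c hc => LinearMap.ext fun v => by simp [hc v]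
    have h1 := commute_trace (autRep φ.range.subtype) hgen (add_sub_cancel _ _).symm
      (add_sub_cancel _ _).symm (k _ (hq _ ha)) (k _ (hq _ hb)) x y
    rw [inv_eq_of_mul_eq_one_right hx, Commute, SemiconjBy, add_mul, mul_add, ← map_mul,
      ← map_mul] at h1
    refine Subtype.ext (MulEquiv.ext fun v => ?_)
    obtain ⟨k, hk⟩ := (Fact.out : p.Prime).odd_of_ne_two hp2
    have h3 : ∀ w : Additive (V ⧸ N.subgroupOf V), (k + 1) • (w + w) = w := fun w => by
      rw [← two_nsmul, smul_smul, show (k + 1) * 2 = p + 1 by omega, add_smul, hP, zero_add, one_smul]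
    exact (h3 _).symm.trans ((congrArg ((k + 1) • ·) (LinearMap.congr_fun h1 (Additive.ofMul v))).trans (h3 _))
  open scoped IsMulCommutative in
  have key := rep_trivial_of_quad hp2 hgen (h2 _ _ hf (fun x => Subtype.ext_iff.trans
    (Coprime.mem_ker_sectionHom hV hN x)) hz) (g := φ.rangeRestrict ⟨g, hg⟩)
    (ho.coprime_dvd_left ((orderOf_map_dvd _ _).trans (orderOf_mk g hg).dvd)) _
    (Additive (V ⧸ N.subgroupOf V)) rfl hP (autRep φ.range.subtype) (hq _ ha) (hq _ hb)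
  exact (Coprime.mem_ker_sectionHom hV hN ⟨g, hg⟩).1 (MulEquiv.ext fun v => key (Additive.ofMul v))

open Cfsg.Agent.OO Cfsg.Agent.Coprime Cfsg.Agent.GW

variable {A H M P S : Subgroup G}

theorem pn_of_cp (h : CP G) (hz : ∀ x y : G, x * x = 1 → x * y = y * x) : HasNormalPComplement 2 G :=
  Transfer.frobenius_of_coprime_centralizes (default : Sylow 2 G) fun X hX _ g hg ho =>
    h.odd X ((default : Sylow 2 G).isPGroup'.to_le hX) g hg (Nat.prime_two.coprime_iff_not_dvd.1 ho.symm)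
      fun t _ t2 => mem_cent1.2 (hz t g t2).symm

theorem cp_of_ab (h : R1.Ab2 G) : CP G := ⟨fun T hT _ ht _ => Ab.le_cent (h T hT) ht, fun T hT g hg ho e =>
  Transfer.mem_centralizer_of_omega hT (h T hT) (Nat.prime_two.coprime_iff_not_dvd.2 ho).symm hg
    fun w hw w2 => (mem_cent1.1 (e w hw (by rwa [← sq]))).symm⟩

/-- `p`-stability on the Frattini quotients of the normal `p`-subgroups -/
def PS (p : ℕ) (H : Subgroup G) : Prop := ∀ P : Subgroup G, IsPGroup p P → P ⊴ H → ∀ a ∈ H, ∀ b ∈ H,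
  (∀ v ∈ P, ⁅a, ⁅a, v⁆⁆ ∈ Phi P) → (∀ v ∈ P, ⁅b, ⁅b, v⁆⁆ ∈ Phi P) →
  ∀ x ∈ closure ({a, b} : Set G), (orderOf x).Coprime p → ∀ v ∈ P, ⁅v, x⁆ ∈ Phi P

/-- quotients by normal subgroups of even order have abelian Sylow 2-subgroups -/
def Ev (H : Subgroup G) : Prop := ∀ D, D ⊴ H → 2 ∣ ♯D → ∀ T ≤ H, IsPGroup 2 T → der T ≤ D

variable [hp : Fact p.Prime]

theorem ps_of (hp2 : p ≠ 2) (h : PNil 2 H ∨ CP G ∧ Ev H) : PS p H := by
  intro P hP hn a ha b hb qa qb x hx ho
  have hL : closure ({a, b} : Set G) ≤ H := (closure_le _).2 (by rintro _ (rfl | rfl) <;> assumption)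
  refine quad hp2 (fun X _ _ f hf hk hz Y _ g hg h1 _ => ?_) (hL.trans hn.norm) (hL.trans hn.Phi.norm)
    (der_le_Phi hP) (fun v hv => pow_mem_Phi hP hv) qa qb hx ho
  haveI := Finite.of_surjective g hg
  rcases h with h | ⟨h, h2⟩
  · exact Transfer.hasNormalPComplement_of_surjective g hg (Transfer.hasNormalPComplement_of_surjective
      f hf (pnil_iff_hasNormalPComplement.1 (h.of_le hL)))
  by_cases e : 2 ∣ ♯(H ⊓ relCentralizer P (Phi P))
  · refine pn_of_cp (cp_of_ab (SE.ab2_of_surjective (fun T hT => ?_) hg)) fun y z y2 => ?_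
    · obtain ⟨R, -, hR, rfl⟩ := Mod.exists_isPGroup_map_eq (K := ⊤) hT
        (map_top_of_surjective f hf ▸ le_top)
      refine ab_iff.2 ?_
      rintro _ ⟨y, hy, rfl⟩ _ ⟨z, hz, rfl⟩
      rw [← commutatorElement_eq_one_iff_mul_comm, ← map_commutatorElement, hk]
      exact (h2 _ (normalIn_inf_of_norm (le_normalizer_relCentralizer hn.norm hn.Phi.norm)) e _
        ((map_subtype_le R).trans hL) (hR.map _) (commutator_mem_commutator (mem_map_of_mem _ hy)
          (mem_map_of_mem _ hz))).2.2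
    · by_cases y1 : y = 1
      · simp [y1]
      exact (mul_inv_eq_iff_eq_mul.1 (h1 _ _ ((orderOf_conj z y).trans (orderOf_eq_two y2 y1))
        (orderOf_eq_two y2 y1))).symm
  · refine Transfer.hasNormalPComplement_of_surjective g hg (pn_of_cp ((h.sub _).of_surjective f hf
      fun e' => e (e'.trans ?_)) hz)
    rw [← card_map_of_injective (subtype_injective _)]
    refine card_dvd ?_
    rintro _ ⟨y, hy, rfl⟩
    exact ⟨hL y.2, hn.Phi.norm (hL y.2), (hk y).1 hy⟩

section Puig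

open Cfsg.Agent.OO.Pf hiding puig_le cent_puigInf_le puigInf_le_puig norm_le_norm_center_puig
  puigInf_def puig_def sub_Puig_eq

variable (h2 : PS p H)
include h2

theorem quo_le_Op (hP : IsPGroup p P) (hn : P ⊴ H) (hA : A ≤ H) (ha : Ab A) (hPA : P ≤ 𝐍(A)) :
    A ⁒ (H ⊓ 𝐂(P)) ≤ Op p (H ⁒ (H ⊓ 𝐂(P))) := by
  have hC := hn.cent
  obtain ⟨D, hD⟩ : ∃ D, D = H ⊓ Core.relCentralizer P (Phi P) := ⟨_, rfl⟩
  have hDn : D ⊴ H := hD ▸ normalIn_inf_of_norm (Core.le_normalizer_relCentralizer hn.norm hn.Phi.norm)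
  have hDp : IsPGroup p (D ⁒ (H ⊓ 𝐂(P)) : Subgroup _) := by
    refine (isPGroup_quo_iff (hDn.le.trans hC.norm)).2 ((relIndex_Oup p D).of_dvd
      (relIndex_dvd_of_le_left _ (Oup_le_iff.2 fun x hx h => ⟨hDn.le hx, ?_⟩)))
    exact coprime_cent_Phi hP (zpowers_le.2 (hn.norm (hDn.le hx))) (coprime_card_of_isPGroup
      (by rwa [Nat.card_zpowers]) hP).symm (commutator_le.2 fun v hv y hy =>
        (hD.le (zpowers_le.2 hx hy)).2.2 v hv) (mem_zpowers x)
  intro z hz
  refine mem_Op_of_forall_syl (quo_mono _ hA hz) fun S' hS' => ?_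
  obtain ⟨S, hS, rfl⟩ := exists_syl_quo_eq hC.norm hS'
  obtain ⟨w, hw, rfl⟩ := (mem_quo_of_le (hA.trans hC.norm)).1 hz
  have h : ∀ v ∈ P, ⁅w, ⁅w, v⁆⁆ ∈ Phi P := fun v hv => by
    rw [Core.quadratic_of_mem_normalizer ha hw (hPA hv)]; exact one_mem _
  have h3 := coset_mem_quo (H ⊓ 𝐂(P)) (mem_sup_of_forall_pResidualOf_le hDn.norm hS (hA hw)
    fun g hg => pResidualOf_le_of_forall fun x hx ho => by
      have h4 := mul_mem (mul_mem hg (hA hw)) (inv_mem hg)
      have hL : x ∈ H := (closure_le H).2 (by rintro _ (rfl | rfl); exacts [hA hw, h4]) hx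
      refine hD ▸ ⟨hL, hn.Phi.norm hL, h2 P hP hn _ (hA hw) _ h4 h (fun v hv => ?_) x hx ho⟩
      convert conj_mem_of_norm (hn.Phi.norm hg) (h _ (conj_mem_of_norm' (hn.norm hg) hv)) using 1
      simp [commutatorElement_def, mul_assoc])
  rw [quo_sup (hS.le.trans hC.norm) (hDn.le.trans hC.norm)] at h3
  exact sup_le le_rfl (hS'.le_of_normal (hDn.quo _) hDp) h3

theorem le_Op_of_ab (hc : Core.IsCharIn p H) (hP : IsPGroup p P) (hn : P ⊴ H) (hA : A ≤ H)
    (ha : Ab A) (hPA : P ≤ 𝐍(A)) (h : Op p H ⊓ 𝐂(P) ≤ P) : A ≤ Op p H := by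
  have hC : IsPGroup p ↥(H ⊓ 𝐂(P)) := by
    refine PiGrp.isPGroup fun q hq hd => by_contra fun hqp => ?_
    obtain ⟨x, hx, hxo⟩ := cauchy hq hd
    have hxp : PiGrp ({p} : Set ℕ)ᶜ (zpowers x) := piGrp_zpowers.2 (by
      rw [PiElt, hxo]; exact (isPiNum_prime hq).2 hqp)
    have h3 : P ≤ Op p H ⊓ 𝐂(zpowers x) :=
      le_inf (le_Op hn hP) (le_cent_symm (zpowers_le.2 hx.2))
    have h4 := coprime_nil_faithful_cent_stab (A := zpowers x) (H := Op p H)
      ((zpowers_le.2 hx.1).trans (Op_normal p H).norm) (coprime_of_isPGroup (Op_isPGroup p H) hxp)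
      (Op_nil p H) (((inf_le_inf_left _ (cent_anti h3)).trans h).trans h3)
    have h6 := ((Op_piGrp p H).of_le ((le_inf (zpowers_le.2 hx.1) h4).trans hc)).eq_bot hxp
    rw [zpowers_eq_bot] at h6
    rw [h6, orderOf_one] at hxo
    exact hq.one_lt.ne hxo
  have := quo_le_Op h2 hP hn hA ha hPA
  rwa [← quo_Op hn.cent hC, quo_le_quo_iff (hA.trans hn.cent.norm) (le_Op hn.cent hC)] at this

theorem puig_normal (hc : Core.IsCharIn p H) (hS : Syl p S H) : Zc (puig S) ⊴ H := by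
  have hT := Op_le_syl hS
  have k : ∀ n, puigAt S (2 * n) ≤ puigAt (Op p H) (2 * n) := fun n => by
    induction n with
    | zero => exact bot_le
    | succ n ih =>
      have h3 : puigAt (Op p H) (2 * n + 1) ≤ puigAt S (2 * n + 1) := puigSucc_mono hT ih
      refine puigSucc_le_iff.2 fun A a1 a2 a3 => le_puigSucc ?_ a2 (h3.trans a3)
      exact le_Op_of_ab h2 hc ((Op_isPGroup p H).to_le (puigAt_le _ _))
        ((Op_normal p H).char_trans (puigAt_le _ _) (norm_le_norm_puigAt _ _)) (a1.trans hS.le)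
        a2 (h3.trans a3) (cent_puigSucc_le (Op_isPGroup p H) (puigAt_le _ _))
  have a1 : puigInf S ≤ puigInf (Op p H) := iSup_mono k
  have a2 : puig (Op p H) ≤ puig S := iInf_mono fun n => puigSucc_mono hT (k n)
  obtain ⟨Y, hY⟩ : ∃ Y, Y = Zc (puig (Op p H)) := ⟨_, rfl⟩
  have hZY : Zc (puig S) ≤ Y := hY ▸ le_inf
    (((inf_le_inf (puig_le S) (cent_anti (puigInf_le_puig S))).trans
      (cent_puigInf_le hS.isPGroup)).trans (a1.trans (puigInf_le_puig _)))
    (inf_le_right.trans (cent_anti a2))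
  have hYT : Y ≤ Op p H := hY ▸ (Zc_le _).trans (puig_le _)
  have hYn : Y ⊴ H := (Op_normal p H).char_trans hYT (hY ▸ norm_le_norm_center_puig _)
  have hCn := hYn.cent
  obtain ⟨C, c1, c2, c3⟩ := exists_quo_eq_normal hCn (Op_normal p (H ⁒ (H ⊓ 𝐂(Y))))
  have hLH := (puig_le S).trans hS.le
  have hYL : Y ≤ puigInf S := puigInf_def S ▸ le_puigSucc (hYT.trans (Op_le_syl hS))
    (hY ▸ Zc_ab _) (hLH.trans hYn.norm)
  have hLC : puig S ≤ C := by
    rw [← puig_def]
    refine puigSucc_le_iff.2 fun A b1 b2 b3 => ?_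
    rw [← quo_le_quo_iff ((b1.trans hS.le).trans hCn.norm) c1, c3]
    exact quo_le_Op h2 ((Op_isPGroup p H).to_le hYT) hYn (b1.trans hS.le) b2 (hYL.trans b3)
  have e1 : puig (C ⊓ S) = puig S := sub_Puig_eq inf_le_right (le_inf hLC (puig_le S))
  have hCS := hS.normal_inf c2
  have e2 : C ≤ C ⊓ S ⊔ H ⊓ 𝐂(Y) := by
    rw [← quo_le_quo_iff_le_sup (c2.le.trans hCn.norm) (inf_le_left.trans (c2.le.trans hCn.norm)),
      (hCS.quo (c2.le.trans hCn.norm)).eq_self (c3 ▸ Op_isPGroup p _)]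
  have e3 : 𝐍(C ⊓ S) ≤ 𝐍(Zc (puig S)) := e1 ▸ norm_le_norm_center_puig _
  refine ⟨(Zc_le _).trans hLH, ?_⟩
  rw [← (hCS.frattini c2).sup_eq]
  exact sup_le (e2.trans (sup_le ((le_norm_self _).trans e3)
    (inf_le_right.trans ((cent_anti hZY).trans (cent_le_norm _))))) (inf_le_right.trans e3)

end Puig

theorem fact (hs : Sol H) (h2 : PS p (H ⁒ Op' p H)) (hS : Syl p S H) :
    Op' p H ⊔ H ⊓ 𝐍(Zc (puig S)) = H := by
  have hD := Opi_normal ({p} : Set ℕ)ᶜ H
  have hSD := hS.le.trans hD.norm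
  have hi : Op' p H ⊓ S = ⊥ := (Op'_piGrp p H).inf_eq_bot' hS.piGrp
  have hL := (puig_le S).trans hSD
  have h1 := puig_normal h2 (cent_Op_le_of_Op'_eq_bot (sol_quo hs _) (Opi_quo_Opi _ H)) (hS.quo hD.norm)
  have hi' : Op' p H ⊓ puig S = ⊥ := eq_bot_iff.2 ((inf_le_inf_left _ (puig_le S)).trans hi.le)
  rw [← Pf.quo_puig hSD hi, Zc, ← quo_inf_cent_of_norm hL (le_norm_self _) (by simp [hi'])
    (Or.inl (by rw [hi']; exact sol_bot))] at h1
  have hZS := (Zc_le (puig S)).trans (puig_le S)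
  have h2 : Zc (puig S) ⊔ Op' p H ⊴ H :=
    ⟨sup_le (hZS.trans hS.le) hD.le, le_norm_sup_of_quo hD.norm (hZS.trans hSD) h1.norm⟩
  have h3 : Syl p (Zc (puig S)) (Zc (puig S) ⊔ Op' p H) :=
    (((IsSdprod.of_sup (hZS.trans hSD) (eq_bot_iff.2 ((inf_le_inf_left _ hZS).trans hi.le))).hall_right
      (Op'_piGrp p H) (hS.piGrp.of_le hZS)).syl).mono le_sup_left (sup_comm _ _).le
  refine le_antisymm (sup_le hD.le inf_le_left) ?_
  conv_lhs => rw [← (h3.frattini h2).sup_eq]
  exact sup_le (sup_le (le_sup_of_le_right (le_inf (hZS.trans hS.le) (le_norm_self _))) le_sup_left)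
    le_sup_right

omit hp in
theorem Ev.quo (h : Ev H) {N : Subgroup G} (hN : N ⊴ H) : Ev (H ⁒ N) := fun D hD he T hT h2 => by
  obtain ⟨T, h3, h4, h5, rfl⟩ := exists_isPGroup_quo_eq hT h2
  obtain ⟨D, c1, c2, rfl⟩ := exists_quo_eq_normal hN hD
  rw [← quo_der h4]
  exact quo_mono N (h D c2 (he.trans (card_quo_dvd D N)) T h3 h5)

omit hp in
theorem cp_coset (h : CP G) {N : Subgroup G} (ho : Odd ♯N) : CP (Coset N) :=
  (h.sub _).of_surjective _ (cosetHom_surjective N) (by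
    rw [ker_cosetHom, card_subgroupOf_of_le (le_norm_self N), ← even_iff_two_dvd]
    exact Nat.not_even_iff_odd.2 ho)

end Cfsg.Agent.I2.Se
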