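import Cfsg.Agent.Lib.I2.Hyp
import Cfsg.Agent.Lib.R4.EXa
import Cfsg.Agent.Lib.NS.Basic

/-!
# Central quotients of groups with irrational 2-elements
-/

set_option autoImplicit false
set_option linter.unusedSectionVars false

namespace Cfsg.Agent.I2

open Subgroup Cfsg.Agent.OO Cfsg.Agent.Coprime Cfsg.Agent.SZ Cfsg.Agent.GW Cfsg.Agent.W4
open Cfsg.Agent.R4 (SC MinSC InD IsSz SzF PC SCl Ctl)
open scoped commutatorElement Pointwise

universe u

variable {Γ G X : Type u} [Group Γ] [Finite Γ] [Group G] [Finite G] [Group X] [Finite X]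
  {f : Γ →* G} {A H K N Q S T V : Subgroup G} {D : G → Prop} {g t w x y : G}

theorem odd_elt : Odd (orderOf x) ↔ PiElt ({2} : Set ℕ)ᶜ x := by
  rw [← Nat.card_zpowers, odd_iff, piGrp_zpowers]

theorem two_of_mem (hT : IsPGroup 2 T) (hx : x ∈ T) : PiElt {2} x := (piGrp_singleton hT).piElt hx

theorem Irr.sq (h : Irr G) (hw : PiElt {2} w) (e : g * w * g⁻¹ = w⁻¹) : w * w = 1 := by
  have h1 := mem_cent1_iff_conj.1 (h w hw (conj_eq_self_iff.1 (by rw [conj_zpowers, e, zpowers_inv])))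
  rw [e] at h1
  exact mul_eq_one_iff_eq_inv.2 h1.symm

theorem Irr.sq_eq (h : Irr G) (hT : IsPGroup 2 T) (hx : x ∈ T) (hy : y ∈ T) (e : x * x = y * y) :
    x * y⁻¹ * (x * y⁻¹) = 1 :=
  h.sq (g := x) (two_of_mem hT (mul_mem hx (inv_mem hy))) (by
    rw [show x * (x * y⁻¹) * x⁻¹ = x * x * y⁻¹ * x⁻¹ by group, e]; group)

theorem Irr.pp (h : Irr G) : PP G := fun Q g hQ hg ho e => by
  refine mem_cent_iff_conj.2 fun x hx => ?_
  obtain ⟨n, hn⟩ := hQ ⟨x, hx⟩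
  replace hn : x ^ 2 ^ n = 1 := congrArg Subtype.val hn
  induction n generalizing x with
  | zero => simp [show x = 1 by simpa using hn]
  | succ n ih =>
    have h1 := ih (x * x) (mul_mem hx hx) (by rw [← pow_two, ← pow_mul, ← pow_succ', hn])
    have h2 := conj_mem_of_norm hg hx
    have h3 := h.sq_eq hQ h2 hx (by rw [conj_mul, h1])
    have h4 := mem_cent1_iff_conj.1 (e _ (mul_mem h2 (inv_mem hx)) h3)
    refine mem_cent1_iff_conj.1 (R4.mem_of_odd_sq ho (mem_cent1_iff_conj.2 ?_))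
    calc _ = g * (g * x * g⁻¹ * x⁻¹) * g⁻¹ * (g * x * g⁻¹ * x⁻¹) * x := by group
      _ = x := by rw [h4, h3, one_mul]

omit [Finite G] in
theorem Irr.sub (h : Irr G) (H : Subgroup G) : Irr H := fun x hx g hg =>
  mem_cent1.2 (Subtype.ext (mem_cent1.1 (h x (by rwa [PiElt, orderOf_coe]) (by
    have := map_norm_le H.subtype _ (mem_map_of_mem _ hg)
    rwa [MonoidHom.map_zpowers] at this))))

theorem Irr.quot (h : Irr G) (φ : G →* X) (hφ : Function.Surjective φ) (ho : Odd ♯φ.ker) :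
    Irr X := fun x hx g hg => by
  obtain ⟨a, rfl⟩ := hφ x
  have e : φ (constt {2} a) = φ a := by rw [map_constt, constt_eq_self hx]
  have h1 := isPGroup_zpowers_iff.2 (piElt_constt {2} a)
  rw [← e, ← MonoidHom.map_zpowers, ← map_normalizer_eq φ hφ
    (coprime_card_of_isPGroup (Nat.coprime_two_right.2 ho) h1).symm (.inr (sol_of_odd ho))] at hg
  obtain ⟨b, hb, rfl⟩ := hg
  rw [← e, mem_cent1, ← map_mul, ← map_mul, mem_cent1.1 (h _ (piElt_constt {2} a) hb)]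

namespace Cv

omit [Finite Γ] [Finite G] in
theorem comap (h : Cv f) (hT : IsPGroup 2 T) : IsPGroup 2 (T.comap f) :=
  hT.comap_of_ker_isPGroup f h.two

omit [Finite Γ] [Finite G] in
theorem comm (h : Cv f) {z : Γ} (hz : f z = 1) (a : Γ) : a * z = z * a :=
  mem_center_iff.1 (h.cen hz) a

theorem two_elt (h : Cv f) {a : Γ} (ha : PiElt {2} (f a)) : PiElt {2} a :=
  two_of_mem (h.comap (isPGroup_zpowers_iff.2 ha)) (mem_zpowers _)

theorem sq_eq (h : Cv f) (hT : IsPGroup 2 T) {a b : Γ} (ha : f a ∈ T) (hb : f b ∈ T)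
    (e : a * a = b * b) : a * b⁻¹ * (a * b⁻¹) = 1 := h.irr.sq_eq (h.comap hT) ha hb e

/-- Lemma R -/
theorem lemR (h : Cv f) {a z c g q : Γ} (ha : PiElt {2} (f a)) (hz : f z = 1) (hc : f c = 1)
    (e : g * a * g⁻¹ = a⁻¹ * (z * z) * c) (e' : q * a * q⁻¹ = a * c) : Lf f (f a) := by
  have h1 : f (a * z⁻¹) = f a := by simp [hz]
  have z1 : ∀ b, b * z * b⁻¹ = z := fun b => by rw [h.comm hz, mul_inv_cancel_right]
  have c1 : ∀ b, b * c * b⁻¹ = c := fun b => by rw [h.comm hc, mul_inv_cancel_right]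
  refine ⟨_, h.irr.sq (g := q * g) (h.two_elt (h1 ▸ ha)) ?_, h1⟩
  calc _ = q * (g * a * g⁻¹ * (g * z * g⁻¹)⁻¹) * q⁻¹ := by group
    _ = (q * a * q⁻¹)⁻¹ * (q * z * q⁻¹) * (q * (z * (c * z * c⁻¹)⁻¹) * q⁻¹) * (q * c * q⁻¹) := by
      rw [e, z1]; group
    _ = c⁻¹ * (a⁻¹ * z * a⁻¹⁻¹) * c⁻¹⁻¹ * (c⁻¹ * a⁻¹ * c) := by rw [e', z1, z1, c1]; group
    _ = z * (a⁻¹ * (a * c * a⁻¹)⁻¹ * c) := by rw [z1, z1]; group
    _ = _ := by rw [c1]; group

theorem exists_odd (h : Cv f) (ho : Odd (orderOf g)) : ∃ a, Odd (orderOf a) ∧ f a = g := by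
  obtain ⟨a, rfl⟩ := h.surj g
  exact ⟨_, odd_elt.2 (piElt_constt _ a), by rw [map_constt, constt_eq_self (odd_elt.1 ho)]⟩

/-- an element of odd order centralizing `a` modulo the kernel centralizes it -/
theorem mem_cent (h : Cv f) {a b : Γ} (ho : Odd (orderOf b)) (e : f b ∈ 𝐂[f a]) : b ∈ 𝐂[a] := by
  have h1 : f (b * a * b⁻¹ * a⁻¹) = 1 := by simp [mem_cent1.1 e]
  have h2 : ∀ n : ℕ, b ^ n * a * (b ^ n)⁻¹ = (b * a * b⁻¹ * a⁻¹) ^ n * a := fun n => by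
    induction n with
    | zero => simp
    | succ n ih =>
      calc _ = b * (b ^ n * a * (b ^ n)⁻¹) * b⁻¹ := by rw [pow_succ']; group
        _ = b * (b * a * b⁻¹ * a⁻¹) ^ n * b⁻¹ * (b * a * b⁻¹ * a⁻¹) * a := by rw [ih]; group
        _ = _ := by rw [h.comm (by rw [map_pow, h1, one_pow]) b, mul_inv_cancel_right, ← pow_succ]
  have h3 := h2 (orderOf b)
  rw [pow_orderOf_eq_one, one_mul, inv_one, mul_one, eq_comm, mul_eq_right] at h3
  have := NS.eq_one_of_two h.two h1 (ho.of_dvd_nat (orderOf_dvd_of_pow_eq_one h3))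
  exact mem_cent1_iff_conj.2 (mul_inv_eq_one.1 this)

theorem ds (h : Cv f) : DS (Lf f) where
  one := ⟨1, by simp, by simp⟩
  sq := by rintro _ ⟨a, e, rfl⟩; rw [← map_mul, e, map_one]
  conj := by
    rintro _ ⟨a, e, rfl⟩ g
    obtain ⟨b, rfl⟩ := h.surj g
    exact ⟨b * a * b⁻¹, conj_sq e b, by simp⟩
  mul := by
    rintro T _ _ hT hx hy ⟨a, e, rfl⟩ ⟨b, e', rfl⟩
    have := h.sq_eq hT hx hy (e.trans e'.symm)
    rw [inv_eq e'] at this
    exact ⟨_, this, map_mul _ _ _⟩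
  om := by
    intro T t g hT t2 ht hg
    obtain ⟨a, rfl⟩ := h.surj t
    obtain ⟨b, rfl⟩ := h.surj g
    refine ⟨_, h.sq_eq (a := b * a * b⁻¹) hT (by simpa using hg) ht ?_, by simp [inv_eq t2]⟩
    rw [conj_mul, h.comm (z := a * a) (by rw [map_mul, t2]) b, mul_inv_cancel_right]
  pp := by
    intro Q g hQ hg ho e
    obtain ⟨b, hb, rfl⟩ := h.exists_odd ho
    have := h.irr.pp _ b (h.comap hQ) (mem_norm_of_conj_mem fun x hx => by
      simpa using conj_mem_of_norm hg hx) hb fun a ha a2 => h.mem_cent hb (e _ ha ⟨a, a2, rfl⟩)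
    refine mem_cent_iff.2 fun x hx => ?_
    obtain ⟨a, rfl⟩ := h.surj x
    rw [← map_mul, mem_cent_iff.1 this a hx, map_mul]

omit [Finite Γ] [Finite G] in
theorem sub (h : Cv f) (H : Subgroup G) : Cv (f.subgroupComap H) where
  surj := f.subgroupComap_surjective_of_surjective H h.surj
  cen := fun _ ha => mem_center_iff.2 fun b => Subtype.ext (h.comm (congrArg Subtype.val ha) b)
  two := fun a => let ⟨n, hn⟩ := h.two ⟨a.1, congrArg Subtype.val a.2⟩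
    ⟨n, Subtype.ext (Subtype.ext (congrArg Subtype.val hn :))⟩
  irr := h.irr.sub _

omit [Finite Γ] [Finite G] in
theorem _root_.Cfsg.Agent.I2.Lf.sub {x : H} (h : Lf f (x : G)) : Lf (f.subgroupComap H) x :=
  let ⟨a, e, e'⟩ := h
  ⟨⟨a, show f a ∈ H from e' ▸ x.2⟩, Subtype.ext e, Subtype.ext e'⟩

/-- quotients by subgroups of odd order -/
theorem quot (h : Cv f) (φ : G →* X) (hφ : Function.Surjective φ) (ho : Odd ♯φ.ker) :
    ∃ (Γ' : Type u) (_ : Group Γ') (_ : Finite Γ') (f' : Γ' →* X), Cv f' ∧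
      ∀ x, Lf f x → Lf f' (φ x) := by
  have h1 : ∀ a ∈ (φ.comp f).ker, PiElt {2} a → f a = 1 := fun a ha e =>
    PiElt.eq_one (e.map f) (odd_elt.1 (odd_of_mem ho ha))
  have h2 : PNil 2 (φ.comp f).ker := ZG.pnil_two fun R hR h2 g _ _ _ =>
    mem_cent_iff.2 fun a ha => (h.comm (h1 a (hR ha) (two_of_mem h2 ha)) g).symm
  have h3 : (O (φ.comp f).ker).Normal :=
    normalIn_top.1 ⟨le_top, le_norm_O (normalIn_top.2 inferInstance).norm⟩
  have h4 : ∀ a ∈ (φ.comp f).ker, ∃ z, f z = 1 ∧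
      (a : Γ ⧸ O (φ.comp f).ker) = (z : Γ ⧸ O (φ.comp f).ker) := fun a ha =>
    ⟨_, h1 _ (constt_mem {2} ha) (piElt_constt _ a), (QuotientGroup.eq.2 (by
      rw [← constt_compl_eq]
      exact (NS.mem_O h2).2 ⟨constt_mem _ ha, odd_elt.2 (piElt_constt _ a)⟩)).symm⟩
  refine ⟨Γ ⧸ O (φ.comp f).ker, inferInstance, inferInstance,
    QuotientGroup.lift _ (φ.comp f) fun a ha => Opi_le _ _ ha, ⟨fun x => ?_, fun a ha => ?_,
      fun ⟨a, ha⟩ => ?_, h.irr.quot (QuotientGroup.mk' _) (QuotientGroup.mk'_surjective _) ?_⟩, ?_⟩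
  · obtain ⟨a, rfl⟩ := (hφ.comp h.surj) x
    exact ⟨a, rfl⟩
  · obtain ⟨a, rfl⟩ := QuotientGroup.mk_surjective a
    obtain ⟨z, hz, e⟩ := h4 a ha
    refine e ▸ mem_center_iff.2 fun b => ?_
    obtain ⟨b, rfl⟩ := QuotientGroup.mk_surjective b
    rw [← QuotientGroup.mk_mul, h.comm hz, QuotientGroup.mk_mul]
  · obtain ⟨a, rfl⟩ := QuotientGroup.mk_surjective a
    obtain ⟨z, hz, e⟩ := h4 a ha
    obtain ⟨n, hn⟩ := h.two ⟨z, hz⟩
    refine ⟨n, Subtype.ext ?_⟩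
    have : z ^ 2 ^ n = 1 := congrArg Subtype.val hn
    simp [e, ← QuotientGroup.mk_pow, this]
  · rw [QuotientGroup.ker_mk']; exact odd_O _
  · rintro _ ⟨a, e, rfl⟩
    exact ⟨a, by rw [← QuotientGroup.mk_mul, e, QuotientGroup.mk_one], rfl⟩

end Cv

theorem Irr.cov (h : Irr G) : Cov G :=
  ⟨G, inferInstance, inferInstance, MonoidHom.id G, Function.surjective_id, by simp,
    by rw [MonoidHom.ker_id]; exact IsPGroup.of_bot, h⟩

omit [Finite G] in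
theorem DS.pp' (h : DS D) : PP G := fun _ _ hQ hg ho e => h.pp hQ hg ho fun x hx d => e x hx (h.sq d)

namespace Cov

theorem exists_ds (h : Cov G) : ∃ D : G → Prop, DS D := let ⟨_, _, _, _, h⟩ := h; ⟨_, h.ds⟩

theorem pp (h : Cov G) : PP G := let ⟨_, h⟩ := h.exists_ds; h.pp'

omit [Finite G] in
theorem sub (h : Cov G) (H : Subgroup G) : Cov H :=
  let ⟨_, _, _, _, h⟩ := h; ⟨_, inferInstance, inferInstance, _, h.sub H⟩

theorem quot (h : Cov G) (φ : G →* X) (hφ : Function.Surjective φ) (ho : Odd ♯φ.ker) : Cov X :=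
  let ⟨_, _, _, _, h⟩ := h
  let ⟨_, _, _, _, h, _⟩ := h.quot φ hφ ho
  ⟨_, inferInstance, inferInstance, _, h⟩

theorem congr (h : Cov G) (e : G ≃* X) : Cov X :=
  h.quot e.toMonoidHom e.surjective (by
    rw [(MonoidHom.ker_eq_bot_iff _).2 e.injective, card_bot]; exact odd_one)

theorem coset (h : Cov G) (ho : Odd ♯N) : Cov (Coset N) :=
  (h.sub 𝐍(N)).quot (cosetHom N) (QuotientGroup.mk'_surjective _) (by
    rw [cosetHom, QuotientGroup.ker_mk']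
    exact (Nat.card_congr (subgroupOfEquivOfLe (le_norm_self N)).toEquiv).symm ▸ ho)

/-- quotients of perfect groups by central 2-subgroups -/
theorem quot_cen (h : Cov G) (hd : der (⊤ : Subgroup G) = ⊤) (φ : G →* X)
    (hφ : Function.Surjective φ) (h1 : φ.ker ≤ center G) (h2 : IsPGroup 2 φ.ker) : Cov X := by
  obtain ⟨Γ, _, _, f, h⟩ := h
  refine ⟨der (⊤ : Subgroup Γ), inferInstance, inferInstance,
    φ.comp (f.comp (der (⊤ : Subgroup Γ)).subtype), fun x => ?_, fun a ha => ?_, fun a => ?_,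
    h.irr.sub _⟩
  · obtain ⟨x, rfl⟩ := hφ x
    have : x ∈ (der (⊤ : Subgroup Γ)).map f := by
      rw [map_commutator, ← MonoidHom.range_eq_map, MonoidHom.range_eq_top.2 h.surj]
      exact hd.ge (mem_top x)
    obtain ⟨a, ha, rfl⟩ := this
    exact ⟨⟨a, ha⟩, rfl⟩
  · have h3 : ⁅zpowers (a : Γ), ⊤⁆ ≤ 𝐂((⊤ : Subgroup Γ)) := commutator_le.2 fun b hb c _ =>
      mem_cent_iff.2 fun d _ => (h.comm (by
        have := zpowers_le.2 (show (a : Γ) ∈ (center G).comap f from h1 ha) hb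
        rw [map_commutatorElement, commutatorElement_eq_one_iff_mul_comm]
        exact (mem_center_iff.1 this _).symm) d)
    have h4 := commutator_eq_bot_iff.2 (le_cent_symm h3)
    have := three_subgroup (A := ⊤) (B := zpowers (a : Γ)) (H := ⊤)
      (by rwa [commutator_comm, commutator_comm ⊤ (zpowers _)]) (by rwa [commutator_comm])
    exact mem_center_iff.2 fun b => Subtype.ext
      (mem_cent_iff.1 (commutator_eq_bot_iff.1 this b.2) _ (mem_zpowers _)).symm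
  · obtain ⟨n, hn⟩ := h.comap h2 ⟨a.1, a.2⟩
    exact ⟨n, Subtype.ext (Subtype.ext (congrArg Subtype.val hn :))⟩

theorem quo_Zc (h : Cov G) (hK : der K = K) (h2 : IsPGroup 2 (Zc K)) : Cov (K ⁒ Zc K) := by
  have hle : K ≤ 𝐍(Zc K) := (Zc_normal K).norm
  let φ : K →* K ⁒ Zc K := ((cosetHom (Zc K)).comp (inclusion hle)).codRestrict _
    fun x => mem_map_of_mem _ x.2
  have h1 : ∀ x ∈ φ.ker, (x : G) ∈ Zc K := fun x hx =>
    (QuotientGroup.eq_one_iff (N := (Zc K).subgroupOf 𝐍(Zc K)) (inclusion hle x)).1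
      (congrArg Subtype.val hx)
  refine (h.sub K).quot_cen ?_ φ ?_ (fun x hx => mem_center_iff.2 fun y => Subtype.ext
    (mem_cent_iff.1 (h1 x hx).2 y y.2)) fun x => ?_
  · apply map_injective K.subtype_injective
    rw [map_commutator, ← MonoidHom.range_eq_map, range_subtype]
    exact hK
  · rintro ⟨_, x, hx, rfl⟩
    exact ⟨⟨x, hx⟩, rfl⟩
  · obtain ⟨n, hn⟩ := h2 ⟨_, h1 x.1 x.2⟩
    exact ⟨n, Subtype.ext (Subtype.ext (congrArg Subtype.val hn :))⟩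

end Cov

/-- the centralizer of a big subgroup has a normal 2-complement -/
theorem DS.pnil (h : DS D) (hV : Big D V) : PNil 2 𝐂(V) := ZG.pnil_two fun R hR h2 g hg hn ho => by
  have h3 : IsPGroup 2 ↥(R ⊔ V) :=
    isPGroup_sup h2 (abelem_isPGroup hV.elem) (Or.inl (le_norm_of_le_cent hR))
  exact cent_anti le_sup_left (h.pp h3 (mem_norm_sup hn (cent_le_norm V hg)) ho fun x hx d =>
    cent_le_cent1 (hV.top _ h3 le_sup_right x hx d) hg)

/-- the same if all involutions are conjugate into `A` -/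
theorem PP.pnil (h : PP G) (hA : SC A) (e : ∀ t : G, t * t = 1 → InD A t) : PNil 2 𝐂(A) :=
  ZG.pnil_two fun R hR h2 g hg hn ho => by
    have h3 : IsPGroup 2 ↥(R ⊔ A) :=
      isPGroup_sup h2 (abelem_isPGroup hA.elem) (Or.inl (le_norm_of_le_cent hR))
    exact cent_anti le_sup_left (h _ g h3 (mem_norm_sup hn (cent_le_norm A hg)) ho fun x hx d =>
      cent_le_cent1 (hA.mem h3 le_sup_right hx (e x d)) hg)

namespace MC

omit [Finite G] in
theorem der_top (h : MC G) : der (⊤ : Subgroup G) = ⊤ :=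
  (h.simple.eq_bot_or_eq_top_of_normal _ (normalIn_top.1 (der_normal ⊤))).resolve_left fun e' =>
    h.nab ⟨⟨fun x y => ab_iff.1 (ab_iff_der.2 e') x (mem_top x) y (mem_top y)⟩⟩

/-- the focal subgroup theorem -/
theorem le_of_ctl (h : MC G) (hS : Syl 2 S ⊤) (hc : Ctl ⊤ S N)
    (e : ∀ x ∈ S, ∀ n ∈ N, n * x * n⁻¹ ∈ S → x⁻¹ * (n * x * n⁻¹) ∈ K) : S ≤ K := by
  have h4 : S ⊓ der ⊤ ≤ K := by
    rw [focal_subgroup_gen hS, closure_le]
    rintro _ ⟨x, hx, g, hg, e1, rfl⟩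
    obtain ⟨n, hn, e'⟩ := hc.elt hx hg e1
    exact e' ▸ e x hx n hn (e' ▸ e1)
  rwa [h.der_top, inf_top_eq] at h4

/-- `N(A)` has no subgroup of index two -/
theorem no_two (h : MC G) (hA : SC A) (h1 : ∀ n ∈ 𝐍(A), ∀ m ∈ 𝐍(A), n ∉ K → m ∉ K → n * m ∈ K) :
    𝐍(A) ≤ K := by
  obtain ⟨S, hS, hle⟩ := exists_syl_ge (M := ⊤) le_top (abelem_isPGroup hA.elem)
  have h3 : S ≤ 𝐍(A) := hA.le_norm hS.isPGroup hle
  have h2 : ∀ n ∈ 𝐍(A), ∀ x ∈ K, x ∈ 𝐍(A) → n * x * n⁻¹ ∈ K := fun n hn x hx hx' => by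
    by_cases e : n ∈ K
    · exact mul_mem (mul_mem e hx) (inv_mem e)
    · exact h1 _ (mul_mem hn hx') _ (inv_mem hn) (by rwa [mul_mem_cancel_right hx])
        (by rwa [inv_mem_iff])
  have h4 : S ≤ K := h.le_of_ctl hS (hA.ctl hS hle) fun x hx n hn _ => by
    by_cases e : x ∈ K
    · exact mul_mem (inv_mem e) (h2 n hn.2 x e (h3 hx))
    refine h1 _ (inv_mem (h3 hx)) _ (mul_mem (mul_mem hn.2 (h3 hx)) (inv_mem hn.2))
      (by rwa [inv_mem_iff]) fun e' => e ?_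
    simpa [mul_assoc] using h2 _ (inv_mem hn.2) _ e' (mul_mem (mul_mem hn.2 (h3 hx)) (inv_mem hn.2))
  refine R4.Ex.le_of_parts (fun x hx e => ?_) fun x hx => by_contra fun e => e (h1 x hx x hx
    (fun e' => e (mul_mem e' e')) fun e' => e (mul_mem e' e'))
  obtain ⟨g, hg, e'⟩ := (hS.mono h3 le_top).exists_conj_le (zpowers_le.2 hx)
    (isPGroup_zpowers_iff.2 e)
  have h5 := e' (conj_mem_conj (mem_zpowers x))
  simpa [mul_assoc] using h2 _ (inv_mem hg) _ (h4 h5) (h3 h5)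

/-- transfer: if `N(S)` controls fusion, `S` has no `N(S)`-invariant subgroup of index two -/
theorem transfer (h : MC G) (hS : Syl 2 S ⊤) (hc : Ctl ⊤ S 𝐍(S)) (hn : 𝐍(S) ≤ 𝐍(K))
    (h1 : ∀ x ∈ S, ∀ y ∈ S, x ∉ K → y ∉ K → x * y ∈ K) : S ≤ K :=
  h.le_of_ctl hS hc fun x hx n hn' e => by
    by_cases e' : x ∈ K
    · exact mul_mem (inv_mem e') (conj_mem_of_norm (hn hn') e')
    · exact h1 _ (inv_mem hx) _ e (by rwa [inv_mem_iff])
        fun e1 => e' ((mem_normalizer_iff.1 (hn hn') x).2 e1)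

end MC

/-- `N(S)` controls fusion if `C(V)` is 2-nilpotent and `S C(V)` is normal in `N(V)` -/
theorem ctl_syl (hV : SC V) (hS : Syl 2 S ⊤) (hle : V ≤ S) (hp : PNil 2 𝐂(V))
    (hn : 𝐍(V) ≤ 𝐍(S ⊔ 𝐂(V))) : Ctl ⊤ S 𝐍(S) := fun Y hY g hg e => by
  have h1 : S ≤ 𝐍(V) := hV.le_norm hS.isPGroup hle
  have h0 : 𝐍(V) ≤ 𝐍(O 𝐂(V)) := le_norm_O (norm_le_norm_cent V)
  obtain ⟨n, hn', e'⟩ := hV.ctl hS hle Y hY g hg e
  have h2 : S ⊔ 𝐂(V) ⊴ 𝐍(V) := ⟨sup_le h1 (cent_le_norm V), hn⟩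
  have h3 : Syl 2 (S ⊓ 𝐂(V)) 𝐂(V) :=
    (hS.mono h1 le_top).inf_normal ⟨cent_le_norm V, norm_le_norm_cent V⟩
  have h4 : S ⊔ 𝐂(V) ≤ O 𝐂(V) ⊔ S := sup_le le_sup_right
    ((hp.sdprod h3).sup_eq.ge.trans (sup_le_sup_left inf_le_left _))
  obtain ⟨a, ha, m, hm, rfl⟩ := ((hS.mono le_sup_left le_top).frattini h2).mem_iff.1 hn'.2
  obtain ⟨o, ho, s, hs, rfl⟩ := (IsProd.of_norm (Or.inr (h1.trans h0))).mem_iff.1 (h4 ha)
  have h5 : s * m ∈ 𝐍(S) := mul_mem (le_normalizer hs) hm.2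
  refine ⟨_, h5, fun x hx => mul_inv_eq_one.1 ?_⟩
  have h6 := conj_mem_of_norm h5 (hY hx)
  refine NS.eq_one_of_two hS.isPGroup (mul_mem (e (conj_mem_conj hx)) (inv_mem h6))
    (odd_of_mem (odd_O 𝐂(V)) ?_)
  rw [e' x hx, show o * s * m * x * (o * s * m)⁻¹ * (s * m * x * (s * m)⁻¹)⁻¹ =
    o * (s * m * x * (s * m)⁻¹ * o⁻¹ * (s * m * x * (s * m)⁻¹)⁻¹) by group]
  exact mul_mem ho (conj_mem_of_norm (h0 (h1 h6)) (inv_mem ho))

/-- the transfer argument for a big subgroup -/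
theorem Big.transfer (h : Big D V) (hG : MC G) (hD : DS D) (hS : Syl 2 S ⊤) (hle : V ≤ S)
    (hn : 𝐍(V) ≤ 𝐍(S ⊔ 𝐂(V))) (hK : 𝐍(S) ≤ 𝐍(K))
    (h1 : ∀ x ∈ S, ∀ y ∈ S, x ∉ K → y ∉ K → x * y ∈ K) : S ≤ K :=
  hG.transfer hS (ctl_syl h.toSC hS hle (hD.pnil h) hn) hK h1

end Cfsg.Agent.I2
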