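import Cfsg.Agent.Lib.I2.Hyp
import Cfsg.Agent.Lib.R4.DEi

/-!
# Basic facts on `D`-embedded subgroups (plan S4030)
-/

set_option autoImplicit false

namespace Cfsg.Agent.I2

open Subgroup Cfsg.Agent.OO Cfsg.Agent.Coprime Cfsg.Agent.SZ Cfsg.Agent.GW Cfsg.Agent.W4
open Cfsg.Agent.R4 (SC MinSC InD IsSz SzF PC SCl exists_pow_conj exists_third)
open scoped commutatorElement Pointwise

universe u

variable {G : Type u} [Group G] {A H K M Q S T U X Y : Subgroup G} {a b d e g s t u w x y z : G}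

/-- the involutions of `N(A)` centralize `A` -/
def IC (A : Subgroup G) : Prop := ∀ t ∈ 𝐍(A), t * t = 1 → t ∈ 𝐂(A)

theorem Cen.ic [Finite G] (h : Cen A) : IC A := fun t ht t2 =>
  h t ht (isPGroup_zpowers_iff.1 (R4.two_elt t2))

theorem MC.cent1_ne_top' (h : MC G) (s1 : s ≠ 1) : 𝐂[s] ≠ ⊤ := fun e => by
  have := h.simple
  rcases this.eq_bot_or_eq_top_of_normal (center G) inferInstance with e' | e'
  · exact s1 (mem_bot.1 (e' ▸ mem_center_iff.2 fun g => mem_cent1.1 (e ▸ mem_top g)))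
  · exact h.nab ⟨⟨fun a b => mem_center_iff.1 (e' ▸ mem_top b) a⟩⟩

namespace DSE

variable (h : DSE A M)
include h

theorem A_le : A ≤ M := le_normalizer.trans h.norm

theorem cent_A : 𝐂(A) ≤ M := (cent_le_norm _).trans h.norm

variable [Finite G]

theorem exists_ne : ∃ a ∈ A, a ≠ 1 := exists_mem_ne_one fun e => by simpa [e] using h.four

theorem not_cyc : ¬ IsCyclic A := not_isCyclic h.elem (by have := h.four; omega)

/-- an element of `D` fixes only one point -/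
theorem mem (hd : d ∈ M) (h1 : InD A d) (d1 : d ≠ 1) (e : g * d * g⁻¹ ∈ M) : g ∈ M := by
  obtain ⟨k, hk, h2⟩ := h.toSC.exists_conj_mem h.A_le hd h1
  obtain ⟨l, hl, h3⟩ := h.toSC.exists_conj_mem h.A_le e (h1.conj g)
  obtain ⟨n, hn, h4⟩ := h.toSC.fuse le_top h2 (mem_top (l * g * k⁻¹)) (by convert h3 using 1; group)
  have h5 : n⁻¹ * (l * g * k⁻¹) ∈ M := h.cent _ h2 (BSW.conj_ne_one d1) (mem_cent1_iff_conj.2 (by
    calc _ = n⁻¹ * (l * g * k⁻¹ * (k * d * k⁻¹) * (l * g * k⁻¹)⁻¹) * n := by group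
      _ = _ := by rw [h4]; group))
  convert mul_mem (mul_mem (inv_mem hl) (mul_mem (h.norm hn.2) h5)) hk using 1
  group

theorem cent_le (hd : d ∈ M) (h1 : InD A d) (d1 : d ≠ 1) : 𝐂[d] ≤ M := fun _ hg =>
  h.mem hd h1 d1 ((mem_cent1_iff_conj.1 hg).symm ▸ hd)

theorem odd_mul (hs : s ∈ M) (h1 : InD A s) (s1 : s ≠ 1) (hu : u ∉ M) (h2 : InD A u) :
    ¬ 2 ∣ orderOf (u * s) := fun e => by
  obtain ⟨z, -, z1, h3, h4, h5⟩ := h.toSC.dih h2 h1 e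
  exact hu (h.cent_le (h.cent_le hs h1 s1 (mem_cent1.2 h5)) h3 z1 (mem_cent1.2 h4.symm))

/-- `D ⊓ H` is a single class of `H` -/
theorem conj_in (hH : ¬ H ≤ M) (hs : s ∈ H ⊓ M) (h1 : InD A s) (s1 : s ≠ 1) (ht : t ∈ H)
    (h2 : InD A t) (t1 : t ≠ 1) : ∃ g ∈ H, g * s * g⁻¹ = t := by
  have key : ∀ s ∈ H ⊓ M, InD A s → s ≠ 1 → ∀ t ∈ H, InD A t → t ∉ M → ∃ g ∈ H, g * s * g⁻¹ = t :=
    fun s hs h1 s1 t ht h2 h3 => by
      obtain ⟨k, hk, e⟩ := exists_pow_conj (h.toSC.sqD h1) (h.toSC.sqD h2)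
        (h.odd_mul hs.2 h1 s1 h3 h2)
      exact ⟨k, zpowers_le.2 (mul_mem ht hs.1) hk, e⟩
  by_cases h3 : t ∈ M
  · obtain ⟨g, hg, h4⟩ := SetLike.not_le_iff_exists.1 hH
    obtain ⟨k, hk, e⟩ := key t ⟨ht, h3⟩ h2 t1 (g * s * g⁻¹) (mul_mem (mul_mem hg hs.1) (inv_mem hg))
      (h1.conj g) fun e => h4 (h.mem hs.2 h1 s1 e)
    refine ⟨k⁻¹ * g, mul_mem (inv_mem hk) hg, ?_⟩
    calc _ = k⁻¹ * (g * s * g⁻¹) * k := by group
      _ = t := by rw [← e]; group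
  · exact key s hs h1 s1 t ht h2 h3

theorem trans_in (hA : A ≤ H) (hH : ¬ H ≤ M) (ha : a ∈ A) (hb : b ∈ A) (a1 : a ≠ 1) (b1 : b ≠ 1) :
    ∃ g ∈ H ⊓ 𝐍(A), g * a * g⁻¹ = b := by
  obtain ⟨g, hg, e⟩ := h.conj_in hH ⟨hA ha, h.A_le ha⟩ (.of_mem ha) a1 (hA hb) (.of_mem hb) b1
  obtain ⟨n, hn, e'⟩ := h.toSC.fuse hA ha hg (e ▸ hb)
  exact ⟨n, hn, e'.symm.trans e⟩

theorem not_top_le : ¬ ⊤ ≤ M := fun e => h.ne (top_le_iff.1 e)

theorem trans (ha : a ∈ A) (hb : b ∈ A) (a1 : a ≠ 1) (b1 : b ≠ 1) :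
    ∃ g ∈ 𝐍(A), g * a * g⁻¹ = b :=
  let ⟨g, hg, e⟩ := h.trans_in le_top h.not_top_le ha hb a1 b1; ⟨g, hg.2, e⟩

/-- `D ⊓ H ⊓ M` is a single class of `H ⊓ M` -/
theorem conj_inM (hH : ¬ H ≤ M) (hs : s ∈ H ⊓ M) (h1 : InD A s) (s1 : s ≠ 1) (ht : t ∈ H ⊓ M)
    (h2 : InD A t) (t1 : t ≠ 1) : ∃ g ∈ H ⊓ M, g * s * g⁻¹ = t :=
  let ⟨g, hg, e⟩ := h.conj_in hH hs h1 s1 ht.1 h2 t1; ⟨g, ⟨hg, h.mem hs.2 h1 s1 (e ▸ ht.2)⟩, e⟩

theorem conj_M (hs : s ∈ M) (h1 : InD A s) (s1 : s ≠ 1) (ht : t ∈ M) (h2 : InD A t) (t1 : t ≠ 1) :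
    ∃ g ∈ M, g * s * g⁻¹ = t :=
  let ⟨g, hg, e⟩ := h.conj_inM h.not_top_le ⟨trivial, hs⟩ h1 s1 ⟨trivial, ht⟩ h2 t1; ⟨g, hg.2, e⟩

theorem exists_out : ∃ u ∉ M, InD A u := by
  obtain ⟨g, -, hg⟩ := SetLike.not_le_iff_exists.1 h.not_top_le
  obtain ⟨a, ha, a1⟩ := h.exists_ne
  exact ⟨_, fun e => hg (h.mem (h.A_le ha) (.of_mem ha) a1 e), (InD.of_mem ha).conj g⟩

/-- odd order subgroups normalized by `A` lie in `M` -/
theorem le_of_odd (hY : Odd ♯Y) (hn : A ≤ 𝐍(Y)) : Y ≤ M :=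
  le_of_forall_centralizer_le h.toSC.ab h.not_cyc hn (cop hY h.toSC.two).symm
    fun a ha a1 => inf_le_right.trans (h.cent a ha a1)

/-- two elements of `D` swapping the same points have a product of odd order -/
theorem odd_swap (hu : u ∉ M) (h1 : InD A u) (h2 : InD A w) (e : u * w ∈ M) :
    ¬ 2 ∣ orderOf (w * u) := fun e' => by
  obtain ⟨z, hz, z1, h3, -, h5⟩ := h.toSC.dih h2 h1 e'
  have : w * u ∈ M := by
    rw [← GW.inv_eq (h.toSC.sqD h1), ← GW.inv_eq (h.toSC.sqD h2), ← mul_inv_rev]; exact inv_mem e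
  exact hu (h.cent_le (zpowers_le.2 this hz) h3 z1 (mem_cent1.2 h5.symm))

theorem exists_swap (hu : u ∉ M) (h1 : InD A u) (hs : s ∈ M) (h2 : InD A s) (s1 : s ≠ 1)
    (ht : t ∈ M) (h3 : InD A t) (t1 : t ≠ 1) :
    ∃ w ∈ zpowers s ⊔ zpowers (u * t * u⁻¹), InD A w ∧ u * w ∈ M ∧ u * w * s * (u * w)⁻¹ = t := by
  have u2 := h.toSC.sqD h1
  have s2 := h.toSC.sqD h2
  have h4 : u * t * u⁻¹ ∉ M := fun e => hu (h.mem ht h3 t1 e)
  have h5 := h.odd_mul hs h2 s1 h4 (h3.conj u)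
  obtain ⟨j, hj⟩ := R1.exists_conj_of_odd (conj_sq (h.toSC.sqD h3) u) s2 h5
  obtain ⟨i, hi⟩ := SEA.exists_sqrt (x := (u * t * u⁻¹ * s) ^ j) fun e => h5 (e.trans (orderOf_pow_dvd j))
  have e : u * ((u * t * u⁻¹ * s) ^ j * s) * s * (u * ((u * t * u⁻¹ * s) ^ j * s))⁻¹ = t := by
    calc _ = u * ((u * t * u⁻¹ * s) ^ j * s * ((u * t * u⁻¹ * s) ^ j)⁻¹) * u⁻¹ := by group
      _ = t := by rw [hj, GW.inv_eq u2]; simp only [← mul_assoc, u2, one_mul]; rw [mul_assoc, u2, mul_one]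
  refine ⟨(u * t * u⁻¹ * s) ^ j * s, mul_mem (pow_mem (mul_mem (mem_sup_right (mem_zpowers _))
    (mem_sup_left (mem_zpowers _))) j) (mem_sup_left (mem_zpowers _)), ?_,
    h.mem hs h2 s1 (e.symm ▸ ht), e⟩
  rw [← hi, ← pow_mul, ← pow_add, ← two_mul, ← R1.pow_conj_right (conj_sq (h.toSC.sqD h3) u) s2]
  exact h2.conj _

theorem swap_inj (hu : u ∉ M) (h1 : InD A u) (h2 : InD A w) (e : u * w ∈ M) (hs : s ∈ M)
    (h3 : InD A s) (s1 : s ≠ 1) (hc : u * w ∈ 𝐂[s]) : w = u := by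
  have u2 := h.toSC.sqD h1
  have w2 := h.toSC.sqD h2
  obtain ⟨v, hv, h4, h5, -⟩ := h.exists_swap hu h1 hs h3 s1 hs h3 s1
  have e1 : u * (u * w) * u⁻¹ = (u * w)⁻¹ := by
    rw [mul_inv_rev, GW.inv_eq w2, ← mul_assoc, u2, one_mul]
  have h6 : v ∈ 𝐂[u * w] := by
    refine sup_le (zpowers_le.2 (mem_cent1_comm.1 hc)) (zpowers_le.2 ?_) hv
    rw [← cent1_inv, ← e1, cent1_conj]
    exact conj_mem_conj (mem_cent1_comm.1 hc)
  have e2 : v * u * (u * w)⁻¹ * (v * u)⁻¹ = (u * w)⁻¹⁻¹ := by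
    have := mem_cent1_iff_conj.1 h6
    calc _ = v * (u * (u * w) * u⁻¹)⁻¹ * v⁻¹ := by group
      _ = _ := by rw [e1, inv_inv, this]
  have h7 := BSW.mul_self_eq_one_of_odd (Nat.not_even_iff_odd.1 fun e' =>
    h.odd_swap hu h1 h4 h5 e'.two_dvd) e2
  rw [mul_inv_rev, GW.inv_eq w2, GW.inv_eq u2] at h7
  rw [eq_inv_of_mul_eq_one_left (SEA.odd_sq_eq_one (h.odd_swap hu h1 h2 e) h7), GW.inv_eq u2]

/-- there is a subgroup of odd order which is transitive on `D ⊓ M` -/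
theorem r2 : ∃ Y ≤ M, Odd ♯Y ∧ ∀ s ∈ M, InD A s → s ≠ 1 → ∀ t ∈ M, InD A t → t ≠ 1 →
    ∃ y ∈ Y, y * s * y⁻¹ = t := by
  obtain ⟨u, hu, h1⟩ := h.exists_out
  have u2 := h.toSC.sqD h1
  have ui := GW.inv_eq u2
  have hn : zpowers u ≤ 𝐍(M ⊓ u •ᶜ M) := zpowers_le.2 (by
    rw [← conj_eq_self_iff, conj_inf, conj_conj, u2, one_conj, inf_comm])
  have hH : ∀ g ∈ M ⊓ u •ᶜ M ⊔ zpowers u, g * g ∈ M ∧ u * (g * u * g⁻¹) ∈ M := fun g hg => by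
    obtain ⟨d, hd, v, hv, rfl⟩ := (mem_sup_norm_left hn).1 hg
    have h2 : u * d * u⁻¹ ∈ M := (conj_mem_of_norm (hn (mem_zpowers u)) hd).1
    rcases (mem_zp u2).1 hv with rfl | rfl
    · exact ⟨by simpa using mul_mem hd.1 hd.1, by
        convert mul_mem h2 (inv_mem hd.1) using 1; rw [ui]; group⟩
    · exact ⟨by convert M.mul_mem hd.1 h2 using 1; rw [ui]; group, by
        convert mul_mem h2 (inv_mem hd.1) using 1; rw [ui]; group⟩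
  have hD : ∀ w, InD A w → u * w ∈ M → w * u ∈ M ⊓ u •ᶜ M := fun w h2 e =>
    ⟨by rw [← ui, ← GW.inv_eq (h.toSC.sqD h2), ← mul_inv_rev]; exact M.inv_mem e, mem_conj.2 (by
      rw [ui, mul_assoc, mul_assoc, u2, mul_one]; exact e)⟩
  generalize hH' : M ⊓ u •ᶜ M ⊔ zpowers u = H at hH
  have huH : u ∈ H := hH' ▸ mem_sup_right (mem_zpowers u)
  have hZ : ∀ g ∈ H, g * u * g⁻¹ * u⁻¹ ∈ O H := fun g hg => by
    have := R1.zstar_aux H ⟨u, huH⟩ (Subtype.ext u2) (fun ⟨k, hk⟩ => by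
      rw [← orderOf_coe]; exact h.odd_swap hu h1 (h1.conj k) (hH k hk).2) ⟨g, hg⟩
    rw [O, Op'_eq_map]; exact ⟨_, this, rfl⟩
  have hJ : ∀ w, InD A w → u * w ∈ M → w * u ∈ O H ∧ ∃ y ∈ O H, w = y * u * y⁻¹ := fun w h2 e => by
    obtain ⟨k, hk, e'⟩ := exists_pow_conj u2 (h.toSC.sqD h2) (h.odd_swap hu h1 h2 e)
    have h3 := hZ k (zpowers_le.2 (hH' ▸ mem_sup_left (hD w h2 e)) hk)
    rw [e', ui] at h3
    exact ⟨h3, k, zpowers_le.2 h3 hk, e'.symm⟩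
  have hJ' : ∀ w, InD A w → u * w ∈ M → u * w ∈ O H := fun w h2 e => by
    rw [← ui, ← GW.inv_eq (h.toSC.sqD h2), ← mul_inv_rev]; exact inv_mem (hJ w h2 e).1
  refine ⟨O H, fun y hy => ?_, odd_O H, fun s hs h2 s1 t ht h3 t1 => ?_⟩
  · obtain ⟨j, hj⟩ := SEA.exists_sqrt (x := y) fun e =>
      Nat.not_even_iff_odd.2 (odd_of_mem (odd_O H) hy) (even_iff_two_dvd.2 e)
    exact hj ▸ (hH _ (pow_mem (O_le H hy) j)).1
  · obtain ⟨w, -, h4, h5, e⟩ := h.exists_swap hu h1 hs h2 s1 ht h3 t1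
    exact ⟨_, hJ' w h4 h5, e⟩

theorem exists_card : ∃ n, 2 ≤ n ∧ ♯A = 2 ^ n := by
  obtain ⟨n, hn⟩ := h.toSC.two.exists_card_eq
  refine ⟨n, ?_, hn⟩
  have := h.four
  rw [hn] at this
  exact (Nat.pow_le_pow_iff_right (a := 2) (by norm_num)).1 this

theorem relIndex_cent (ha : a ∈ A) (a1 : a ≠ 1) : (𝐂[a]).relIndex 𝐍(A) = ♯A - 1 := by
  rw [relIndex_centralizer_eq_ncard, ← ncard_sharp]
  congr 1
  refine Set.ext fun v => ⟨?_, fun hv => ?_⟩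
  · rintro ⟨l, hl, rfl⟩
    exact conj_mem_sharp hl ⟨ha, a1⟩
  · obtain ⟨g, hg, e⟩ := h.trans ha hv.1 a1 hv.2
    exact ⟨g, hg, e.symm⟩

theorem card_lt : ♯M + 1 ≤ Nat.card G := by
  have := card_lt_of_lt (lt_top_iff_ne_top.2 h.ne)
  rwa [card_top] at this

theorem not_inD_mul (h1 : ¬ InD A s) (he : InD A e) (hc : e ∈ 𝐂[s]) : ¬ InD A (s * e) := fun h2 => by
  have := h.toSC.mulD h2 he (by rw [← mul_assoc, mem_cent1.1 hc])
  rw [mul_assoc, h.toSC.sqD he, mul_one] at this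
  exact h1 this


section

variable (ic : IC A)
include ic

/-- an involution is conjugate into `C(A)` -/
theorem exists_conj_inv (hA : A ≤ H) (ht : t ∈ H) (t2 : t * t = 1) : ∃ g ∈ H, g * t * g⁻¹ ∈ 𝐂(A) :=
  let ⟨g, hg, _, hS, h1, h3⟩ := h.toSC.exists_conj hA (zpowers_le.2 ht) (R4.two_elt t2)
  ⟨g, hg, ic _ (h.toSC.le_norm hS.isPGroup h1 (h3 (conj_mem_conj (mem_zpowers t)))) (conj_sq t2 g)⟩

theorem cent_inv (hT : IsPGroup 2 T) (hd : d ∈ T) (h1 : InD A d) (ht : t ∈ T) (t2 : t * t = 1) :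
    t ∈ 𝐂[d] := by
  obtain ⟨g, -, S, hS, h2, h3⟩ := h.toSC.exists_conj (le_top : A ≤ ⊤) le_top hT
  have := cent_le_cent1 (h.toSC.mem_of_two hS.isPGroup h2 (h3 (conj_mem_conj hd)) (h1.conj g))
    (ic _ (h.toSC.le_norm hS.isPGroup h2 (h3 (conj_mem_conj ht))) (conj_sq t2 g))
  rw [cent1_conj, mem_conj] at this
  simpa [mul_assoc] using this

/-- the dihedral group generated by an element of `D` and an involution -/
theorem dI (hd : InD A d) (d1 : d ≠ 1) (hs : s * s = 1) : ∃ e ∈ zpowers d ⊔ zpowers s,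
    InD A e ∧ e ≠ 1 ∧ e ∈ 𝐂[s] ∧ d ∈ 𝐂[s * e] ∧ ¬ 2 ∣ orderOf (d * e) := by
  have d2 := h.toSC.sqD hd
  obtain ⟨i, ρ, ⟨j, rfl⟩, e⟩ := Nat.exists_eq_two_pow_mul_odd (orderOf_pos (d * s)).ne'
  have e1 : d * (d * s) ^ (2 * j + 1) * d⁻¹ = ((d * s) ^ (2 * j + 1))⁻¹ := by
    rw [← conj_pow, ← inv_pow, mul_inv_rev, GW.inv_eq hs, ← mul_assoc, d2, one_mul]
  have e2 : (d * s) ^ (2 * j + 1) ∈ 𝐂[d] := (mul_mem_cancel_left (mem_cent1_self d)).1 (h.cent_inv ic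
    (T := zpowers ((d * s) ^ (2 * j + 1)) ⊔ zpowers d)
    (isPGroup_sup (IsPGroup.of_card (n := i) (by
      rw [Nat.card_zpowers, orderOf_pow, e, Nat.gcd_mul_left_left, Nat.mul_div_cancel _ (by omega)]))
      (R4.two_elt d2) (Or.inr (zpowers_le.2 (mem_norm_of_conj_le (by
        rw [conj_zpowers, e1, zpowers_inv])))))
    (mem_sup_right (mem_zpowers d)) hd
    (mul_mem (mem_sup_right (mem_zpowers d)) (mem_sup_left (mem_zpowers _)))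
    (by rw [← mul_assoc, ← inv_mul_cancel ((d * s) ^ (2 * j + 1)), ← e1, GW.inv_eq d2]))
  have e3 : (d * s) ^ (2 * (2 * j + 1)) = 1 := by
    rw [mem_cent1_iff_conj.1 (mem_cent1_comm.1 e2)] at e1
    rw [two_mul, pow_add]; nth_rw 1 [e1]; exact inv_mul_cancel _
  have e4 := R1.commute_of_pow_sq d2 hs e3
  have e5 : s * ((d * s) ^ (2 * j + 1) * s) = (d * s) ^ (2 * j + 1) := by
    rw [e4.eq, ← mul_assoc, hs, one_mul]
  refine ⟨(d * s) ^ (2 * j + 1) * s, mul_mem (pow_mem (mul_mem (mem_sup_left (mem_zpowers d))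
    (mem_sup_right (mem_zpowers s))) _) (mem_sup_right (mem_zpowers s)),
    R1.pow_conj_left d2 hs j ▸ hd.conj _, R1.pow_conj_left d2 hs j ▸ BSW.conj_ne_one d1,
    mul_mem (mem_cent1.2 e4.eq) (mem_cent1_self s), e5.symm ▸ mem_cent1_comm.1 e2, fun e6 => ?_⟩
  have e7 : orderOf (d * ((d * s) ^ (2 * j + 1) * s)) ∣ 2 * j + 1 := orderOf_dvd_of_pow_eq_one (by
    rw [e4.eq, ← mul_assoc, ← pow_succ', ← pow_mul,
      show (2 * j + 1 + 1) * (2 * j + 1) = 2 * (2 * j + 1) * (j + 1) by ring, pow_mul, e3, one_pow])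
  have := e6.trans e7
  omega

theorem big_mul (hs : s ∈ 𝐂(A)) (s2 : s * s = 1) (h1 : ¬ InD A s) (hb : ¬ 𝐂[s] ≤ M) (ha : a ∈ A)
    (a1 : a ≠ 1) : ¬ 𝐂[s * a] ≤ M := fun h2 => by
  have := h.simple
  have h3 : s ∈ M.normalCore := fun g => by
    obtain ⟨e, -, h4, e1, h5, h6, -⟩ := h.dI ic ((InD.of_mem ha).conj g⁻¹) (BSW.conj_ne_one a1) s2
    obtain ⟨c, hc, rfl⟩ := h.conj_in hb ⟨R4.DM.A_le_cent hs ha, h.A_le ha⟩ (.of_mem ha) a1 h5 h4 e1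
    have h7 : c⁻¹ * g⁻¹ ∈ M := h.mem (h.A_le ha) (.of_mem ha) a1 (h2 (by
      rw [← mem_cent1_iff_conj.1 hc, conj_mul, cent1_conj, mem_conj] at h6
      convert h6 using 1; group))
    convert mul_mem (mul_mem (inv_mem h7) (h.cent_A hs)) h7 using 1
    nth_rw 1 [← mem_cent1_iff_conj.1 hc]
    group
  rcases this.eq_bot_or_eq_top_of_normal M.normalCore inferInstance with e | e
  · exact h1 (mem_bot.1 (e ▸ h3) ▸ InD.one)
  · exact h.ne (top_le_iff.1 (e ▸ M.normalCore_le))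

/-- the involutions outside `D` fix more than one point -/
theorem big (hs : s ∈ 𝐂(A)) (s2 : s * s = 1) (h1 : ¬ InD A s) : ¬ 𝐂[s] ≤ M := fun h2 => by
  obtain ⟨u, hu, h3⟩ := h.exists_out
  obtain ⟨e, -, h4, e1, h5, h6, -⟩ := h.dI ic h3 (by rintro rfl; exact hu (one_mem _)) s2
  have e2 := h.toSC.sqD h4
  obtain ⟨g, hg, S, hS, h7, h8⟩ := h.toSC.exists_conj h.A_le
    (sup_le (zpowers_le.2 (h.cent_A hs)) (zpowers_le.2 (h2 h5)))
    (R4.SC.two_pair s2 e2 (mem_cent1.1 h5).symm)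
  have h9 := h.toSC.mem_of_two hS.isPGroup h7 (h8 (conj_mem_conj (mem_sup_right (mem_zpowers e))))
    (h4.conj g)
  refine h.big_mul ic (s := g * (s * e) * g⁻¹) (ic _ (h.toSC.le_norm hS.isPGroup h7 (h8 (conj_mem_conj
    (mul_mem (mem_sup_left (mem_zpowers s)) (mem_sup_right (mem_zpowers e))))))
      (conj_sq (R4.DM.mul_sq s2 e2 h5) g)) (conj_sq (R4.DM.mul_sq s2 e2 h5) g)
    (fun e => h.not_inD_mul h1 h4 h5 e.of_conj) (fun e => hu ?_) h9 (BSW.conj_ne_one e1) ?_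
  · rw [cent1_conj, conj_le_iff_le_inv_conj, conj_eq_of_mem (inv_mem hg)] at e
    exact e h6
  · rw [conj_mul, mul_assoc s, e2, mul_one, cent1_conj]
    exact conj_le_of_mem hg h2

end

end DSE

theorem De.false_of_sc [Finite G] (h : DSE A M) (hc : Cen A) (hU : SC U) (h1 : U ≤ 𝐂(A))
    (h2 : A ⊓ U = ⊥) (h3 : U ≠ ⊥) : False := by
  obtain ⟨u, hu, u1⟩ := exists_mem_ne_one h3
  have hT : IsPGroup 2 (A ⊔ U : Subgroup G) :=
    isPGroup_sup h.toSC.two hU.two (.inr (le_norm_of_le_cent h1))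
  have h4 : ¬ InD A u := fun e => u1 (mem_bot.1 (h2.le (mem_inf.2
    ⟨h.toSC.mem_of_two hT le_sup_left (mem_sup_right hu) e, hu⟩)))
  obtain ⟨a, ha, a1⟩ := h.exists_ne
  obtain ⟨b, hb, b1, ab⟩ := exists_third (W := A) (by have := h.four; omega) a
  obtain ⟨g, hg, e⟩ := h.trans_in (R4.DM.A_le_cent (mul_mem (h1 hu) (h.toSC.ab.le_cent ha)))
    (h.big_mul hc.ic (h1 hu) (hU.sq hu) h4 (h.big hc.ic (h1 hu) (hU.sq hu) h4) ha a1) ha hb a1 b1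
  have e1 : g * u * g⁻¹ = u * (a * b⁻¹) := by
    rw [← mul_assoc, ← mem_cent1_iff_conj.1 hg.1, ← e]; group
  have h5 := mul_mem ha (inv_mem hb)
  have h6 := hU.cl _ hT le_sup_right u hu g (e1 ▸ mul_mem (mem_sup_right hu) (mem_sup_left h5))
  rw [e1, mul_mem_cancel_left hu] at h6
  exact ab (mul_inv_eq_one.1 (mem_bot.1 (h2.le (mem_inf.2 ⟨h5, h6⟩)))).symm

end Cfsg.Agent.I2
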