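import Cfsg.Agent.Lib.I2.DE0
import Cfsg.Agent.Lib.SE.NB2
import Cfsg.Agent.Lib.JR.Main
import Cfsg.Agent.Lib.SEA.Lin
import Cfsg.Agent.Lib.Schur.CyclicSylow

/-!
# Package DE1 of plan S4030: the structure of a maximal embedded subgroup
-/

set_option autoImplicit false

namespace Cfsg.Agent.I2

open Subgroup Cfsg.Agent.OO Cfsg.Agent.Coprime Cfsg.Agent.SZ Cfsg.Agent.GW Cfsg.Agent.W4
open Cfsg.Agent.R4 (SC MinSC InD IsSz SzF PC SCl exists_pow_conj exists_third)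
open scoped commutatorElement Pointwise

universe u

variable {G : Type u} [Group G] [Finite G] {D : G → Prop} {A M T Y : Subgroup G} {a e t x : G}

namespace De

theorem central {V : Type*} [AddCommGroup V] [Module (ZMod 2) V] [Finite V] [Nontrivial V]
    {ρ : G →* Module.End (ZMod 2) V} (inj : Function.Injective ρ) (hY : Odd ♯Y)
    (tr : ∀ v w : V, v ≠ 0 → w ≠ 0 → ∃ y ∈ Y, ρ y v = w) (e2 : e * e = 1) (ho : R1.OddConj e)
    (hd : e ∈ commutator G) (g : G) : g * e * g⁻¹ = e := by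
  have hO : O (⊤ : Subgroup G) ⊴ ⊤ := Opi_normal _ _
  have h1 : Odd ♯(O ⊤ ⊔ Y : Subgroup G) :=
    ((odd_O _).mul hY).of_dvd_nat (IsProd.of_norm (.inr (le_top.trans hO.norm))).card_dvd
  have h2 := Lin1.PT.isCyclic_fitting (ρ := ρ.comp (O ⊤ ⊔ Y).subtype) (fun v w hv hw =>
    let ⟨y, hy, e⟩ := tr v w hv hw; ⟨⟨y, mem_sup_right hy⟩, 1, e.trans (one_smul _ _).symm⟩)
    (inj.comp (subtype_injective _)) h1 (by
      obtain ⟨m, hm⟩ := h1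
      rw [hm]; push_cast; rw [show (2 : ZMod 2) = 0 from rfl]; simp)
  have h3 : IsCyclic (Fit (O (⊤ : Subgroup G))) := isCyclic_of_le' (B := Fit (O ⊤ ⊔ Y))
    (isCyclic_of_surjective _ (equivMapOfInjective _ _ (subtype_injective _)).surjective)
    (Fit_le_of_normal (hO.mono le_sup_left le_top))
  have := normalIn_top.1 hO.Fit
  have h4 := coprime_cent_Fitting (A := zpowers e) (le_top.trans hO.norm)
    (cop (odd_O _) (R4.two_elt e2)) (sol_of_odd (odd_O _))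
    ⟨mem_zpowers e, Schur.commutator_le_centralizer_of_isCyclic _ hd⟩
  have h5 : g * e * g⁻¹ * e⁻¹ ∈ O ⊤ := by rw [O, Op'_top]; exact R1.zstar_aux G e e2 ho g
  have h6 := h4 _ h5
  rw [inv_mul_cancel_right, ← mul_assoc, eq_comm, mul_inv_eq_iff_eq_mul] at h6
  exact ho.eq_of_commute e2 h6.symm

theorem mem_der (h : MC G) (hA : SC A) (hx : x ∈ 𝐍(A)) (h2 : IsPGroup 2 (zpowers x)) :
    x ∈ der 𝐍(A) := by
  obtain ⟨S, hS, hle⟩ := exists_syl_ge (M := ⊤) le_top hA.two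
  have h1 : der (⊤ : Subgroup G) = ⊤ :=
    (h.simple.eq_bot_or_eq_top_of_normal _ (normalIn_top.1 (der_normal ⊤))).resolve_left fun e' =>
      h.nab ⟨⟨fun x y => ab_iff.1 (ab_iff_der.2 e') x (mem_top x) y (mem_top y)⟩⟩
  have h3 : S ≤ 𝐍(A) := hA.le_norm hS.isPGroup hle
  have h4 : S ⊓ der ⊤ ≤ der 𝐍(A) := by
    rw [focal_subgroup_gen hS, closure_le]
    rintro _ ⟨x, hx, g, hg, e, rfl⟩
    obtain ⟨n, hn, e'⟩ := (hA.ctl hS hle).elt hx hg e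
    rw [e', show x⁻¹ * (n * x * n⁻¹) = ⁅x⁻¹, n⁆ by simp only [commutatorElement_def]; group]
    exact commutator_mem_commutator (inv_mem (h3 hx)) hn.2
  obtain ⟨g, hg, e'⟩ := (hS.mono h3 le_top).exists_conj_le (zpowers_le.2 hx) h2
  simpa [mul_assoc] using conj_mem_of_norm' ((der_normal _).norm hg)
    (h4 ⟨e' (conj_mem_conj (mem_zpowers x)), h1.ge (mem_top _)⟩)

end De

namespace DSE

variable (h : DSE A M)
include h

theorem mem_D (hD : DS D) (ha : a ∈ A) : D a := by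
  by_cases a1 : a = 1
  · exact a1 ▸ hD.one
  obtain ⟨b, hb, b1, ab⟩ := exists_third (W := A) (by have := h.four; omega) a
  obtain ⟨g, -, e⟩ := h.trans hb (mul_mem ha (inv_mem hb)) b1 fun e => ab (mul_inv_eq_one.1 e).symm
  simpa [e] using hD.om (g := g) h.toSC.two (h.toSC.sq hb) hb (e ▸ mul_mem ha (inv_mem hb))

theorem cent_of_D (hD : DS D) (hx : x ∈ 𝐍(A)) (h1 : D x) : x ∈ 𝐂(A) := fun a ha => by
  have := hD.sq (hD.mul (isPGroup_sup h.toSC.two (R4.two_elt (hD.sq h1)) (.inr (zpowers_le.2 hx)))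
    (mem_sup_left ha) (mem_sup_right (mem_zpowers x)) (h.mem_D hD ha) h1)
  rw [← GW.inv_eq this, mul_inv_rev, h.toSC.inv_eq ha, GW.inv_eq (hD.sq h1)]

theorem normO (kf2 : KF2.{u}) (h8 : 8 ≤ ♯A) : M ≤ 𝐍(A ⊔ O M) := by
  obtain ⟨T, hT, h1⟩ := exists_syl_ge h.A_le h.toSC.two
  obtain ⟨𝓛, hF⟩ := kf2 G A M T h.cov (h.ky.mono h.card_lt) hT h1 h.elem
    (h.toSC.scl hT.isPGroup h1 M)
  have hO : M ≤ 𝐍(O M) := le_norm_O le_normalizer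
  have hb := inf_eq_bot_odd h.toSC.two (odd_O M)
  rcases 𝓛.eq_empty_or_nonempty with rfl | ⟨L, hL⟩
  · refine fun g hg => mem_norm_of_conj_le ?_
    rw [conj_sup, conj_eq_of_mem_norm (hO hg)]
    exact sup_le (conj_le_iff.2 fun a ha => by
      rw [sup_comm]; exact hF.a0 a ha (by simp) g hg) le_sup_right
  exfalso
  have mv : ∀ L ∈ 𝓛, ∀ W k, Cp A M L W k → ∀ w ∈ W, w ≠ 1 → ∀ g ∈ 𝐍(A), ∀ L' ∈ 𝓛,
      g •ᶜ (L ⊔ O M) = L' ⊔ O M → g * w * g⁻¹ ∉ 𝐂(L') := fun L hL W k hc w hw w1 g hg L' hL' e e1 => by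
    obtain ⟨v, hv, v1, e2⟩ := exists_third hc.four w
    obtain ⟨j, hj⟩ := hc.cyc w hw v hv w1 v1
    obtain ⟨W', k', hc'⟩ := hF.cp L' hL'
    obtain ⟨l, hl, o, ho, e3⟩ := (mem_sup_norm_right (hc'.le.trans hO)).1
      (e ▸ conj_mem_conj (mem_sup_left (pow_mem hc.kL j)) : g * k ^ j * g⁻¹ ∈ L' ⊔ O M)
    have h2 := conj_mem_of_norm hg (hc.wle hw).1
    have h3 : (g * w * g⁻¹)⁻¹ * (g * v * g⁻¹) ∈ A ⊓ O M := mem_inf.2
      ⟨mul_mem (inv_mem h2) (conj_mem_of_norm hg (hc.wle hv).1), by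
        have h4 := conj_mem_of_norm (hO (hc'.le hl))
          (mul_mem (conj_mem_of_norm' (hO (h.A_le h2)) ho) (inv_mem ho))
        have h5 : g * v * g⁻¹ = l * o * (g * w * g⁻¹) * (l * o)⁻¹ := by rw [e3, ← hj]; group
        have h6 := mem_cent_iff_conj.1 (inv_mem e1) l hl
        rw [h5]
        generalize g * w * g⁻¹ = a at *
        convert h4 using 1
        calc _ = a⁻¹ * l * a⁻¹⁻¹ * (a⁻¹ * o * a * o⁻¹) * l⁻¹ := by group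
          _ = _ := by rw [h6]⟩
    rw [hb, mem_bot, inv_mul_eq_one, mul_left_inj, mul_right_inj] at h3
    exact e2 h3.symm
  have key : ∀ L ∈ 𝓛, A ⊓ 𝐂(L) = ⊥ := fun L hL => by
    obtain ⟨W, k, hc⟩ := hF.cp L hL
    obtain ⟨w, hw, w1, -⟩ := exists_third hc.four 1
    have hw' := hc.wle hw
    have w2 : w ∉ 𝐂(L) := by simpa using mv L hL W k hc w hw w1 1 (one_mem _) L hL (one_conj _)
    have ex : ∀ a ∈ A, a ≠ 1 → ∃ L' ∈ 𝓛, a ∈ L' ⊔ O M ∧ a ∉ 𝐂(L') := fun a ha a1 => by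
      obtain ⟨g, hg, rfl⟩ := h.trans hw'.1 ha w1 a1
      obtain ⟨L', hL', e⟩ := hF.perm g (h.norm hg) L hL
      exact ⟨L', hL', e ▸ conj_mem_conj (mem_sup_left hw'.2), mv L hL W k hc w hw w1 g hg L' hL' e⟩
    rw [eq_bot_iff]
    intro c hc'
    by_contra c1
    obtain ⟨L1, hL1, -, e1⟩ := ex c hc'.1 c1
    obtain ⟨L2, hL2, e2, -⟩ := ex (c * w) (mul_mem hc'.1 hw'.1) fun e =>
      w2 (eq_inv_of_mul_eq_one_right e ▸ inv_mem hc'.2)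
    by_cases e3 : L2 = L
    · have h2 := (hF.comm L hL L1 hL1 fun e => e1 (e ▸ hc'.2)).1
      exact e1 ((mul_mem_cancel_right (h2 ⟨hw'.1, mem_sup_left hw'.2⟩)).1
        (h2 ⟨mul_mem hc'.1 hw'.1, e3 ▸ e2⟩))
    · exact w2 ((mul_mem_cancel_left (H := 𝐂(L)) hc'.2).1
        ((hF.comm L2 hL2 L hL e3).1 ⟨mul_mem hc'.1 hw'.1, e2⟩))
  obtain ⟨W, k, hc⟩ := hF.cp L hL
  have hW : W = A := le_antisymm (hc.wle.trans inf_le_left) (by simpa [key L hL] using hc.sup)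
  subst hW
  have hn : M ≤ 𝐍(L ⊔ O M) := fun g hg => by
    obtain ⟨L', hL', e⟩ := hF.perm g hg L hL
    by_cases e1 : L = L'
    · exact conj_eq_self_iff.1 (e1 ▸ e)
    obtain ⟨a, ha, a1⟩ := h.exists_ne
    exact absurd (mem_bot.1 (key L' hL' ▸
      ⟨ha, (hF.comm L hL L' hL' e1).1 ⟨ha, mem_sup_left (hc.wle ha).2⟩⟩)) a1
  obtain ⟨Z, z1, -, z2, -, -, T, hS, e8, hk⟩ := hc.kind
  have hZ : M ≤ 𝐍(Z) := (le_inf hO hn).trans z2
  obtain ⟨Y, hY, ho, tr⟩ := h.r2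
  have h1 := ho.of_dvd_nat (card_quo_dvd Y Z)
  have h2 : Y ⁒ Z ≤ 𝐍(L ⁒ Z) := quo_sup_of_le (hc.le.trans hZ) z1 ▸ quo_le_norm Z (hY.trans hn)
  have h3 : ∀ f ∈ L ⁒ Z, ∀ g ∈ L ⁒ Z, ∀ v ∈ W ⁒ Z, ∀ w ∈ W ⁒ Z, v ≠ 1 → w ≠ 1 →
      ∃ y ∈ Y ⁒ Z, y * (f * v * f⁻¹) * y⁻¹ = g * w * g⁻¹ := fun f hf g hg v hv w hw v1 w1 => by
    obtain ⟨f, hf', f1, rfl⟩ := mem_quo.1 hf
    obtain ⟨g, hg', g1, rfl⟩ := mem_quo.1 hg
    obtain ⟨v, hv', v2, rfl⟩ := mem_quo.1 hv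
    obtain ⟨w, hw', w2, rfl⟩ := mem_quo.1 hw
    have k : ∀ g ∈ L, ∀ w ∈ W, g * w * g⁻¹ ∈ M := fun g hg w hw =>
      mul_mem (mul_mem (hc.le hg) (h.A_le hw)) (inv_mem (hc.le hg))
    obtain ⟨y, hy, e⟩ := tr _ (k f hf' v hv') ((InD.of_mem hv').conj f)
      (BSW.conj_ne_one (by rintro rfl; simp at v1)) _ (k g hg' w hw') ((InD.of_mem hw').conj g)
      (BSW.conj_ne_one (by rintro rfl; simp at w1))
    exact ⟨_, coset_mem_quo Z hy, by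
      rw [← coset_conj f1 v2, ← coset_conj (hZ (hY hy)) (hZ (k f hf' v hv')), e, coset_conj g1 w2]⟩
  obtain ⟨n, hS⟩ | ⟨-, rfl, hA, -⟩ := hk
  · exact hS.witt h1 h2 fun g hg v hv w hw v1 w1 => by simpa using h3 1 (one_mem _) g hg v hv w hw v1 w1
  have k : ∀ s : (L ⁒ Z : Subgroup _), s ≠ 1 → s * s = 1 → ∃ f ∈ L ⁒ Z, ∃ v ∈ W ⁒ Z, v ≠ 1 ∧
      s = f * v * f⁻¹ := fun s s1 s2 => by
    obtain ⟨g, hg, e⟩ := hS.syl.exists_conj_le (zpowers_le.2 s.2) (R4.two_elt (congrArg Subtype.val s2))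
    exact ⟨g⁻¹, inv_mem hg, _, e (conj_mem_conj (mem_zpowers _)),
      BSW.conj_ne_one fun e => s1 (Subtype.ext e), by group⟩
  refine SE.nb JR.jr (hS.smp.isSimpleGroup fun e => hS.nab (e ▸ ab_bot)) hA
    (Mod.isElementaryAbelian_subgroupOf (abelem_quo h.elem Z)) (by
      rwa [Core.card_subgroupOf_of_le hS.syl.le, e8]) (D := (conjHom h2).range)
    (h1.of_dvd_nat (card_range_dvd _)) fun s t s1 s2 t1 t2 => ?_
  obtain ⟨f, hf, v, hv, v1, e1⟩ := k s s1 s2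
  obtain ⟨g, hg, w, hw, w1, e2⟩ := k t t1 t2
  obtain ⟨y, hy, e⟩ := h3 f hf g hg v hv w hw v1 w1
  exact ⟨_, ⟨⟨y, hy⟩, rfl⟩, Subtype.ext (by rw [e2, ← e, ← e1]; rfl)⟩

/-- a subgroup of `N(A)` which is transitive on the involutions of `A`, of odd order modulo `A` -/
theorem exists_trans (hO : M ≤ 𝐍(A ⊔ O M)) : ∃ Y ≤ 𝐍(A), Syl 2 A Y ∧
    ∀ a ∈ A, ∀ b ∈ A, a ≠ 1 → b ≠ 1 → ∃ y ∈ Y, y * a * y⁻¹ = b := by
  obtain ⟨Y, hY, ho, tr⟩ := h.r2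
  have h1 : A ≤ A ⊔ O M ⊔ Y := le_sup_left.trans le_sup_left
  refine ⟨(A ⊔ O M ⊔ Y) ⊓ 𝐍(A), inf_le_right, (show Syl 2 A (A ⊔ O M ⊔ Y) from
    ⟨h1, h.toSC.two, fun e => ?_⟩).mono (le_inf h1 le_normalizer) inf_le_left,
    fun a ha b hb a1 b1 => ?_⟩
  · rw [← relIndex_mul_relIndex _ _ _ le_sup_left le_sup_left, relIndex_sup_eq' (.inr (hY.trans hO)),
      relIndex_sup_eq' (.inl (h.A_le.trans (le_norm_O le_normalizer)))] at e
    exact (((odd_O M).of_dvd_nat (relIndex_dvd_card _ _)).mul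
      (ho.of_dvd_nat (relIndex_dvd_card _ _))).not_two_dvd_nat e
  · obtain ⟨y, hy, e⟩ := tr a (h.A_le ha) (.of_mem ha) a1 b (h.A_le hb) (.of_mem hb) b1
    obtain ⟨n, hn, e'⟩ := h.toSC.fuse h1 ha (mem_sup_right hy) (e ▸ hb)
    exact ⟨n, hn, e'.symm.trans e⟩

theorem ic (hD : DS D) (hO : M ≤ 𝐍(A ⊔ O M)) : IC A := fun t ht t2 => by
  obtain ⟨Y, hY, hS, tr⟩ := h.exists_trans hO
  obtain ⟨a, ha, a1⟩ := h.exists_ne
  obtain ⟨V, _, _, _, om, hp⟩ := Suz2.exists_pres A ⊥ fun u hu => h.elem.2 u hu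
  choose y hy using fun x : 𝐍(A) => hp.exists_act (MulAut.conj (x : G))
    (fun _ => conj_mem_of_norm x.2) fun u hu => by rw [mem_bot.1 hu, map_one]; exact one_mem _
  have hy1 : ∀ x : 𝐍(A), ∀ u ∈ A, y x (om u) = om (x * u * (x : G)⁻¹) := fun x u hu => by
    simpa using hy x 1 u hu
  let ρ0 : 𝐍(A) →* Module.End (ZMod 2) V :=
    { toFun x := y x
      map_one' := hp.ext fun u hu => by rw [hy1 1 u hu]; simp
      map_mul' x x' := hp.ext fun u hu => by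
        rw [Module.End.mul_apply, hy1 _ u hu, hy1 _ u hu, hy1 _ _ (conj_mem_of_norm x'.2 hu)]
        simp [mul_assoc] }
  have inj : ∀ u ∈ A, ∀ v ∈ A, om u = om v → u = v := fun u hu v hv e =>
    inv_mul_eq_one.1 ((hp.eq_iff hu hv).1 e)
  have hk : ∀ x : 𝐍(A), (x : 𝐍(A) ⧸ ρ0.ker) = 1 ↔ (x : G) ∈ 𝐂(A) := fun x =>
    (QuotientGroup.eq_one_iff x).trans ⟨fun e => mem_cent_iff_conj.2 fun u hu => inj _
      (conj_mem_of_norm x.2 hu) _ hu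
      ((hy1 x u hu).symm.trans (DFunLike.congr_fun (MonoidHom.mem_ker.1 e) _)),
    fun e => hp.ext fun u hu => (hy1 x u hu).trans (by rw [mem_cent_iff_conj.1 e u hu]; rfl)⟩
  have : Nontrivial V := ⟨om a, 0, mt (hp.zero_iff a ha).1 a1⟩
  have key := De.central (ρ := QuotientGroup.lift ρ0.ker ρ0 le_rfl)
    ((QuotientGroup.injective_lift_iff _ _ _).2 rfl)
    (Y := (Y.subgroupOf 𝐍(A)).map (QuotientGroup.mk' _)) (odd_of_forall ?_) (fun v w hv hw => ?_)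
    (e := (⟨t, ht⟩ : 𝐍(A))) (congrArg QuotientGroup.mk (Subtype.ext t2 : (⟨t, ht⟩ : 𝐍(A)) * ⟨t, ht⟩ = 1))
    (fun g => ?_) ?_
  · obtain ⟨b, hb, b1⟩ := exists_mem_ne_one (inf_cent_ne_bot_of_isPGroup (R4.two_elt t2) h.toSC.two
      (zpowers_le.2 ht) fun e => a1 (mem_bot.1 (e ▸ ha)))
    refine fun c hc => ?_
    by_cases c1 : c = 1
    · simp [c1]
    obtain ⟨g, hg, rfl⟩ := h.trans hb.1 hc b1 c1
    have h1 := (hk ((⟨t, ht⟩ : 𝐍(A))⁻¹ * ((⟨g, hg⟩ : 𝐍(A))⁻¹ * (⟨t, ht⟩ : 𝐍(A)) *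
      (⟨g, hg⟩ : 𝐍(A))⁻¹⁻¹))).1
      (inv_mul_eq_one.2 (key (⟨g, hg⟩ : 𝐍(A))⁻¹).symm) b hb.1
    have h2 : t * b = b * t := hb.2 t (mem_zpowers t)
    change b * (t⁻¹ * (g⁻¹ * t * g⁻¹⁻¹)) = t⁻¹ * (g⁻¹ * t * g⁻¹⁻¹) * b at h1
    calc _ = g * (t * (t⁻¹ * b * t) * t⁻¹ * (g⁻¹ * t * g⁻¹⁻¹)) * g⁻¹ := by group
      _ = g * (t * (b * (t⁻¹ * (g⁻¹ * t * g⁻¹⁻¹)))) * g⁻¹ := by
        rw [mul_assoc t⁻¹, ← h2]; group
      _ = _ := by rw [h1]; group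
  · rintro _ ⟨x, hx, rfl⟩ e
    refine (hk x).2 (mem_of_constt_mem (π := {2}) (h.toSC.ab.le_cent (hS.mem_of_mem_norm
      (constt_mem _ hx) (constt_mem _ x.2) (piElt_constt _ _))) (R4.mem_of_odd_sq
        (Nat.not_even_iff_odd.1 fun e => (isPiNum_compl_singleton Nat.prime_two).1
          (piElt_constt _ _) e.two_dvd) ?_))
    rw [← sq, ← constt_pow, sq]
    exact constt_mem _ ((hk (x * x)).1 e)
  · obtain ⟨s, hs, rfl⟩ := hp.surj v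
    obtain ⟨r, hr, rfl⟩ := hp.surj w
    obtain ⟨g, hg, rfl⟩ := tr s hs r hr (mt (hp.zero_iff s hs).2 hv) (mt (hp.zero_iff r hr).2 hw)
    exact ⟨_, mem_map_of_mem _ (x := ⟨g, hY hg⟩) hg, hy1 ⟨g, hY hg⟩ s hs⟩
  · obtain ⟨⟨g, hg⟩, rfl⟩ := QuotientGroup.mk_surjective g
    have d2 := conj_sq t2 g
    obtain ⟨i, ρ, ⟨j, rfl⟩, e⟩ := Nat.exists_eq_two_pow_mul_odd (orderOf_pos (g * t * g⁻¹ * t)).ne'
    have e1 : t * (g * t * g⁻¹ * t) ^ (2 * j + 1) * t⁻¹ = ((g * t * g⁻¹ * t) ^ (2 * j + 1))⁻¹ := by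
      rw [← conj_pow, ← inv_pow, mul_inv_rev (g * t * g⁻¹), GW.inv_eq d2, ← mul_assoc,
        mul_inv_cancel_right, GW.inv_eq t2]
    have e2 : (g * t * g⁻¹ * t) ^ j * g * t * ((g * t * g⁻¹ * t) ^ j * g)⁻¹ =
        (g * t * g⁻¹ * t) ^ (2 * j + 1) * t := by rw [← R1.pow_conj_left d2 t2 j, mul_inv_rev]; group
    have e3 := hD.om (T := zpowers ((g * t * g⁻¹ * t) ^ (2 * j + 1)) ⊔ zpowers t)
      (g := (g * t * g⁻¹ * t) ^ j * g) (isPGroup_sup (IsPGroup.of_card (n := i) (by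
        rw [Nat.card_zpowers, orderOf_pow, e, Nat.gcd_mul_left_left, Nat.mul_div_cancel _ (by omega)]))
        (R4.two_elt t2) (Or.inr (zpowers_le.2 (mem_norm_of_conj_le (by
          rw [conj_zpowers, e1, zpowers_inv]))))) t2 (mem_sup_right (mem_zpowers t)) (by
        rw [e2]; exact mul_mem (mem_sup_left (mem_zpowers _)) (mem_sup_right (mem_zpowers t)))
    rw [e2, mul_assoc, t2, mul_one] at e3
    have e4 := orderOf_dvd_of_pow_eq_one ((QuotientGroup.mk_pow _ _ _).symm.trans ((hk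
      ((⟨g, hg⟩ * ⟨t, ht⟩ * (⟨g, hg⟩ : 𝐍(A))⁻¹ * ⟨t, ht⟩) ^ (2 * j + 1))).2
      (h.cent_of_D hD (Subtype.mem _) e3)))
    exact fun e5 => by have := e5.trans e4; omega
  · have := De.mem_der h.toMC h.toSC ht (R4.two_elt t2)
    rw [der_eq_map] at this
    obtain ⟨x, hx, e⟩ := this
    rw [← (Subtype.ext e : x = ⟨t, ht⟩)]
    exact (der_mono le_top).trans' (map_der (QuotientGroup.mk' _) ⊤).le (mem_map_of_mem _ hx)

end DSE

theorem de1 (kf2 : KF2.{u}) : DE1.{u} := fun _ _ _ _ _ _ hD h h8 hM =>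
  { h with eight := h8, coatom := hM, normO := h.normO kf2 h8, ic := h.ic hD (h.normO kf2 h8) }

end Cfsg.Agent.I2
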