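import Cfsg.Agent.Lib.I2.Cov
import Cfsg.Agent.Lib.Transfer.Camina
import Cfsg.Agent.Lib.Coprime.IndexBound

/-!
# Package EOa: the automizer has odd order if the centralizer is abelian
-/

set_option autoImplicit false
set_option linter.unusedSectionVars false

namespace Cfsg.Agent.I2.Eo

open Subgroup Cfsg.Agent.OO Cfsg.Agent.Coprime Cfsg.Agent.SZ Cfsg.Agent.GW Cfsg.Agent.W4
open Cfsg.Agent.R4 (abelem_sq two_elt)
open scoped commutatorElement Pointwise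

universe u

variable {Γ G : Type u} [Group Γ] [Finite Γ] [Group G] [Finite G] {f : Γ →* G} {B T Y : Subgroup G}
  {I J Ω : Subgroup Γ} {x : G} {a b c g z : Γ}

theorem normB (h : EH f B Y) (x : G) : x ∈ 𝐍(B) :=
  have := h.normal
  le_normalizer_of_normal (mem_top x)

theorem conj_ker (h : EH f B Y) (hz : f z = 1) (g : Γ) : g * z * g⁻¹ = z := by
  rw [h.toCv.comm hz, mul_inv_cancel_right]

/-- the case `B < C(B)` -/
theorem case1 (h : EH f B Y) (ha : Ab 𝐂(B)) (hB : ¬ 𝐂(B) ≤ B) (h1 : x ∉ 𝐂(B)) (h2 : x * x ∈ 𝐂(B)) :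
    False := by
  have cm := ab_iff.1 ha
  have hn : ∀ g, ∀ u ∈ 𝐂(B), g * u * g⁻¹ ∈ 𝐂(B) := fun g u =>
    conj_mem_of_norm (norm_le_norm_cent B (normB h g))
  have k1 : ∀ b ∈ B, ∃ w ∈ 𝐂(B), w * w = b := by
    by_contra! e
    obtain ⟨b, hb, e⟩ := e
    have b1 : b ≠ 1 := by rintro rfl; exact e 1 (one_mem _) (mul_one 1)
    refine hB fun u hu => ?_
    obtain ⟨n, hn'⟩ := h.twoC ⟨u, hu⟩
    replace hn' : u ^ 2 ^ n = 1 := congrArg Subtype.val hn'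
    induction n generalizing u with
    | zero => rw [show u = 1 by simpa using hn']; exact one_mem _
    | succ n ih =>
      refine h.inv u (by_contra fun e' => ?_)
      obtain ⟨y, -, e1⟩ := h.trans _ (ih _ (mul_mem hu hu)
        (by rw [← pow_two, ← pow_mul, ← pow_succ', hn'])) b hb e' b1
      exact e _ (hn y u hu) (by rw [conj_mul, e1])
  rw [mem_cent_iff_conj] at h1
  push Not at h1
  obtain ⟨b, hb, h1⟩ := h1
  obtain ⟨w, hw, rfl⟩ := k1 b hb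
  have h3 : x * w * x⁻¹ * w⁻¹ * (x * w * x⁻¹ * w⁻¹) = x * (w * w) * x⁻¹ * (w * w)⁻¹ := by
    rw [mul_assoc _ w⁻¹, ← mul_assoc w⁻¹, cm _ (inv_mem hw) _ (hn x w hw)]; group
  have h4 : x * (w * w) * x⁻¹ * (w * w)⁻¹ ≠ 1 := fun e => h1 (mul_inv_eq_one.1 e)
  obtain ⟨y, -, e⟩ := h.trans _ (mul_mem (conj_mem_of_norm (normB h x) hb) (inv_mem hb)) _ hb h4
    (fun e => h1 (by simp [e]))
  have h5 := hn y _ (mul_mem (hn x w hw) (inv_mem hw))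
  obtain ⟨u, hu, e1⟩ := k1 ((y * (x * w * x⁻¹ * w⁻¹) * y⁻¹)⁻¹ * w) (h.inv _ (by
    have e' := e
    rw [← h3, ← conj_mul] at e'
    generalize y * (x * w * x⁻¹ * w⁻¹) * y⁻¹ = p at h5 e'
    rw [mul_assoc, ← mul_assoc w, cm _ hw _ (inv_mem h5), mul_assoc, ← e']
    group))
  obtain ⟨x, rfl⟩ := h.surj x
  obtain ⟨w, rfl⟩ := h.surj w
  obtain ⟨y, rfl⟩ := h.surj y
  obtain ⟨u, rfl⟩ := h.surj u
  obtain ⟨v, hv⟩ : ∃ v, v = x * w * x⁻¹ * w⁻¹ := ⟨_, rfl⟩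
  have fv : f v = f x * f w * (f x)⁻¹ * (f w)⁻¹ := by simp [hv]
  rw [← fv] at h3 h5 e1
  have hv' : f v ∈ 𝐂(B) := fv ▸ mul_mem (hn _ _ hw) (inv_mem hw)
  obtain ⟨z, hz, e2⟩ : ∃ z, f z = 1 ∧ x * x * u * (x * x)⁻¹ = u * z :=
    ⟨u⁻¹ * (x * x * u * (x * x)⁻¹), by
      simp only [map_mul, map_inv]; rw [cm _ h2 _ hu]; group, by group⟩
  obtain ⟨c, hc, e3⟩ : ∃ c, f c = 1 ∧ y⁻¹ * (x * x) * y * v * (y⁻¹ * (x * x) * y)⁻¹ = v * c :=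
    ⟨v⁻¹ * (y⁻¹ * (x * x) * y * v * (y⁻¹ * (x * x) * y)⁻¹), by
      have := cm _ (hn (f y)⁻¹ _ h2) _ hv'
      simp only [map_mul, map_inv, inv_inv] at this ⊢
      rw [this]; group, by group⟩
  obtain ⟨d, hd, e4⟩ : ∃ d, f d = 1 ∧ w = y * v * y⁻¹ * (u * u) * d :=
    ⟨(y * v * y⁻¹ * (u * u))⁻¹ * w, by simp only [map_mul, map_inv]; rw [e1]; group, by group⟩
  have e5 : x * x * w * (x * x)⁻¹ = c * z * z * w := by
    calc _ = y * (y⁻¹ * (x * x) * y * v * (y⁻¹ * (x * x) * y)⁻¹) * y⁻¹ * (x * x * u * (x * x)⁻¹) *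
          (x * x * u * (x * x)⁻¹) * (x * x * d * (x * x)⁻¹) := by nth_rewrite 1 [e4]; group
      _ = y * v * c * (y * v)⁻¹ * (y * v * y⁻¹ * u * z * (y * v * y⁻¹ * u)⁻¹) *
          (y * v * y⁻¹ * u * u * z * (y * v * y⁻¹ * u * u)⁻¹) * (y * v * y⁻¹ * (u * u) * d) := by
        rw [e2, e3, conj_ker h hd]; group
      _ = _ := by rw [conj_ker h hc, conj_ker h hz, conj_ker h hz, ← e4]
  refine h4 (h3 ▸ h.toCv.ds.sq (h.toCv.lemR (g := x) (two_of_mem h.twoC hv') hz hc ?_ e3))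
  calc _ = x * x * w * (x * x)⁻¹ * w⁻¹ * v⁻¹ := by rw [hv]; group
    _ = c * (z * z) * v⁻¹ := by rw [e5]; group
    _ = _ := by rw [← h.toCv.comm hc, ← h.toCv.comm (z := z * z * c) (by simp [hz, hc]), mul_assoc v⁻¹]

theorem exists_Om (h : EH f B Y) : ∃ Ω : Subgroup Γ, ∀ a, a ∈ Ω ↔ a * a = 1 :=
  ⟨{ carrier := {a | a * a = 1}
     one_mem' := mul_one 1
     mul_mem' := fun {a b} ha hb => by
       have := h.toCv.sq_eq (abelem_isPGroup h.elem) (h.inv (f a) (by rw [← map_mul, ha, map_one]))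
         (h.inv (f b) (by rw [← map_mul, hb, map_one])) (ha.trans hb.symm)
       rwa [inv_eq hb] at this
     inv_mem' := fun {a} ha => (inv_eq ha).symm ▸ ha }, fun _ => Iff.rfl⟩

section

variable (h : EH f B Y) (hΩ : ∀ a, a ∈ Ω ↔ a * a = 1)
include hΩ

theorem Om_conj (g : Γ) (ha : a ∈ Ω) : g * a * g⁻¹ ∈ Ω := (hΩ _).2 (conj_sq ((hΩ a).1 ha) g)

theorem Om_comm (ha : a ∈ Ω) (hb : b ∈ Ω) : a * b = b * a := by
  rw [← inv_eq ((hΩ _).1 (mul_mem ha hb)), mul_inv_rev, inv_eq ((hΩ a).1 ha), inv_eq ((hΩ b).1 hb)]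

theorem Om_two : IsPGroup 2 Ω := fun a => ⟨1, Subtype.ext ((pow_two _).trans ((hΩ a).1 a.2))⟩

include h

theorem Om_mem (ha : a ∈ Ω) : f a ∈ B := h.inv _ (by rw [← map_mul, (hΩ a).1 ha, map_one])

theorem Om_split (ha : f a ∈ B) : ∃ w ∈ Ω, ∃ z, f z = 1 ∧ a = w * z :=
  let ⟨w, e, e'⟩ := h.lf _ ha
  ⟨w, (hΩ w).2 e, w⁻¹ * a, by simp [e'], by group⟩

theorem Om_cent (ha : a ∈ Ω) (hc : f c ∈ B) : c * a * c⁻¹ = a := by
  obtain ⟨w, hw, z, hz, rfl⟩ := Om_split h hΩ hc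
  rw [mul_assoc w, ← h.toCv.comm hz, ← mul_assoc, Om_comm hΩ hw ha]; group

theorem exists_B0 : ∃ B₀ ≤ Ω, (∀ w ∈ Ω, ∃ b ∈ B₀, ∃ z ∈ Ω, f z = 1 ∧ w = b * z) ∧
    (∀ b ∈ B₀, ∀ b' ∈ B₀, f b ≠ 1 → f b' ≠ 1 → ∃ y, y * b * y⁻¹ = b') := by
  have h1 : PNil 2 (Y.comap f) := ZG.pnil_two fun R hR h2 g _ _ _ => mem_cent_iff.2 fun a ha =>
    (h.toCv.comm (PiElt.eq_one ((two_of_mem h2 ha).map f) (odd_elt.1 (odd_of_mem h.odd (hR ha)))) g).symm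
  have h2 : ∀ a ∈ B, ∀ b ∈ B, a ≠ 1 → b ≠ 1 → ∃ y ∈ O (Y.comap f), f y * a * (f y)⁻¹ = b :=
    fun a ha b hb a1 b1 => by
      obtain ⟨y, hy, e⟩ := h.trans a ha b hb a1 b1
      obtain ⟨y, ho, rfl⟩ := h.toCv.exists_odd (odd_of_mem h.odd hy)
      exact ⟨y, (NS.mem_O h1).2 ⟨hy, ho⟩, e⟩
  have hn : O (Y.comap f) ≤ 𝐍(Ω) := fun g _ => mem_norm_of_conj_mem fun _ => Om_conj hΩ g
  have hc := (cop (odd_O (Y.comap f)) (Om_two hΩ)).symm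
  have ha : Ab Ω := ab_iff.2 fun _ ha _ hb => Om_comm hΩ ha hb
  have h3 := commutator_le_left' hn
  refine ⟨_, h3, fun w hw => ?_, fun b hb b' hb' b1 b2 => ?_⟩
  · obtain ⟨b, hb, z, hz, rfl⟩ := (mem_sup_norm_left (le_norm_of_le_cent ((inf_le_left.trans
      ha.le_cent).trans (cent_anti h3)))).1 ((coprime_cent_prod hn hc (.inl (sol_of_ab ha))).ge hw)
    refine ⟨b, hb, z, hz.1, by_contra fun e => ?_, rfl⟩
    have h4 : (B : Set G) ⊆ {1, f z} := fun v hv => by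
      by_cases v1 : v = 1
      · simp [v1]
      obtain ⟨y, hy, rfl⟩ := h2 _ (Om_mem h hΩ hz.1) v hv e v1
      rw [← map_mul, mem_cent_iff.1 hz.2 y hy]
      simp
    have h5 := (Set.ncard_le_ncard h4).trans (Set.ncard_insert_le _ _)
    rw [Set.ncard_singleton, ← Nat.card_coe_set_eq] at h5
    exact absurd (h.eight.trans h5) (by norm_num)
  · obtain ⟨y, hy, e⟩ := h2 _ (Om_mem h hΩ (h3 hb)) _ (Om_mem h hΩ (h3 hb')) b1 b2
    refine ⟨y, mul_inv_eq_one.1 (mem_bot.1 ((coprime_abel_cent_TI hn hc ha).le (mem_inf.2 ⟨mul_mem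
      (conj_mem_of_norm (le_norm_commutator_right _ _ hy) hb) (inv_mem hb'), ?_⟩)))⟩
    exact mem_cent_iff.2 fun g _ => h.toCv.comm (by simp [e]) g

theorem exists_J : ∃ J : Subgroup Γ,
    (∀ w ∈ Ω, f w ≠ 1 → ∀ j, j ∈ J ↔ f j = 1 ∧ ∃ g, g * w * g⁻¹ = w * j) ∧
    ∀ w ∈ Ω, f w ≠ 1 → ∀ w' ∈ Ω, ∀ g, f (w * (g * w' * g⁻¹ * w'⁻¹)) ≠ 1 →
      ∃ k, k * w * k⁻¹ = w * (g * w' * g⁻¹ * w'⁻¹) := by
  obtain ⟨B₀, h1, h2, h3⟩ := exists_B0 h hΩ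
  have ck := fun {z : Γ} (hz : f z = 1) => conj_ker h hz
  obtain ⟨b₀, hb₀, b1⟩ : ∃ b ∈ B₀, f b ≠ 1 := by
    obtain ⟨v, hv, v1⟩ := exists_mem_ne_one (H := B) fun e => by simpa [e] using h.eight
    obtain ⟨w, e, rfl⟩ := h.lf v hv
    obtain ⟨b, hb, z, -, hz, rfl⟩ := h2 w ((hΩ w).2 e)
    exact ⟨b, hb, by simpa [hz] using v1⟩
  let J : Subgroup Γ :=
    { carrier := {j | f j = 1 ∧ ∃ g, g * b₀ * g⁻¹ = b₀ * j}
      one_mem' := ⟨map_one f, 1, by simp⟩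
      mul_mem' := fun {i j} ⟨hi, g, e⟩ ⟨hj, k, e'⟩ => ⟨by simp [hi, hj], g * k, by
        rw [show g * k * b₀ * (g * k)⁻¹ = g * (k * b₀ * k⁻¹) * g⁻¹ by group, e', ← conj_mul, e, ck hj,
          mul_assoc]⟩
      inv_mem' := fun {j} ⟨hj, g, e⟩ => ⟨by simp [hj], g⁻¹, by
        rw [eq_mul_inv_iff_mul_eq, ← ck hj g⁻¹, conj_mul, ← e]; group⟩ }
  have h4 : ∀ w ∈ Ω, f w ≠ 1 → ∀ j, j ∈ J ↔ f j = 1 ∧ ∃ g, g * w * g⁻¹ = w * j := fun w hw w1 j => by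
    obtain ⟨b, hb, z, -, hz, rfl⟩ := h2 w hw
    obtain ⟨y, rfl⟩ := h3 b₀ hb₀ b hb b1 (by simpa [hz] using w1)
    refine and_congr_right fun hj => ⟨fun ⟨g, e⟩ => ⟨y * g * y⁻¹, ?_⟩, fun ⟨g, e⟩ => ⟨y⁻¹ * g * y, ?_⟩⟩
    · rw [← conj_mul, ck hz, show y * g * y⁻¹ * (y * b₀ * y⁻¹) * (y * g * y⁻¹)⁻¹ =
        y * (g * b₀ * g⁻¹) * y⁻¹ by group, e, ← conj_mul, ck hj, mul_assoc, mul_assoc _ z,
        h.toCv.comm hz]
    · rw [← conj_mul, ck hz, mul_assoc _ z, ← h.toCv.comm hz, ← mul_assoc _ j, mul_left_inj] at e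
      rw [show y⁻¹ * g * y * b₀ * (y⁻¹ * g * y)⁻¹ = y⁻¹ * (g * (y * b₀ * y⁻¹) * g⁻¹) * y⁻¹⁻¹ by group,
        e, ← conj_mul, ck hj]
      group
  refine ⟨J, h4, fun w hw w1 w' hw' g e => ?_⟩
  obtain ⟨b, hb, j, hj, j1, e1⟩ : ∃ b ∈ B₀, ∃ j ∈ J, f j = 1 ∧ g * w' * g⁻¹ * w'⁻¹ = b * j := by
    obtain ⟨b, hb, z, -, hz, rfl⟩ := h2 w' hw'
    obtain ⟨b', hb', z', -, hz', e1⟩ := h2 _ (Om_conj hΩ g (h1 hb))
    have e2 : g * (b * z) * g⁻¹ * (b * z)⁻¹ = b' * b⁻¹ * z' := by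
      rw [← conj_mul, ck hz, e1, mul_assoc b' b⁻¹, h.toCv.comm hz' b⁻¹]; group
    by_cases b2 : f b = 1
    · exact ⟨1, one_mem _, 1, one_mem _, map_one f, by rw [ck (by simp [b2, hz])]; group⟩
    obtain ⟨y, e3⟩ := h3 b' hb' b hb (fun e => b2 (by simpa [e, hz'] using congrArg f e1)) b2
    exact ⟨_, mul_mem hb' (inv_mem hb), z', (h4 b (h1 hb) b2 z').2 ⟨hz', y * g, by
      rw [show y * g * b * (y * g)⁻¹ = y * (g * b * g⁻¹) * y⁻¹ by group, e1, ← conj_mul, e3, ck hz']⟩,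
      hz', e2⟩
  rw [e1] at e ⊢
  obtain ⟨b', hb', z, -, hz, rfl⟩ := h2 w hw
  have h5 : f (b' * b) ≠ 1 := by simpa [hz, j1] using e
  obtain ⟨y, e2⟩ := h3 b' hb' _ (mul_mem hb' hb) (by simpa [hz] using w1) h5
  obtain ⟨-, k, e3⟩ := (h4 _ (h1 (mul_mem hb' hb)) h5 j).1 hj
  refine ⟨k * y, ?_⟩
  rw [← conj_mul, ck hz, show k * y * b' * (k * y)⁻¹ = k * (y * b' * y⁻¹) * k⁻¹ by group, e2, e3,
    mul_assoc b' z, ← h.toCv.comm hz]
  group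

/-- the character sum argument -/
theorem J_le (hT : Syl 2 T ⊤) (h1 : f c ∉ 𝐂(B)) (h2 : ∀ t ∈ T, t * f c * t⁻¹ * (f c)⁻¹ ∈ B)
    (hI : ∀ a, a ∈ I ↔ ∃ w ∈ Ω, a = c * w * c⁻¹ * w⁻¹) (hz : f z = 1)
    (h3 : ∀ w ∈ Ω, f w ≠ 1 → ∃ g, g * w * g⁻¹ = w * z) : z ∈ I := by
  classical
  by_contra h4
  have := Fintype.ofFinite Γ
  have hn : Ω.Normal := ⟨fun _ ha g => Om_conj hΩ g ha⟩
  have hIΩ : I ≤ Ω := fun a ha => by
    obtain ⟨w, hw, rfl⟩ := (hI a).1 ha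
    exact mul_mem (Om_conj hΩ c hw) (inv_mem hw)
  obtain ⟨u, hu, u1⟩ : ∃ u ∈ Ω, f (c * u * c⁻¹ * u⁻¹) ≠ 1 := by
    by_contra! e
    refine h1 (mem_cent_iff_conj.2 fun v hv => ?_)
    obtain ⟨w, e', rfl⟩ := h.lf v hv
    simpa [mul_inv_eq_one] using e w ((hΩ w).2 e')
  have hzΩ : z ∈ Ω := by
    have h5 := mul_mem (Om_conj hΩ c hu) (inv_mem hu)
    obtain ⟨g, e⟩ := h3 _ h5 u1
    exact (mul_mem_cancel_left h5).1 (e ▸ Om_conj hΩ g h5)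
  obtain ⟨K, hIK, ⟨hK, hzK⟩, hm⟩ := Core.exists_maximal_ge (P := fun K => K ≤ Ω ∧ z ∉ K) ⟨hIΩ, h4⟩
  have k1 : ∀ w ∈ Ω, w ∉ K → w * z ∈ K := fun w hw e => by
    have w2 := (hΩ w).1 hw
    have h5 : z ∈ K ⊔ zpowers w := by_contra fun e' =>
      e (hm _ ⟨sup_le hK (zpowers_le.2 hw), e'⟩ le_sup_left ▸ mem_sup_right (mem_zpowers w))
    obtain ⟨k, hk, v, hv, rfl⟩ := (mem_sup_norm_left (zpowers_le.2 (cent_le_norm K
      (mem_cent_iff.2 fun a ha => Om_comm hΩ (hK ha) hw)))).1 h5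
    rcases (mem_zp w2).1 hv with rfl | rfl
    · exact absurd (by simpa using hk) hzK
    · rwa [Om_comm hΩ (hK hk) hw, ← mul_assoc, w2, one_mul]
  obtain ⟨s, hs⟩ : ∃ s : Γ → ℤ, ∀ a, s a = if a ∈ K then 1 else -1 := ⟨_, fun _ => rfl⟩
  have s1 : ∀ a ∈ Ω, ∀ b ∈ Ω, s (a * b) = s a * s b := fun a ha b hb => by
    by_cases e : a ∈ K
    · simp [hs, e, mul_mem_cancel_left e]
    by_cases e' : b ∈ K
    · simp [hs, e', mul_mem_cancel_right e']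
    have := mul_mem (k1 a ha e) (k1 b hb e')
    rw [mul_assoc, ← mul_assoc z, ← h.toCv.comm hz, mul_assoc, (hΩ z).1 hzΩ, mul_one] at this
    simp [hs, e, e', this]
  have s2 : ∀ w ∈ Ω, f w ≠ 1 → ∑ g, s (g * w * g⁻¹) = 0 := fun w hw w1 => by
    obtain ⟨k, e⟩ := h3 w hw w1
    have := Equiv.sum_comp (Equiv.mulRight k) fun g => s (g * w * g⁻¹)
    simp only [Equiv.coe_mulRight] at this
    rw [Finset.sum_congr rfl (g := fun g => -s (g * w * g⁻¹)) fun g _ => by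
      rw [show g * k * w * (g * k)⁻¹ = g * (k * w * k⁻¹) * g⁻¹ by group, e, ← conj_mul, conj_ker h hz,
        s1 _ (Om_conj hΩ g hw) _ hzΩ, hs z, if_neg hzK, mul_neg_one], Finset.sum_neg_distrib] at this
    omega
  have s3 : ∀ g, ∑ w : Ω, s w * s (g * w * g⁻¹) = if g ∈ 𝐍(K) then (♯Ω : ℤ) else 0 := fun g => by
    split_ifs with e
    · rw [Finset.sum_congr rfl (g := fun _ => 1) fun w _ => by
        simp only [hs, ← mem_normalizer_iff.1 e]; split_ifs <;> rfl]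
      simp
    let χ : Ω →* ℤ :=
      { toFun := fun w => s w * s (g * w * g⁻¹)
        map_one' := by simp [hs]
        map_mul' := fun a b => by
          rw [coe_mul, ← conj_mul, s1 _ a.2 _ b.2, s1 _ (Om_conj hΩ g a.2) _ (Om_conj hΩ g b.2)]; ring }
    refine sum_hom_units_eq_zero χ fun e' => e (mem_norm_of_conj_mem fun a ha => by_contra fun e1 => ?_)
    have : s a * s (g * a * g⁻¹) = 1 := DFunLike.congr_fun e' ⟨a, hK ha⟩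
    simp [hs, ha, e1] at this
  have s4 : (Nat.card Γ : ℤ) ∣ ∑ g, ∑ w : Ω, s w * s (g * w * g⁻¹) := by
    rw [Finset.sum_comm]
    refine Finset.dvd_sum fun w _ => ?_
    rw [← Finset.mul_sum]
    by_cases e : f w = 1
    · simp [conj_ker h e, Dvd.dvd.mul_left]
    · simp [s2 w w.2 e]
  simp only [s3, Finset.sum_ite, Finset.sum_const_zero, add_zero, Finset.sum_const, nsmul_eq_mul] at s4
  have s5 : 𝐍(K).index ∣ ♯Ω := by
    rw [← 𝐍(K).card_mul_index, Nat.card_eq_fintype_card (α := 𝐍(K)), Fintype.card_subtype] at s4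
    rw [← Nat.cast_mul, Int.natCast_dvd_natCast] at s4
    exact Nat.dvd_of_mul_dvd_mul_left (Finset.card_pos.2 ⟨1, by simp⟩) s4
  obtain ⟨n, hn'⟩ := (Om_two hΩ).exists_card_eq
  have s6 : 𝐍(K).index.Coprime (T.comap f).index := by
    rw [index_comap_of_surjective _ h.surj]
    exact ((Nat.prime_two.coprime_iff_not_dvd.2 (relIndex_top_right T ▸ hT.2.2)).pow_left
      n).coprime_dvd_left (hn' ▸ s5)
  have s7 := s2 _ (mul_mem (Om_conj hΩ c hu) (inv_mem hu)) u1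
  rw [Finset.sum_congr rfl (g := fun _ => 1) fun g _ => by
    obtain ⟨k, hk, t, ht, rfl⟩ := Transfer.exists_mul_of_coprime_index s6 g
    rw [hs, if_pos]
    rw [show k * t * (c * u * c⁻¹ * u⁻¹) * (k * t)⁻¹ = k * (t * c * t⁻¹ * c⁻¹ *
      (c * (t * u * t⁻¹) * c⁻¹) * (t * c * t⁻¹ * c⁻¹)⁻¹ * (t * u * t⁻¹)⁻¹) * k⁻¹ by group,
      Om_cent h hΩ (Om_conj hΩ c (Om_conj hΩ t hu)) (by simpa using h2 _ ht)]
    exact conj_mem_of_norm hk (hIK ((hI _).2 ⟨_, Om_conj hΩ t hu, rfl⟩))] at s7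
  simp at s7

/-- the case `C(B) = B` -/
theorem case2 (hT : Syl 2 T ⊤) (h1 : f c ∉ 𝐂(B)) (h0 : f c * f c ∈ B)
    (h2 : ∀ t ∈ T, t * f c * t⁻¹ * (f c)⁻¹ ∈ B) : False := by
  obtain ⟨J, j1, j2⟩ := exists_J h hΩ
  have hB := abelem_isPGroup h.elem
  have hBC := abelem_le_cent h.elem
  let I : Subgroup Γ :=
    { carrier := {a | ∃ w ∈ Ω, a = c * w * c⁻¹ * w⁻¹}
      one_mem' := ⟨1, one_mem _, by simp⟩
      mul_mem' := by
        rintro _ _ ⟨v, hv, rfl⟩ ⟨w, hw, rfl⟩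
        refine ⟨v * w, mul_mem hv hw, ?_⟩
        rw [mul_assoc _ v⁻¹, Om_comm hΩ (inv_mem hv) (mul_mem (Om_conj hΩ c hw) (inv_mem hw))]
        group
      inv_mem' := by
        rintro _ ⟨v, hv, rfl⟩
        exact (inv_eq ((hΩ _).1 (mul_mem (Om_conj hΩ c hv) (inv_mem hv)))).symm ▸ ⟨v, hv, rfl⟩ }
  have hIΩ : I ≤ Ω := by
    rintro _ ⟨v, hv, rfl⟩
    exact mul_mem (Om_conj hΩ c hv) (inv_mem hv)
  obtain ⟨w₀, hw₀, z₀, hz₀, e0⟩ := Om_split h hΩ (a := c * c) (by rwa [map_mul])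
  have k0 : ∀ v ∈ Ω, c * v⁻¹ * (c * v⁻¹) = c * c * (c * v * c⁻¹ * v⁻¹) := fun v hv => by
    rw [← Om_cent h hΩ (Om_conj hΩ c⁻¹ hv) (c := c * c) (by rwa [map_mul]) |>.symm.trans
      (show _ = c * v * c⁻¹ by group), inv_eq ((hΩ v).1 hv)]
    group
  have k1 : ∀ v ∈ Ω, f (c * v⁻¹ * (c * v⁻¹)) ≠ 1 := fun v hv e => h1 (hBC
    ((mul_mem_cancel_right (Om_mem h hΩ (inv_mem hv))).1 (map_mul f _ _ ▸ h.inv _ (by rwa [← map_mul]))))
  have w1 : f w₀ ≠ 1 := by simpa [e0, hz₀] using k1 1 (one_mem _)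
  have hJ : J ≤ I := fun j hj => J_le h hΩ hT h1 h2 (fun _ => Iff.rfl) ((j1 w₀ hw₀ w1 j).1 hj).1
    fun w hw e => ((j1 w hw e j).1 hj).2
  have hJ' : J ≠ I := fun e => h1 (mem_cent_iff_conj.2 fun v hv => by
    obtain ⟨w, e', rfl⟩ := h.lf v hv
    simpa [mul_inv_eq_one] using ((j1 w₀ hw₀ w1 _).1 (e.ge ⟨w, (hΩ w).2 e', rfl⟩)).1)
  have k2 : ∀ g a, g * (c * c) * g⁻¹ = c * c * a ↔ g * w₀ * g⁻¹ = w₀ * a := fun g a => by
    rw [e0, ← conj_mul, conj_ker h hz₀, mul_assoc w₀, ← h.toCv.comm hz₀, ← mul_assoc w₀, mul_left_inj]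
  have k3 : ∀ K : Subgroup Γ, {y | ∃ a ∈ K, y = c * c * a}.ncard = ♯K := fun K => by
    refine .trans ?_ (Set.ncard_image_of_injective (K : Set Γ) (mul_right_injective (c * c)))
    exact congrArg _ (Set.ext fun y => ⟨fun ⟨a, ha, e⟩ => ⟨a, ha, e.symm⟩,
      fun ⟨a, ha, e⟩ => ⟨a, ha, e.symm⟩⟩)
  have k4 : 𝐂[c * c].index = ♯J * (♯B - 1) := by
    rw [← relIndex_mul_index (show 𝐂[c * c] ≤ 𝐂[f (c * c)].comap f from fun g hg => by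
      simpa [mem_cent1] using congrArg f (mem_cent1.1 hg)), index_comap_of_surjective _ h.surj,
      ← relIndex_top_right, relIndex_centralizer_eq_ncard, relIndex_centralizer_eq_ncard, ← k3,
      ← ncard_sharp]
    congr 2
    · refine Set.ext fun y => ⟨?_, ?_⟩
      · rintro ⟨g, hg, rfl⟩
        refine ⟨(c * c)⁻¹ * (g * (c * c) * g⁻¹), (j1 w₀ hw₀ w1 _).2 ⟨?_, g, (k2 g _).1 ?_⟩, ?_⟩
        · rw [map_mul, map_mul, map_mul, mem_cent1.1 hg]; simp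
        all_goals group
      · rintro ⟨j, hj, rfl⟩
        obtain ⟨e1, g, e2⟩ := (j1 w₀ hw₀ w1 j).1 hj
        refine ⟨g, mem_cent1_iff_conj.2 ?_, ((k2 g j).2 e2).symm⟩
        simpa [e1] using congrArg f ((k2 g j).2 e2)
    · have h3 : f (c * c) ≠ 1 := by simpa using k1 1 (one_mem _)
      rw [map_mul] at h3 ⊢
      refine Set.ext fun y => ⟨?_, fun hy => ?_⟩
      · rintro ⟨g, -, rfl⟩
        exact ⟨conj_mem_of_norm (normB h g) h0, conj_ne_one.2 h3⟩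
      · obtain ⟨g, -, e⟩ := h.trans _ h0 y hy.1 h3 hy.2
        exact ⟨g, mem_top g, e.symm⟩
  have hn : ∀ g, g ∈ 𝐍(Ω) := fun g => mem_norm_of_conj_mem fun _ => Om_conj hΩ g
  have c2 : ∀ v ∈ Ω, PiElt {2} (c * v⁻¹) := fun v hv => h.toCv.two_elt (isPGroup_zpowers_iff.1
    (fun ⟨_, n, rfl⟩ => ⟨2, Subtype.ext (by
      have := abelem_sq h.elem (a := f (c * v⁻¹) * f (c * v⁻¹)) (by
        rw [← map_mul, k0 v hv, map_mul, map_mul]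
        exact mul_mem h0 (Om_mem h hΩ (hIΩ ⟨v, hv, rfl⟩)))
      rw [coe_pow, ← zpow_natCast, ← zpow_mul, mul_comm, zpow_mul, zpow_natCast,
        show f (c * v⁻¹) ^ 2 ^ 2 = 1 by rw [← this]; simp [pow_succ, mul_assoc], one_zpow]
      rfl)⟩))
  obtain ⟨S, hS, hc⟩ := exists_syl_ge (M := 𝐂[c * c]) (zpowers_le.2 (mem_cent1.2 (mul_assoc _ _ _).symm))
    (isPGroup_zpowers_iff.2 (by simpa using c2 1 (one_mem _)))
  let N : Subgroup Γ :=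
    { carrier := {g | g * c * g⁻¹ * c⁻¹ ∈ Ω}
      one_mem' := by simp
      mul_mem' := fun {g k} hg hk => by
        show _ ∈ Ω
        convert mul_mem (Om_conj hΩ g hk) hg using 1; group
      inv_mem' := fun {g} hg => by
        show _ ∈ Ω
        convert inv_mem (Om_conj hΩ g⁻¹ hg) using 1; group }
  have k5 : ∀ a ∈ S, a * a = c * c → a * c⁻¹ ∈ Ω := fun a ha e =>
    (hΩ _).2 (h.irr.sq_eq hS.isPGroup ha (hc (mem_zpowers c)) e)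
  have hSN : S ≤ N := fun s hs => k5 _ (mul_mem (mul_mem hs (hc (mem_zpowers c))) (inv_mem hs))
    (by rw [conj_mul, mem_cent1_iff_conj.1 (hS.le hs)])
  have k6 : 𝐂[c * c].relIndex N = ♯I := by
    rw [relIndex_centralizer_eq_ncard, ← k3]
    congr 1
    refine Set.ext fun y => ⟨?_, ?_⟩
    · rintro ⟨g, hg, rfl⟩
      refine ⟨_, ⟨_, inv_mem (Om_conj hΩ c⁻¹ hg), rfl⟩, ?_⟩
      rw [← k0 _ (inv_mem (Om_conj hΩ c⁻¹ hg))]
      group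
    rintro ⟨_, ⟨v, hv, rfl⟩, rfl⟩
    obtain ⟨k, e⟩ := j2 w₀ hw₀ w1 v hv c (by simpa [k0 v hv, e0, hz₀] using k1 v hv)
    rw [← k2, ← k0 v hv] at e
    have e1 : k⁻¹ * (c * v⁻¹) * k * (k⁻¹ * (c * v⁻¹) * k) = c * c :=
      (show _ = k⁻¹ * (c * v⁻¹ * (c * v⁻¹)) * k by group).trans (by rw [← e]; group)
    obtain ⟨d, hd, e2⟩ := hS.exists_conj_le (zpowers_le.2 (mem_cent1.2 (by
      rw [← e1]; exact (mul_assoc _ _ _).symm))) (isPGroup_zpowers_iff.2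
        (show PiElt {2} (k⁻¹ * (c * v⁻¹) * k) by simpa using (c2 v hv).map (MulAut.conj k⁻¹).toMonoidHom))
    have e3 := k5 _ (e2 (conj_mem_conj (mem_zpowers _))) (by rw [conj_mul, e1, mem_cent1_iff_conj.1 hd])
    refine ⟨(d * k⁻¹)⁻¹, inv_mem (show d * k⁻¹ * c * (d * k⁻¹)⁻¹ * c⁻¹ ∈ Ω from ?_), ?_⟩
    · convert mul_mem e3 (Om_conj hΩ (c * d * k⁻¹ * c⁻¹) (Om_conj hΩ c hv)) using 1
      group
    · rw [← k0 v hv, ← e, ← mem_cent1_iff_conj.1 (inv_mem hd)]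
      nth_rewrite 2 [mem_cent1_iff_conj.1 (inv_mem hd)]
      group
  have k7 : ♯I ∣ N.relIndex 𝐂[c * c] * (♯J * (♯B - 1)) := by
    rw [← k4, ← k6, ← inf_relIndex_right N, relIndex_mul_index inf_le_right, ← inf_relIndex_right,
      inf_comm, ← relIndex_mul_index (inf_le_left : N ⊓ _ ≤ N)]
    exact dvd_mul_right _ _
  have k8 : 2 ∣ J.relIndex I := by
    obtain ⟨n, e⟩ := ((Om_two hΩ).to_le hIΩ).exists_card_eq
    obtain ⟨_ | m, -, e'⟩ := (Nat.dvd_prime_pow Nat.prime_two).1 (e ▸ relIndex_dvd_card J I)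
    · exact absurd (hJ.antisymm (relIndex_eq_one.1 e')) hJ'
    · exact e' ▸ dvd_pow_self 2 m.succ_ne_zero
  rw [← card_mul_relIndex hJ, mul_left_comm, Nat.mul_dvd_mul_iff_left (card_pos' J)] at k7
  rcases (Nat.Prime.dvd_mul Nat.prime_two).1 (k8.trans k7) with e | e
  · exact hS.2.2 (e.trans (relIndex_dvd_of_le_left _ hSN))
  · have := dvd_card_of_isPGroup hB fun e => by simpa [e] using h.eight
    have := h.eight
    omega

end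

end Cfsg.Agent.I2.Eo

namespace Cfsg.Agent.I2

open Subgroup Cfsg.Agent.OO Cfsg.Agent.Coprime

universe u

theorem eoa : EOa.{u} := fun Γ G _ _ _ _ f B Y h ha => by
  by_contra e
  obtain ⟨T, hT⟩ := exists_syl 2 (⊤ : Subgroup G)
  have hn : T ≤ 𝐍(𝐂(B)) := fun g _ => norm_le_norm_cent B (Eo.normB h g)
  obtain ⟨t, ht, t1, t2⟩ := CIT.exists_inv ((isPGroup_quo hT.isPGroup 𝐂(B)).to_le inf_le_left)
    (Zc_ne_bot (nil_of_isPGroup (isPGroup_quo hT.isPGroup 𝐂(B))) fun e' => hT.2.2 (by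
      rw [relIndex_top_right]
      exact (Nat.not_odd_iff_even.1 e).two_dvd.trans (index_dvd_of_le ((quo_eq_bot_iff hn).1 e'))))
  obtain ⟨x, hx, rfl⟩ := (mem_quo_of_le hn).1 ht.1
  have h1 : x ∉ 𝐂(B) := fun e => t1 (coset_eq_one e)
  have h2 : x * x ∈ 𝐂(B) :=
    (coset_eq_one_iff (hn (mul_mem hx hx))).1 ((coset_mul (hn hx) (hn hx)).trans t2)
  by_cases hB : 𝐂(B) ≤ B
  swap
  · exact Eo.case1 h ha hB h1 h2
  obtain ⟨Ω, hΩ⟩ := Eo.exists_Om h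
  obtain ⟨c, rfl⟩ := h.surj x
  exact Eo.case2 h hΩ hT h1 (hB h2) fun s hs => hB ((coset_commute_iff (hn hs) (hn hx)).1
    (mem_cent_iff.1 ht.2 _ (coset_mem_quo _ hs)))

end Cfsg.Agent.I2
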