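import Cfsg.Agent.Lib.I2.EOa
import Cfsg.Agent.Lib.I2.EOcP
import Cfsg.Agent.S3776

/-!
# Package EOc: the case of a nonabelian centralizer
-/

set_option autoImplicit false
set_option linter.unusedSectionVars false

namespace Cfsg.Agent.I2.Eoc

open Subgroup Cfsg.Agent.OO Cfsg.Agent.Coprime Cfsg.Agent.SZ Cfsg.Agent.GW Cfsg.Agent.W4
open Cfsg.Agent.R4 (abelem_sq)
open Cfsg.Agent.Suz2 (Pres exists_pres add_self' VSpec)
open scoped commutatorElement Pointwise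

universe u

variable {Γ G : Type u} [Group Γ] [Finite Γ] [Group G] [Finite G] {f : Γ →* G} {B Y : Subgroup G}
  {K L X : Subgroup Γ} {ν : Γ → Γ} {a b k w x y z : Γ}

theorem exists_ne (h : EH f B Y) (v : G) : ∃ b ∈ B, b ≠ 1 ∧ b ≠ v := by
  by_contra! e
  have h4 : (B : Set G) ⊆ {1, v} := fun b hb => or_iff_not_imp_left.2 (e b hb)
  have := (Set.ncard_le_ncard h4).trans (Set.ncard_insert_le _ _)
  have h8 := h.eight
  rw [Set.ncard_singleton, ← Nat.card_coe_set_eq] at this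
  exact absurd (h8.trans this) (by norm_num)

theorem special (h : EH f B Y) (hn : ¬ Ab 𝐂(B)) : ∀ x ∈ 𝐂(B), x * x ∈ B := fun x hx => by
  have := h.normal
  have hle := abelem_le_cent h.elem
  have := sol_of_odd h.odd
  obtain ⟨a, ha, a1, -⟩ := exists_ne h 1
  obtain ⟨b, hb, b1, ab⟩ := exists_ne h a
  obtain ⟨-, h2, h3⟩ := S3776.result h.twoC hn ⟨⟨b, hle hb⟩, ⟨a, hle ha⟩,
    fun e => ab (congrArg Subtype.val e), fun e => b1 (congrArg Subtype.val e),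
    Subtype.ext (h.elem.2 b hb), fun e => a1 (congrArg Subtype.val e), Subtype.ext (h.elem.2 a ha)⟩
    ⟨Y.map MulAut.conjNormal, Group.isSolvable_of_surjective (MulAut.conjNormal.subgroupMap_surjective Y),
      fun u v u1 u2 v1 v2 => by
        obtain ⟨y, hy, e⟩ := h.trans u (h.inv _ ((pow_two _).symm.trans (congrArg Subtype.val u2))) v
          (h.inv _ ((pow_two _).symm.trans (congrArg Subtype.val v2)))
          (fun e => u1 (Subtype.ext e)) fun e => v1 (Subtype.ext e)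
        exact ⟨_, mem_map_of_mem _ hy, Subtype.ext e⟩⟩
  have := congrArg Subtype.val ((h3 _).1 (h2 ▸ PGrp.pow_mem_frattini h.twoC ⟨x, hx⟩))
  exact h.inv _ (by simpa [pow_two] using this)

theorem comm (h : EH f B Y) (ha : f a ∈ B) (hb : f b ∈ B) : a * b = b * a := by
  obtain ⟨Ω, hΩ⟩ := Eo.exists_Om h
  obtain ⟨w, hw, z, hz, rfl⟩ := Eo.Om_split h hΩ hb
  rw [← mul_assoc, mul_inv_eq_iff_eq_mul.1 (Eo.Om_cent h hΩ hw ha), mul_assoc, h.toCv.comm hz,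
    mul_assoc]

theorem conj_mem (h : EH f B Y) (g : Γ) (hb : f b ∈ B) : f (g * b * g⁻¹) ∈ B := by
  simpa using h.normal.conj_mem _ hb (f g)

theorem conj_mem' (h : EH f B Y) (g : Γ) (hb : f b ∈ B) : f (g⁻¹ * b * g) ∈ B := by
  simpa using conj_mem h g⁻¹ hb

theorem conj_memC (h : EH f B Y) (g : Γ) (hb : f x ∈ 𝐂(B)) : f (g * x * g⁻¹) ∈ 𝐂(B) := by
  simpa using conj_mem_of_norm (norm_le_norm_cent B (Eo.normB h (f g))) hb

variable (f B) in
/-- the squares of the elements of `x B` form a coset of this subgroup -/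
def DD (x : Γ) : Subgroup Γ := closure {k | ∃ b, f b ∈ B ∧ k = x⁻¹ * b * x * b}

theorem mem_DD (h : EH f B Y) : k ∈ DD f B x ↔ ∃ b, f b ∈ B ∧ k = x⁻¹ * b * x * b := by
  refine ⟨fun hk => ?_, fun e => subset_closure e⟩
  induction hk using closure_induction with
  | mem _ e => exact e
  | one => exact ⟨1, by simp, by simp⟩
  | mul _ _ _ _ h1 h2 =>
    obtain ⟨b, hb, rfl⟩ := h1
    obtain ⟨c, hc, rfl⟩ := h2
    refine ⟨b * c, by simpa using mul_mem hb hc, ?_⟩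
    calc _ = x⁻¹ * b * x * (b * (x⁻¹ * c * x)) * c := by group
      _ = _ := by rw [comm h hb (conj_mem' h x hc)]; group
  | inv _ _ h1 =>
    obtain ⟨b, hb, rfl⟩ := h1
    exact ⟨b⁻¹, by simpa using hb, by rw [comm h (conj_mem' h x hb) hb]; group⟩

theorem DD_ker (h : EH f B Y) (hx : f x ∈ 𝐂(B)) (hk : k ∈ DD f B x) : f k = 1 := by
  obtain ⟨b, hb, rfl⟩ := (mem_DD h).1 hk
  simp only [map_mul, map_inv]
  rw [mul_assoc (f x)⁻¹, mem_cent_iff.1 hx _ hb, inv_mul_cancel_left, abelem_sq h.elem hb]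

theorem sq_mem (h : EH f B Y) (x : Γ) (hb : f b ∈ B) : b * b ∈ DD f B x := by
  obtain ⟨w, e, e'⟩ := h.lf _ hb
  obtain ⟨z, rfl⟩ : ∃ z, b = w * z := ⟨w⁻¹ * b, by group⟩
  have hz : f z = 1 := by simpa using e'.symm
  refine (mem_DD h).2 ⟨z, hz ▸ one_mem _, ?_⟩
  rw [mul_assoc x⁻¹, ← h.toCv.comm hz x, inv_mul_cancel_left, ← mul_assoc, mul_assoc w,
    ← h.toCv.comm hz w, ← mul_assoc, e, one_mul]

/-- the standing hypotheses -/
structure NH (f : Γ →* G) (B Y : Subgroup G) (X : Subgroup Γ) (ν : Γ → Γ) : Prop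
    extends EH f B Y where
  sq : ∀ x, f x ∈ 𝐂(B) → f (x * x) ∈ B
  oddX : Odd ♯X
  tr : ∀ a b, f a ∈ B → f b ∈ B → f a ≠ 1 → f b ≠ 1 → ∃ y ∈ X, f (y * a * y⁻¹) = f b
  mul : ∀ a b, f a ∈ B → f b ∈ B → ν (a * b) = ν a * ν b
  ker : ∀ b, f b ∈ B → f (ν b) = 1
  conj : ∀ g ∈ X, ∀ b, f b ∈ B → ν (g * b * g⁻¹) = ν b
  pow : ∀ z, f z = 1 → ν z = z ^ ♯X

open scoped IsMulCommutative in
theorem exists_nh (h : EH f B Y) (hn : ¬ Ab 𝐂(B)) : ∃ X ν, NH f B Y X ν := by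
  classical
  have h1 : PNil 2 (Y.comap f) := ZG.pnil_two fun R hR h2 g _ _ _ => mem_cent_iff.2 fun a ha =>
    (h.toCv.comm (PiElt.eq_one ((two_of_mem h2 ha).map f) (odd_elt.1 (odd_of_mem h.odd (hR ha)))) g).symm
  have tr : ∀ a b, f a ∈ B → f b ∈ B → f a ≠ 1 → f b ≠ 1 →
      ∃ y ∈ O (Y.comap f), f (y * a * y⁻¹) = f b := fun a b ha hb a1 b1 => by
    obtain ⟨y, hy, e⟩ := h.trans _ ha _ hb a1 b1
    obtain ⟨y, ho, rfl⟩ := h.toCv.exists_odd (odd_of_mem h.odd hy)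
    exact ⟨y, (NS.mem_O h1).2 ⟨hy, ho⟩, by simpa using e⟩
  have ho := odd_O (Y.comap f)
  generalize O (Y.comap f) = X at tr ho
  have := h.normal
  have : IsMulCommutative (B.comap f) := ab_iff.2 fun _ ha _ hb => comm h ha hb
  cases nonempty_fintype X
  let μ : B.comap f → B.comap f := fun b => ∏ y : X, MulAut.conjNormal (y : Γ) b
  refine ⟨X, fun b => if hb : f b ∈ B then μ ⟨b, hb⟩ else 1, h,
    fun x hx => map_mul f x x ▸ special h hn _ hx, ho, tr, fun a b ha hb => ?_, fun b hb => ?_,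
    fun g hg b hb => ?_, fun z hz => ?_⟩
  · rw [dif_pos (map_mul f a b ▸ mul_mem ha hb), dif_pos ha, dif_pos hb, ← coe_mul,
      ← Finset.prod_mul_distrib]
    exact congrArg _ (Finset.prod_congr rfl fun y _ => map_mul _ (⟨a, ha⟩ : B.comap f) ⟨b, hb⟩)
  · rw [dif_pos hb]
    by_contra e
    obtain ⟨c, hc, c1, c2⟩ := exists_ne h (f (μ ⟨b, hb⟩))
    obtain ⟨c, rfl⟩ := h.surj c
    obtain ⟨y, hy, e'⟩ := tr _ c (μ ⟨b, hb⟩).2 hc e c1
    refine c2 (e' ▸ congrArg (fun v : B.comap f => f v) (show MulAut.conjNormal y (μ _) = μ _ from ?_))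
    refine (map_prod _ _ _).trans (Eq.trans ?_ (Equiv.prod_comp (Equiv.mulLeft (⟨y, hy⟩ : X)) _))
    exact Finset.prod_congr rfl fun y _ => Subtype.ext (by simp [mul_assoc])
  · rw [dif_pos hb, dif_pos (conj_mem h g hb)]
    refine congrArg _ (Eq.trans ?_ (Equiv.prod_comp (Equiv.mulRight (⟨g, hg⟩ : X)) _))
    exact Finset.prod_congr rfl fun y _ => Subtype.ext (by simp [mul_assoc])
  · have hz' : f z ∈ B := hz ▸ one_mem _
    rw [dif_pos hz', show μ ⟨z, hz'⟩ = ∏ _y : X, (⟨z, hz'⟩ : B.comap f) from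
      Finset.prod_congr rfl fun y _ => Subtype.ext (Eo.conj_ker h hz y), Finset.prod_const,
      Finset.card_univ, Nat.card_eq_fintype_card, coe_pow]

namespace NH

theorem mem_of (h : NH f B Y X ν) (hk : f k = 1) (h1 : ν k ∈ K) (h2 : k * k ∈ K) : k ∈ K := by
  obtain ⟨m, hm⟩ := h.oddX
  rwa [h.pow k hk, hm, pow_succ, pow_mul, pow_two, mul_mem_cancel_left (pow_mem h2 m)] at h1

theorem mem_B (h : NH f B Y X ν) (e : f (x * x) = 1) : f x ∈ B := h.inv _ (map_mul f x x ▸ e)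

/-- elements with congruent squares are congruent -/
theorem eq_of (h : NH f B Y X ν) (hx : f x ∈ 𝐂(B)) (hy : f y ∈ 𝐂(B)) (e : f (x * x) = f (y * y))
    (e' : ∃ a ∈ DD f B x, ∃ b ∈ DD f B y, ν (y * y) = ν (x * x) * (a * b)) : f (x⁻¹ * y) ∈ B := by
  obtain ⟨a, ha, b, hb, e'⟩ := e'
  have h1 : f ((x * x)⁻¹ * (y * y)) = 1 := by rw [map_mul, map_inv, e, inv_mul_cancel]
  have h2 := h.mul _ _ (h.sq x hx) (h1 ▸ one_mem B)
  rw [mul_inv_cancel_left, e', mul_right_inj] at h2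
  have h3 := h.mem_of h1 (h2 ▸ mul_mem_sup ha hb) (mem_sup_left (sq_mem h.toEH x (h1 ▸ one_mem B)))
  obtain ⟨c', hc', d, hd, e1⟩ := (mem_sup_norm_left (le_norm_of_le_cent fun c hc =>
    mem_cent_iff.2 fun d _ => h.toCv.comm (DD_ker h.toEH hy hc) d)).1 h3
  obtain ⟨c, hc, rfl⟩ := (mem_DD h.toEH).1 hc'
  obtain ⟨d', hd', e2⟩ := (mem_DD h.toEH).1 (inv_mem hd)
  have hle := abelem_le_cent h.elem
  have := h.toCv.sq_eq h.twoC (a := x * c) (b := y * d') (by simpa using mul_mem hx (hle hc))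
    (by simpa using mul_mem hy (hle hd')) (by
      calc _ = x * x * (x⁻¹ * c * x * c * d) * d⁻¹ := by group
        _ = _ := by rw [e1, e2]; group)
  have h4 := conj_mem' h.toEH x (h.mem_B (by rw [this, map_one]))
  have := mul_mem (mul_mem (inv_mem h4) hc) (inv_mem hd')
  simpa [mul_assoc] using this

end NH

/-- minimal invariant subgroups -/
structure Mn (f : Γ →* G) (B : Subgroup G) (X L : Subgroup Γ) : Prop where
  lt : B.comap f < L
  le : L ≤ 𝐂(B).comap f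
  norm : X ≤ 𝐍(L)
  min : ∀ K, B.comap f ≤ K → K ≤ L → X ≤ 𝐍(K) → K = B.comap f ∨ K = L

theorem exists_mn (h1 : B.comap f < K) (h2 : K ≤ 𝐂(B).comap f) (h3 : X ≤ 𝐍(K)) :
    ∃ L ≤ K, Mn f B X L := by
  obtain ⟨L, ⟨e1, e2, e3⟩, e⟩ := (wellFounded_lt (α := Subgroup Γ)).has_min
    {L | B.comap f < L ∧ L ≤ K ∧ X ≤ 𝐍(L)} ⟨K, h1, le_rfl, h3⟩
  exact ⟨L, e2, e1, e2.trans h2, e3, fun K' k1 k2 k3 => or_iff_not_imp_left.2 fun k4 =>
    k2.eq_or_lt.resolve_right (e _ ⟨lt_of_le_of_ne k1 (Ne.symm k4), k2.trans e2, k3⟩)⟩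

namespace Mn

theorem mem_DD (hL : Mn f B X L) (h : EH f B Y) (hx : x ∈ L) (hx' : f x ∉ B) (hw : w ∈ L)
    (hb : f b ∈ B) : w⁻¹ * b * w * b ∈ DD f B x := by
  have cj : ∀ g, ∀ k ∈ DD f B x, g * k * g⁻¹ ∈ DD f B x := fun g k hk => by
    rwa [Eo.conj_ker h (DD_ker h (hL.le hx) hk)]
  let R : Subgroup Γ :=
    { carrier := {w | w ∈ L ∧ ∀ b, f b ∈ B → w⁻¹ * b * w * b ∈ DD f B x}
      one_mem' := ⟨one_mem _, fun b hb => by simpa using sq_mem h x hb⟩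
      mul_mem' := fun {u v} hu hv => ⟨mul_mem hu.1 hv.1, fun b hb => by
        have := mul_mem (mul_mem (cj v⁻¹ _ (hu.2 b hb)) (hv.2 b⁻¹ (by simpa using hb))) (sq_mem h x hb)
        rwa [show v⁻¹ * (u⁻¹ * b * u * b) * v⁻¹⁻¹ * (v⁻¹ * b⁻¹ * v * b⁻¹) * (b * b) =
          (u * v)⁻¹ * b * (u * v) * b by group] at this⟩
      inv_mem' := fun {u} hu => ⟨inv_mem hu.1, fun b hb => by
        have := hu.2 _ (conj_mem h u hb)
        rwa [show u⁻¹ * (u * b * u⁻¹) * u = b by group, comm h hb (conj_mem h u hb),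
          ← inv_inv u, inv_inv u⁻¹] at this⟩ }
  have := (hL.min R (fun u hu => ⟨hL.lt.le hu, fun b hb => by
      rw [mul_assoc u⁻¹, comm h hb hu, inv_mul_cancel_left]; exact sq_mem h x hb⟩) (fun u hu => hu.1)
    fun g hg => mem_norm_of_conj_mem fun u hu => ⟨conj_mem_of_norm (hL.norm hg) hu.1, fun b hb => by
      have := cj g _ (hu.2 _ (conj_mem' h g hb))
      rwa [show g * (u⁻¹ * (g⁻¹ * b * g) * u * (g⁻¹ * b * g)) * g⁻¹ =
        (g * u * g⁻¹)⁻¹ * b * (g * u * g⁻¹) * b by group] at this⟩).resolve_left fun e =>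
    hx' (e.le (show x ∈ R from ⟨hx, fun b hb => subset_closure ⟨b, hb, rfl⟩⟩))
  exact (this.ge hw).2 b hb

theorem null (hL : Mn f B X L) (h : NH f B Y X ν) (hx : x ∈ L) (hx' : f x ∉ B) :
    (∀ y ∈ L, ν (y * y) ∈ DD f B x) ∧ ∀ y ∈ L, ∀ w ∈ L, ν ⁅y, w⁆ ∈ DD f B x := by
  have := h.normal
  have hD : DD f B x ≤ f.ker := fun _ => DD_ker h.toEH (hL.le hx)
  have : (DD f B x).Normal := ⟨fun k hk g => by rwa [Eo.conj_ker h.toEH (hD hk)]⟩
  have sq : ∀ y ∈ L, y * y ∈ B.comap f := fun y hy => h.sq y (hL.le hy)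
  have kB : ∀ k, f k = 1 → f k ∈ B := fun k hk => hk ▸ one_mem B
  obtain ⟨U, _, _, _, p, hp⟩ := exists_pres L (B.comap f) fun u hu => pow_two u ▸ sq u hu
  obtain ⟨V, _, _, _, om, ho⟩ := exists_pres (B.comap f) f.ker fun u hu =>
    pow_two u ▸ hD (sq_mem h.toEH x hu)
  obtain ⟨M, _, _, _, m, hm⟩ := exists_pres f.ker (DD f B x) fun u hu =>
    pow_two u ▸ sq_mem h.toEH x (kB u hu)
  have t1 : ∀ a ∈ B.comap f, ∀ b ∈ B.comap f, m (ν (a * b)) = m (ν a) + m (ν b) := fun a ha b hb => by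
    rw [h.mul a b ha hb, hm.mul _ (h.ker a ha) _ (h.ker b hb)]
  have o1 : ∀ a ∈ B.comap f, ∀ b ∈ B.comap f, om a = om b ↔ f a = f b := fun a ha b hb => by
    rw [ho.eq_iff ha hb, MonoidHom.mem_ker, map_mul, map_inv, inv_mul_eq_one]
  obtain ⟨σ, β, hσ, -, -⟩ := exists_quad hp sq om ho.mul fun y hy b hb =>
    (o1 _ (conj_mem h.toEH y hb) b hb).2 (by simpa using mem_cent_iff_conj.1 (hL.le hy) _ hb)
  obtain ⟨ζ, γ, hζ, hγ, e⟩ := exists_quad hp sq (fun b => m (ν b)) t1 fun y hy b hb => eq_of_add (by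
    have := hL.mem_DD h.toEH hx hx' (inv_mem hy) hb
    rw [inv_inv] at this
    rw [← t1 _ (conj_mem h.toEH y hb) b hb, h.pow _ (hD this), hm.zero_iff _ (pow_mem (hD this) _)]
    exact pow_mem this _)
  obtain ⟨ρ, hρ⟩ := exists_rep (H := X) hp (fun y hy u => conj_mem_of_norm (hL.norm hy))
    fun y _ u => conj_mem h.toEH y
  have : Nontrivial U := ⟨p x, 0, mt (hp.zero_iff x hx).1 hx'⟩
  have σ0 : ∀ u, σ u = 0 ↔ u = 0 := fun u => by
    obtain ⟨y, hy, rfl⟩ := hp.surj u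
    rw [hσ y hy, ho.zero_iff _ (sq y hy), hp.zero_iff y hy]
    exact ⟨h.mem_B, fun e => hD (sq_mem h.toEH x e)⟩
  have key := count (σ := σ) (fun i : X => ρ i) e ?_ σ0 (fun u v e1 e2 => ?_)
    (fun i u => ⟨_, Lin1.apply_inv i u⟩) (fun i u => ?_) (fun u hu v hv => ?_) fun K hK => ?_
  · refine ⟨fun y hy => (hm.zero_iff _ (h.ker _ (sq y hy))).1 ((hζ y hy).symm.trans (key _)),
      fun y hy w hw => (hm.zero_iff _ (h.ker _ (comm_mem sq hy hw))).1 ((hγ y hy w hw).symm.trans ?_)⟩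
    simpa [key] using (e (p y) (p w)).symm
  · rw [pres_card ho, ← MonoidHom.comap_bot, relIndex_comap, relIndex_bot_left,
      map_comap_eq_self_of_surjective h.surj]
    exact h.eight
  · by_cases h0 : u = 0
    · rw [h0, (σ0 v).1 (e1 ▸ (σ0 u).2 h0)]
    obtain ⟨y, hy, rfl⟩ := hp.surj u
    obtain ⟨w, hw, rfl⟩ := hp.surj v
    rw [hσ y hy, hσ w hw, o1 _ (sq y hy) _ (sq w hw)] at e1
    rw [hζ y hy, hζ w hw, hm.eq_iff (h.ker _ (sq y hy)) (h.ker _ (sq w hw))] at e2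
    obtain ⟨b, hb, e3⟩ := (Eoc.mem_DD h.toEH).1 e2
    exact (hp.eq_iff hy hw).2 (h.eq_of (hL.le hy) (hL.le hw) e1 ⟨_, hL.mem_DD h.toEH hy
      (mt (hp.zero_iff y hy).2 h0) hx hb, 1, one_mem _, by rw [← e3]; group⟩)
  · obtain ⟨y, hy, rfl⟩ := hp.surj u
    rw [hρ i y hy, hζ _ (conj_mem_of_norm (hL.norm i.2) hy), hζ y hy, conj_mul, h.conj _ i.2 _ (sq y hy)]
  · obtain ⟨y, hy, rfl⟩ := hp.surj u
    obtain ⟨b, hb, rfl⟩ := ho.surj v
    obtain ⟨g, hg, e⟩ := h.tr _ b (sq y hy) hb (fun e => hu ((hp.zero_iff y hy).2 (h.mem_B e)))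
      (mt (ho.zero_iff b hb).2 hv)
    exact ⟨⟨g, hg⟩, by rw [hρ _ y hy, hσ _ (conj_mem_of_norm (hL.norm hg) hy), conj_mul,
      o1 _ (conj_mem h.toEH g (sq y hy)) b hb, e]⟩
  · let R : Subgroup Γ :=
      { carrier := {w | w ∈ L ∧ p w ∈ K}
        one_mem' := ⟨one_mem _, by rw [add_one hp.mul]; exact zero_mem _⟩
        mul_mem' := fun {u v} hu hv => ⟨mul_mem hu.1 hv.1, by
          rw [hp.mul u hu.1 v hv.1]; exact add_mem hu.2 hv.2⟩
        inv_mem' := fun {u} hu => ⟨inv_mem hu.1, by rw [add_inv hp.mul hu.1]; exact hu.2⟩ }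
    refine (hL.min R (fun u hu => ⟨hL.lt.le hu, by
      rw [(hp.zero_iff u (hL.lt.le hu)).2 hu]; exact zero_mem _⟩) (fun u hu => hu.1)
      fun g hg => mem_norm_of_conj_mem fun u hu => ⟨conj_mem_of_norm (hL.norm hg) hu.1,
        hρ ⟨g, hg⟩ u hu.1 ▸ hK _ _ hu.2⟩).imp (fun e => ?_) fun e => ?_
    · refine (AddSubgroup.eq_bot_iff_forall _).2 fun u hu => ?_
      obtain ⟨y, hy, rfl⟩ := hp.surj u
      exact (hp.zero_iff y hy).2 (e.le ⟨hy, hu⟩)
    · refine (AddSubgroup.eq_top_iff' _).2 fun u => ?_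
      obtain ⟨y, hy, rfl⟩ := hp.surj u
      exact (e.ge hy).2

theorem null' (hL : Mn f B X L) (h : NH f B Y X ν) (hx : x ∈ L) : ν (x * x) ∈ DD f B x := by
  by_cases hx' : f x ∈ B
  · have := sq_mem h.toEH x hx'
    rw [h.pow _ (DD_ker h.toEH (hL.le hx) this)]
    exact pow_mem this _
  · exact (hL.null h hx hx').1 x hx

end Mn

namespace NH

theorem eq_of_null (h : NH f B Y X ν) (hL : Mn f B X L) (hK : Mn f B X K) (hx : x ∈ L) (hy : y ∈ K)
    (e : f (x * x) = f (y * y)) : f (x⁻¹ * y) ∈ B :=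
  h.eq_of (hL.le hx) (hK.le hy) e ⟨_, inv_mem (hL.null' h hx), _, hK.null' h hy, by group⟩

theorem mn_top (h : NH f B Y X ν) (hn : ¬ Ab 𝐂(B)) : Mn f B X (𝐂(B).comap f) := by
  have := h.normal
  have hX : X ≤ 𝐍(𝐂(B).comap f) := fun g _ => mem_norm_of_conj_mem fun _ => conj_memC h.toEH g
  obtain ⟨L, -, hL⟩ := exists_mn (K := 𝐂(B).comap f) (lt_of_le_of_ne
    (comap_mono (abelem_le_cent h.elem)) fun e =>
      hn (comap_injective h.surj e ▸ abelem_ab h.elem)) le_rfl hX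
  let φ := QuotientGroup.mk' (B.comap f)
  have hφ : φ.ker = B.comap f := QuotientGroup.ker_mk' _
  have sq : ∀ y ∈ 𝐂(B).comap f, y * y ∈ B.comap f := h.sq
  have el : IsElementaryAbelian 2 ((𝐂(B).comap f).map φ) := ⟨ab_iff.2 (by
      rintro _ ⟨a, ha, rfl⟩ _ ⟨b, hb, rfl⟩
      rw [← commutatorElement_eq_one_iff_mul_comm, ← map_commutatorElement]
      exact hφ.ge (comm_mem sq ha hb)), by
    rintro _ ⟨a, ha, rfl⟩
    rw [← map_pow, pow_two]
    exact hφ.ge (sq a ha)⟩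
  obtain ⟨W, h1, h2, h3⟩ := maschke_elemAb el ((map_mono hX).trans (map_norm_le φ _))
    (map_mono hL.le) ((map_mono hL.norm).trans (map_norm_le φ _))
    (cop (h.oddX.of_dvd_nat (card_map_dvd X φ)) ((abelem_isPGroup el).to_le (map_mono hL.le)))
  have h4 : (𝐂(B).comap f : Subgroup Γ) = ((𝐂(B).comap f).map φ).comap φ :=
    (comap_map_eq_self (hφ.le.trans (hL.lt.le.trans hL.le))).symm
  by_cases h5 : W = ⊥
  · rw [h5, sup_bot_eq] at h3
    rwa [h4, ← h3, comap_map_eq_self (hφ.le.trans hL.lt.le)]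
  obtain ⟨K, hKW, hK⟩ := exists_mn (K := W.comap φ) (X := X)
    (lt_of_le_of_ne (hφ.ge.trans (ker_le_comap φ W)) fun e => h5 (by
      rw [← map_comap_eq_self_of_surjective (QuotientGroup.mk'_surjective (B.comap f)) W, ← e,
        Subgroup.map_eq_bot_iff, QuotientGroup.ker_mk'])) (h4 ▸ comap_mono (h3 ▸ le_sup_right))
    fun g hg => mem_norm_of_conj_mem fun u hu => show φ _ ∈ W by
      simpa using conj_mem_of_norm (h1 (mem_map_of_mem φ hg)) hu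
  obtain ⟨x, hx, hx'⟩ := SetLike.exists_of_lt hL.lt
  obtain ⟨y, hy, hy'⟩ := SetLike.exists_of_lt hK.lt
  obtain ⟨g, hg, e⟩ := h.tr _ _ (h.sq x (hL.le hx)) (h.sq y (hK.le hy)) (mt h.mem_B hx') (mt h.mem_B hy')
  have h6 := conj_mem_of_norm (hL.norm hg) hx
  have h7 := mul_mem h6 (hL.lt.le (h.eq_of_null hL hK h6 hy (by rw [conj_mul, e])))
  rw [mul_inv_cancel_left] at h7
  exact (hy' (hφ.le (h2.le ⟨mem_map_of_mem φ h7, hKW hy⟩))).elim

theorem main (h : NH f B Y X ν) (hL : Mn f B X (𝐂(B).comap f)) : B.relIndex 𝐂(B) = ♯B ∧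
    ∀ e, f (e * e) ∈ 𝐂(B) → f e ∈ 𝐂(B) := by
  have := h.normal
  have sq : ∀ y ∈ 𝐂(B).comap f, y * y ∈ B.comap f := h.sq
  have cm := @comm_mem _ _ _ _ sq
  obtain ⟨U, _, _, _, p, hp⟩ := exists_pres _ (B.comap f) fun u hu => pow_two u ▸ sq u hu
  obtain ⟨V, _, _, _, om, ho⟩ := exists_pres (B.comap f) f.ker fun u hu =>
    pow_two u ▸ DD_ker h.toEH (map_one f ▸ one_mem _) (sq_mem h.toEH 1 hu)
  have o1 : ∀ a ∈ B.comap f, ∀ b ∈ B.comap f, om a = om b ↔ f a = f b := fun a ha b hb => by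
    rw [ho.eq_iff ha hb, MonoidHom.mem_ker, map_mul, map_inv, inv_mul_eq_one]
  have o2 : ∀ y ∈ 𝐂(B).comap f, ∀ b ∈ B.comap f, om (y * b * y⁻¹) = om b := fun y hy b hb =>
    (o1 _ (conj_mem h.toEH y hb) b hb).2 (by simpa using mem_cent_iff_conj.1 hy _ hb)
  obtain ⟨σ, β, hσ, hβ, hq⟩ := exists_quad hp sq om ho.mul o2
  obtain ⟨ρ, hρ⟩ := exists_rep (H := ⊤) hp (fun y _ u => conj_memC h.toEH y)
    fun y _ u => conj_mem h.toEH y
  obtain ⟨τ, hτ⟩ := exists_rep (H := ⊤) ho (fun y _ u => conj_mem h.toEH y)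
    fun y _ u hu => f.normal_ker.conj_mem u hu y
  have e1 : ∀ g u, σ (ρ g u) = τ g (σ u) := fun g u => by
    obtain ⟨y, hy, rfl⟩ := hp.surj u
    rw [hρ g y hy, hσ _ (conj_memC h.toEH g hy), hσ y hy, hτ g _ (sq y hy), conj_mul]
  have e2 : ∀ g u v, β (ρ g u) (ρ g v) = τ g (β u v) := fun g u v => by
    obtain ⟨y, hy, rfl⟩ := hp.surj u
    obtain ⟨w, hw, rfl⟩ := hp.surj v
    rw [hρ g y hy, hρ g w hw, hβ _ (conj_memC h.toEH g hy) _ (conj_memC h.toEH g hw), hβ y hy w hw,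
      hτ g _ (cm hy hw), conjugate_commutatorElement]
  have alt : ∀ u, β u u = 0 := fun u => by
    obtain ⟨y, hy, rfl⟩ := hp.surj u
    rw [hβ y hy y hy, commutatorElement_self, add_one ho.mul]
  have inj : Function.Injective σ := fun u v e => by
    obtain ⟨y, hy, rfl⟩ := hp.surj u
    obtain ⟨w, hw, rfl⟩ := hp.surj v
    rw [hσ y hy, hσ w hw, o1 _ (sq y hy) _ (sq w hw)] at e
    exact (hp.eq_iff hy hw).2 (h.eq_of_null hL hL hy hw e)
  have σ0 : σ 0 = 0 := by simpa [add_self'] using hq 0 0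
  have tr : ∀ v w : V, v ≠ 0 → w ≠ 0 → ∃ g : X, τ.comp (inclusion le_top) g v = w := fun v w hv hw => by
    obtain ⟨a, ha, rfl⟩ := ho.surj v
    obtain ⟨b, hb, rfl⟩ := ho.surj w
    obtain ⟨g, hg, e⟩ := h.tr a b ha hb (mt (ho.zero_iff a ha).2 hv) (mt (ho.zero_iff b hb).2 hw)
    exact ⟨⟨g, hg⟩, (hτ _ a ha).trans ((o1 _ (conj_mem h.toEH g ha) b hb).2 e)⟩
  have sur : Function.Surjective σ := fun v => by
    obtain ⟨x, hx, hx'⟩ := SetLike.exists_of_lt hL.lt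
    by_cases hv : v = 0
    · exact ⟨0, hv ▸ σ0⟩
    obtain ⟨g, e⟩ := tr (σ (p x)) v (fun e => hx' ((hp.zero_iff x hx).1 (inj (e.trans σ0.symm)))) hv
    exact ⟨_, (e1 _ _).trans e⟩
  have hc := Nat.card_eq_of_bijective σ ⟨inj, sur⟩
  have hV : Nat.card V = ♯B := by
    rw [pres_card ho, ← MonoidHom.comap_bot, relIndex_comap, relIndex_bot_left,
      map_comap_eq_self_of_surjective h.surj]
  refine ⟨by rw [← hV, ← hc, pres_card hp, relIndex_comap, map_comap_eq_self_of_surjective h.surj],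
    fun e he => by_contra fun he' => ?_⟩
  have hn := Module.natCard_eq_pow_finrank (K := ZMod 2) (V := V)
  rw [Nat.card_zmod] at hn
  have h3 : 3 ≤ Module.finrank (ZMod 2) V :=
    (Nat.pow_le_pow_iff_right one_lt_two).1 (h.eight.trans (hV.symm.trans hn).le)
  have : Nontrivial V := Module.nontrivial_of_finrank_pos (R := ZMod 2) (by omega)
  have := sol_of_odd h.oddX
  obtain ⟨x, d, -, k2, k3, k4, k5⟩ := Lin1.exists_semireg_two (ρ := τ.comp (inclusion le_top)) rfl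
    (hn ▸ Nat.even_pow.2 ⟨even_two, by omega⟩) tr
  rw [hn] at k4 k5
  have k6 := Suz2.num_of_dvd (by omega) k4 k5
  have e3 : ∀ (j : ℕ) u, σ ((ρ (inclusion le_top x) ^ j) u) = (τ.comp (inclusion le_top) x ^ j) (σ u) :=
    fun j u => by rw [← map_pow, e1, map_pow]; rfl
  have vs : ∀ {W : Type u} [AddCommGroup W] [Module (ZMod 2) W] (y : Module.End (ZMod 2) W) (j : ℕ),
      (∀ v, (y ^ j) v = v → v = 0) → Function.Injective (y ^ j - 1 : Module.End (ZMod 2) W) :=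
    fun y j e => (injective_iff_map_eq_zero _).2 fun v hv => e v (sub_eq_zero.1 hv)
  obtain ⟨w, hw⟩ : ∃ w, ρ ⟨e, trivial⟩ w ≠ w := by
    by_contra! hw
    refine he' (mem_cent_iff_conj.2 fun b hb => ?_)
    obtain ⟨b, rfl⟩ := h.surj b
    obtain ⟨u, hu⟩ := sur (om b)
    have := e1 ⟨e, trivial⟩ u
    rw [hw, hu, hτ _ b hb, o1 b hb _ (conj_mem h.toEH e hb)] at this
    simpa using this.symm
  obtain ⟨w, h0, hw⟩ := exists_move alt hq inj hc (fun w u => star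
    ⟨hc.trans hn, LinearMap.ext fun u => inj (by rw [e3, k2]; rfl), fun j hj => vs _ j fun v hv =>
      by_contra fun h0 => hj (k3 j (σ v) (fun e => h0 (inj (e.trans σ0.symm))) (by rw [← e3, hv])), k6⟩
    ⟨hn, k2, fun j hj => vs _ j fun v hv => by_contra fun h0 => hj (k3 j v h0 hv), k6⟩
    (num4 h3 k4 k5) alt (e2 _)) (e1 _) (e2 _) (fun u => by
      obtain ⟨y, hy, rfl⟩ := hp.surj u
      rw [hρ _ y hy, hρ _ _ (conj_memC h.toEH e hy), eq_comm, hp.eq_iff hy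
        (conj_memC h.toEH e (conj_memC h.toEH e hy))]
      simpa [commutatorElement_def, mul_assoc] using cm (inv_mem hy) he) hw
  obtain ⟨w, hw', rfl⟩ := hp.surj w
  have hy := mul_mem (inv_mem hw') (show e * w * e⁻¹ ∈ 𝐂(B).comap f from conj_memC h.toEH e hw')
  rw [hρ _ w hw', ← add_inv hp.mul hw', ← hp.mul _ (inv_mem hw') _ (conj_memC h.toEH e hw')] at h0 hw
  obtain ⟨t, ht⟩ := hw (p (e * e))
  obtain ⟨t, ht', rfl⟩ := hp.surj t
  have h1 := mt (hp.zero_iff _ hy).2 h0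
  have hw1 := hL.le.trans (le_norm_self _) ht'
  have c1 := conj_mem_of_norm hw1 (inv_mem hw')
  have c2 := conj_mem_of_norm hw1 (show e * e ∈ _ from he)
  have k1 : f (⁅w⁻¹ * (e * w * e⁻¹), t⁆ * ⁅t * w⁻¹ * t⁻¹, t * (e * e) * t⁻¹⁆) = 1 :=
    (ho.zero_iff _ (mul_mem (cm hy ht') (cm c1 c2))).1 (by
      rw [ho.mul _ (cm hy ht') _ (cm c1 c2), ← hβ _ hy t ht', ← conjugate_commutatorElement,
        o2 t ht' _ (cm (inv_mem hw') he), ← hβ _ (inv_mem hw') _ he, ht, add_self'])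
  obtain ⟨b, hb, e4⟩ := (mem_DD h.toEH).1 (h.mem_of k1 (by
    rw [h.mul _ _ (cm hy ht') (cm c1 c2)]
    exact mul_mem ((hL.null h hy h1).2 _ hy t ht') ((hL.null h hy h1).2 _ c1 _ c2))
    (sq_mem h.toEH _ (k1 ▸ one_mem B)))
  generalize hy' : w⁻¹ * (e * w * e⁻¹) = y at *
  obtain ⟨a, a2, e5⟩ := h.lf _ hb
  obtain ⟨z, rfl⟩ : ∃ z, b = a * z := ⟨a⁻¹ * b, by group⟩
  have hz : f z = 1 := by simpa using e5.symm
  have ha : f a ∈ B := e5 ▸ hb
  have hc' : f (y⁻¹ * a * y * a) = 1 := DD_ker h.toEH hy ((mem_DD h.toEH).2 ⟨a, ha, rfl⟩)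
  refine h1 (h.inv _ (h.toCv.ds.sq (h.toCv.lemR (g := t * e) (q := a) (two_of_mem h.twoC hy) hz hc'
    ?_ (by rw [inv_eq a2]; group))))
  calc _ = y⁻¹ * (⁅y, t⁆ * ⁅t * w⁻¹ * t⁻¹, t * (e * e) * t⁻¹⁆) := by rw [← hy']; group
    _ = y⁻¹ * (y⁻¹ * a * (z * (y * a)) * z) := by rw [e4]; group
    _ = y⁻¹ * (y⁻¹ * a * y * a * (z * z)) := by rw [← h.toCv.comm hz]; group
    _ = _ := by rw [← h.toCv.comm hc', ← mul_assoc]

end NH

end Cfsg.Agent.I2.Eoc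

namespace Cfsg.Agent.I2

open Subgroup Cfsg.Agent.OO

theorem eoc.{u} : EOc.{u} := fun Γ G _ _ _ _ f B Y h hn => by
  obtain ⟨X, ν, h'⟩ := Eoc.exists_nh h hn
  obtain ⟨h1, h2⟩ := h'.main (h'.mn_top hn)
  have := h.normal
  refine ⟨by_contra fun e => ?_, ?_⟩
  · obtain ⟨x, hx⟩ := exists_prime_orderOf_dvd_card' (G := G ⧸ 𝐂(B)) 2
      (Nat.not_odd_iff_even.1 e).two_dvd
    obtain ⟨x, rfl⟩ := QuotientGroup.mk_surjective x
    obtain ⟨x, rfl⟩ := h.surj x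
    have := (QuotientGroup.eq_one_iff _).2 (h2 x ((QuotientGroup.eq_one_iff _).1 (by
      rw [map_mul, QuotientGroup.mk_mul, ← pow_two, ← hx, pow_orderOf_eq_one])))
    simp [this] at hx
  · rw [← card_mul_relIndex (abelem_le_cent h.elem), h1, pow_two]

end Cfsg.Agent.I2
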