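import Cfsg.Agent.Lib.I2.Cov
import Cfsg.Agent.Lib.R4.U34
import Cfsg.Agent.Lib.R4.Fin31
import Cfsg.Agent.Lib.GW2.W1
import Cfsg.Agent.Lib.SEA.Walter
import Cfsg.Agent.Lib.JR.Main
import Cfsg.Prelude.Def_Sporadic

/-!
# Strongly closed four-groups; the list of the known groups
-/

set_option autoImplicit false
set_option linter.unusedSectionVars false

namespace Cfsg.Agent.I2

open Subgroup Cfsg.Agent.OO Cfsg.Agent.Coprime Cfsg.Agent.SZ Cfsg.Agent.GW Cfsg.Agent.W4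
open Cfsg.Agent.R4 (SC InD IsSz Q4 US abelem_sq mem_of_odd_sq four_cases four_ne four_cent cube_conj)
open scoped commutatorElement Pointwise

universe u

variable {G : Type u} [Group G] [Finite G] {A S : Subgroup G} {a b n x : G}

theorem MC.four_fix (hG : MC G) (h : SC A) (h4 : ♯A = 4) (ha : a ∈ A) (hb : b ∈ A) (a1 : a ≠ 1)
    (b1 : b ≠ 1) (ab : a ≠ b) (hx : x ∈ 𝐍(A)) (h1 : x * a * x⁻¹ = b) (h2 : x * b * x⁻¹ = a * b)
    (hn : n ∈ 𝐍(A)) (h3 : n * a * n⁻¹ = a) : n ∈ 𝐂(A) := by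
  have hA := h.elem
  have c1 := ab_iff.1 (abelem_ab hA) a ha b hb
  have a2 := abelem_sq hA ha
  have b2 := abelem_sq hA hb
  have h5 : x * (a * b) * x⁻¹ = a := by rw [← conj_mul, h1, h2, c1, ← mul_assoc, b2, one_mul]
  have key : ∀ g ∈ 𝐍(A), g * x * g⁻¹ * x⁻¹ ∈ 𝐂(A) ∨ g * x * g⁻¹ * x ∈ 𝐂(A) := fun g hg => by
    have hy : g * x * g⁻¹ ∈ 𝐍(A) := mul_mem (mul_mem hg hx) (inv_mem hg)
    have fpf : ∀ v ∈ A, v ≠ 1 → g * x * g⁻¹ * v * (g * x * g⁻¹)⁻¹ ≠ v := fun v hv v1 e => by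
      have e' : x * (g⁻¹ * v * g) * x⁻¹ = g⁻¹ * v * g :=
        (show _ = g⁻¹ * (g * x * g⁻¹ * v * (g * x * g⁻¹)⁻¹) * g by group).trans (by rw [e])
      rcases four_cases hA h4 ha hb a1 b1 ab (conj_mem_of_norm' hg hv) with e1 | e1 | e1 | e1 <;>
        rw [e1] at e'
      · exact v1 (by simpa [mul_eq_one_iff_eq_inv] using e1)
      · exact ab (e'.symm.trans h1)
      · exact a1 (by simpa using h2.symm.trans e')
      · exact b1 (by simpa using e'.symm.trans h5)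
    generalize g * x * g⁻¹ = y at hy fpf
    have k1 := fpf _ (mul_mem ha hb) (four_ne hA ha hb ab)
    rw [← conj_mul] at k1
    rcases four_cases hA h4 ha hb a1 b1 ab (conj_mem_of_norm hy ha) with e | e | e | e
    · exact absurd e (conj_ne_one.2 a1)
    · exact absurd e (fpf a ha a1)
    · rcases four_cases hA h4 ha hb a1 b1 ab (conj_mem_of_norm hy hb) with e' | e' | e' | e'
      · exact absurd e' (conj_ne_one.2 b1)
      · exact absurd (by rw [e, e', c1]) k1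
      · exact absurd e' (fpf b hb b1)
      refine .inl (four_cent hA h4 hb (mul_mem ha hb) b1 (four_ne hA ha hb ab) (by simpa using a1) ?_ ?_)
      · rw [← h1, show y * x⁻¹ * (x * a * x⁻¹) * (y * x⁻¹)⁻¹ = y * a * y⁻¹ by group, e, h1]
      · rw [← h2, show y * x⁻¹ * (x * b * x⁻¹) * (y * x⁻¹)⁻¹ = y * b * y⁻¹ by group, e', h2]
    · rcases four_cases hA h4 ha hb a1 b1 ab (conj_mem_of_norm hy hb) with e' | e' | e' | e'
      · exact absurd e' (conj_ne_one.2 b1)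
      · refine .inr (four_cent hA h4 ha hb a1 b1 ab ?_ ?_)
        · rw [show y * x * a * (y * x)⁻¹ = y * (x * a * x⁻¹) * y⁻¹ by group, h1, e']
        · rw [show y * x * b * (y * x)⁻¹ = y * (x * b * x⁻¹) * y⁻¹ by group, h2, ← conj_mul, e, e',
            c1, mul_assoc, a2, mul_one]
      · exact absurd e' (fpf b hb b1)
      · exact absurd (by simpa using e.trans e'.symm) ab
  let K : Subgroup G :=
    { carrier := {g | g ∈ 𝐍(A) ∧ g * x * g⁻¹ * x⁻¹ ∈ 𝐂(A)}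
      one_mem' := ⟨one_mem _, by simp⟩
      mul_mem' := fun {g k} hg hk => ⟨mul_mem hg.1 hk.1, by
        convert mul_mem (conj_mem_of_norm (norm_le_norm_cent A hg.1) hk.2) hg.2 using 1; group⟩
      inv_mem' := fun {g} hg => ⟨inv_mem hg.1, by
        convert inv_mem (conj_mem_of_norm' (norm_le_norm_cent A hg.1) hg.2) using 1; group⟩ }
  have h6 : n ∈ K := hG.no_two (K := K) h (fun g hg k hk e1 e2 => ⟨mul_mem hg hk, by
    have k1 := (key g hg).resolve_left fun e => e1 ⟨hg, e⟩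
    have k2 := (key k hk).resolve_left fun e => e2 ⟨hk, e⟩
    convert mul_mem (conj_mem_of_norm (norm_le_norm_cent A hg) k2)
      (conj_mem_of_norm (norm_le_norm_cent A hx) (inv_mem k1)) using 1
    group⟩) hn
  refine four_cent hA h4 ha hb a1 b1 ab h3 ?_
  have h7 : n⁻¹ * a * n = a := by rw [← h3]; nth_rewrite 2 [h3]; group
  calc _ = n * x * n⁻¹ * x⁻¹ * (x * (n * a * n⁻¹) * x⁻¹) * (n * x * n⁻¹ * x⁻¹)⁻¹ := by
        rw [← h1]; group
    _ = b := by rw [h3, h1, mem_cent_iff_conj.1 h6.2 b hb]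

theorem MC.exists_q4 (hG : MC G) (h : SC A) (h4 : ♯A = 4) (hS : Syl 2 S ⊤) (hle : A ≤ S) :
    S ≤ 𝐂(A) ∧ ∃ r ∈ 𝐍(S), PiElt {3} r ∧ Q4 A r := by
  have := hG.simple
  have hA := h.elem
  have hSA := h.le_norm hS.isPGroup hle
  obtain ⟨a, ⟨ha, haS⟩, a1⟩ := exists_mem_ne_one (inf_cent_ne_bot_of_isPGroup hS.isPGroup
    (abelem_isPGroup hA) hSA fun e => by rw [e, card_bot] at h4; omega)
  obtain ⟨x, hx, ho, h1⟩ : ∃ x ∈ 𝐍(A), Odd (orderOf x) ∧ x ∉ 𝐂[a] := by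
    by_contra! e
    refine h.not_le_cent hG.nab ha a1 (le_of_forall_syl fun q hq _ => ?_)
    by_cases e2 : q = 2
    · exact e2 ▸ ⟨S, hS.mono hSA le_top, le_cent1_iff.2 haS⟩
    have := Fact.mk hq
    obtain ⟨Q, hQ⟩ := exists_syl q 𝐍(A)
    exact ⟨Q, hQ, fun y hy => e y (hQ.le hy) (Nat.not_even_iff_odd.1 fun e' =>
      (hQ.piGrp.piElt hy).not_dvd Nat.prime_two (Ne.symm e2) e'.two_dvd)⟩
  have hb := conj_mem_of_norm hx ha
  have b1 : x * a * x⁻¹ ≠ 1 := conj_ne_one.2 a1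
  have ab : a ≠ x * a * x⁻¹ := fun e => h1 (mem_cent1_iff_conj.2 e.symm)
  generalize hxa : x * a * x⁻¹ = b at hb b1 ab
  have h2 : x * b * x⁻¹ = a * b := by
    rcases four_cases hA h4 ha hb a1 b1 ab (conj_mem_of_norm hx hb) with e | e | e | e
    · exact absurd e (conj_ne_one.2 b1)
    · exact absurd (mem_of_odd_sq ho (mem_cent1_iff_conj.2
        (.trans (by rw [← hxa]; group) e))) h1
    · exact absurd (by simpa using hxa.trans e.symm) ab
    · exact e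
  have c1 := ab_iff.1 (abelem_ab hA) a ha b hb
  have e1 : b * (a * b) = a := by rw [c1, ← mul_assoc, abelem_sq hA hb, one_mul]
  have e2 : a * b * a = b := by rw [c1, mul_assoc, abelem_sq hA ha, mul_one]
  have h5 : x * (a * b) * x⁻¹ = a := by rw [← conj_mul, hxa, h2, e1]
  have c2 := four_ne hA ha hb ab
  have fix : ∀ n ∈ 𝐍(A), ∀ c ∈ A, c ≠ 1 → n * c * n⁻¹ = c → n ∈ 𝐂(A) := fun n hn c hc c1 e => by
    rcases four_cases hA h4 ha hb a1 b1 ab hc with rfl | rfl | rfl | rfl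
    · exact absurd rfl c1
    · exact hG.four_fix h h4 ha hb a1 b1 ab hx hxa h2 hn e
    · exact hG.four_fix h h4 hb (mul_mem ha hb) b1 c2 (by simpa using a1) hx h2
        (h5.trans e1.symm) hn e
    · exact hG.four_fix h h4 hc ha c1 a1 (by simpa using b1) hx h5 (hxa.trans e2.symm) hn e
  have hSC : S ≤ 𝐂(A) := fun s hs => fix s (hSA hs) a ha a1
    (mem_cent1_iff_conj.1 (le_cent1_iff.2 haS hs))
  refine ⟨hSC, ?_⟩
  obtain ⟨c, hc, n, hn, rfl⟩ := ((hS.mono hSC le_top).frattini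
    ⟨cent_le_norm A, norm_le_norm_cent A⟩).mem_iff.1 hx
  have h6 : ∀ v ∈ A, n * v * n⁻¹ = c * n * v * (c * n)⁻¹ := fun v hv => by
    rw [← mem_cent_iff_conj.1 hc _ (conj_mem_of_norm hn.1 hv)]; group
  have h7 : n ^ 3 ∈ 𝐂(A) := fix _ (pow_mem hn.1 3) a ha a1 (by
    calc _ = n * (n * (n * a * n⁻¹) * n⁻¹) * n⁻¹ := cube_conj n a
      _ = _ := by rw [h6 a ha, hxa, h6 b hb, h2, h6 _ (mul_mem ha hb), h5])
  refine ⟨_, constt_mem {3} hn.2, piElt_constt _ n, hA, h4, constt_mem _ hn.1, fun e => h1 ?_, fix⟩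
  refine cent_le_cent1 ha (mul_mem hc (mem_of_constt_mem e ?_))
  refine zpowers_le.2 (?_ : constt {3}ᶜ n ^ 3 ∈ 𝐂(A)) (mem_zpowers_pow_iff.2
    ((Nat.prime_three.coprime_iff_not_dvd).2
      ((isPiNum_compl_singleton Nat.prime_three).1 (piElt_constt _ n))))
  rw [← constt_pow]
  exact constt_mem _ h7

/-- a strongly closed four-group has an automizer of odd order -/
theorem MC.cen_four (hG : MC G) (h : SC A) (h4 : ♯A = 4) : Cen A := fun g hg e => by
  obtain ⟨S, hS, hle⟩ := exists_syl_ge (M := ⊤) le_top (isPGroup_sup (isPGroup_zpowers_iff.2 e)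
    (abelem_isPGroup h.elem) (Or.inl (zpowers_le.2 hg)))
  exact (hG.exists_q4 h h4 hS (le_sup_right.trans hle)).1 (hle (mem_sup_left (mem_zpowers g)))

theorem ab2_of_syl (hS : Syl 2 S ⊤) (h : Ab S) : R1.Ab2 G := fun _ hP =>
  let ⟨_, _, e⟩ := hS.exists_conj_le le_top hP
  ab_conj.1 (ab_of_le h e)

/-- package U4 -/
theorem MC.u4 (hG : MC G) (hA : SC A) (h4 : ♯A = 4) (hD : ∀ t : G, t * t = 1 → InD A t) :
    R1.Ab2 G := by
  obtain ⟨S, hS, hle⟩ := exists_syl_ge (M := ⊤) le_top (abelem_isPGroup hA.elem)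
  obtain ⟨h1, r, h2, h3, h5⟩ := hG.exists_q4 hA h4 hS hle
  refine ab2_of_syl hS (by_contra fun e => ?_)
  have h : US S A r := ⟨h5, hS, h2, h3, hle, h1, fun x hx x2 => hA.mem hS.isPGroup hle hx (hD x x2), e⟩
  refine (h.hyp hA fun n hn => ?_).false_of hG.der_top
  rw [← constt_mul_constt_compl {2} n]
  refine mul_mem (h.le_CM (hS.mem_of_mem_norm (mem_top _) (constt_mem _ hn.1) (piElt_constt _ n)))
    (le_CM_of_cent (Y := zpowers _) (zpowers_le.2 ?_) (zpowers_le.2 (cent_le_norm A (constt_mem _ hn.2)))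
      (mem_zpowers _))
  exact hG.cov.pp S _ hS.isPGroup (constt_mem _ hn.1) (odd_elt.2 (piElt_constt _ n)) fun x hx x2 =>
    cent_le_cent1 (h.inv x hx x2) (constt_mem _ hn.2)

/-- the list in the statement -/
theorem Kn.list (hs : IsSimpleGroup G) (hn : ¬ IsMulCommutative G) (h : Kn G) :
    (∃ (F : Type) (_ : Field F) (_ : Fintype F), 4 ≤ Fintype.card F ∧
        (Fintype.card F % 8 = 0 ∨ Fintype.card F % 8 = 3 ∨ Fintype.card F % 8 = 5) ∧
        Nonempty (G ≃* Matrix.ProjectiveSpecialLinearGroup (Fin 2) F)) ∨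
    Cfsg.IsSuzuki G ∨ Cfsg.IsRee G ∨ Cfsg.IsJ1 G := by
  have := Fact.mk Nat.prime_two
  rcases h with (⟨n, h2, ⟨e⟩⟩ | ⟨F, _, _, h5, h8, e⟩ | ⟨t, H, L, F, _, _, h⟩) | h
  · rcases h2.eq_or_lt with rfl | h3
    · obtain ⟨F, _, _, h5, h8, e⟩ := R1.gw4 G hs hn (by
        rw [Nat.card_congr e.toEquiv, BSW.card_psl two_ne_zero]; norm_num)
      exact .inl ⟨F, _, _, by omega, .inr h8, e⟩
    let _ : Fintype (GaloisField 2 n) := Fintype.ofFinite _
    have h4 : Fintype.card (GaloisField 2 n) = 8 * 2 ^ (n - 3) := by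
      rw [← Nat.card_eq_fintype_card, GaloisField.card 2 n (by omega), show 8 = 2 ^ 3 from rfl,
        ← pow_add, Nat.add_sub_cancel' h3]
    have := Nat.two_pow_pos (n - 3)
    exact .inl ⟨_, _, _, by omega, .inl (by omega), ⟨e⟩⟩
  · exact .inl ⟨F, _, _, by omega, .inr h8, e⟩
  · obtain ⟨W, S, P, T, p, r, k, hf, -⟩ := JR.fr2 G t H L F h
    obtain rfl : W = ⊥ := by
      rw [← hf.inf, right_eq_inf]
      exact le_sup_right.trans (hf.sup.trans (GW2.w1 G t H L F h)).le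
    obtain ⟨Θ, hΘ⟩ := JR.ch1 G t H L S P T p _ r k hf
    rcases hf.five.eq_or_lt with h5 | h5
    · rw [← h5] at hf hΘ
      exact .inr (.inr (.inr ⟨hs, JR.q5 G t H L S P T p r k Θ hf hΘ⟩))
    obtain ⟨rfl, hG⟩ := JR.ch2 G t H L S P T p _ r k Θ hf h5 (JR.kf G t H L S P T p _ r k hf) hΘ
    obtain ⟨f, ⟨m, rfl⟩, hq⟩ := hf.pow
    refine .inr (.inr (.inl ⟨hs, m, Nat.pos_of_ne_zero ?_, hq ▸ hG⟩))
    rintro rfl
    omega
  · exact .inr (.inl h.isSuzuki)

theorem kn_of_ab2 (hG : MC G) (h : R1.Ab2 G) : Kn G :=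
  .inl (SEA.walter JR.jr G hG.simple hG.nab h)

end Cfsg.Agent.I2
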