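import Cfsg.Agent.Lib.I2.EXd
import Cfsg.Agent.Lib.I2.U4
import Cfsg.Agent.Lib.W3.Base

/-!
# Package EX3 of plan S4030
-/

set_option autoImplicit false
set_option linter.unusedSectionVars false

namespace Cfsg.Agent.I2.Ex

open Subgroup Cfsg.Agent.OO Cfsg.Agent.GW Cfsg.Agent.Coprime Cfsg.Agent.SZ Cfsg.Agent.W4
open Cfsg.Agent.R4 (SC MinSC InD PC SCl abelem_sq)
open Cfsg.Agent.R4.Ex (NS ns_of)
open scoped commutatorElement Pointwise

universe u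

variable {G : Type u} [Group G] [Finite G] {A B C E H J L S V W X : Subgroup G}
  {b c g j k m n o q u v w x y : G} {D : G → Prop}

theorem Lin.mul_cent (l : Lin A W C k) (ho : o ∈ 𝐂(A)) : Lin A W C (k * o) := by
  have e : ∀ (j : ℕ), ∀ v ∈ A, (k * o) ^ j * v * ((k * o) ^ j)⁻¹ = k ^ j * v * (k ^ j)⁻¹ := by
    intro j
    induction j with
    | zero => simp
    | succ j ih =>
      intro v hv
      calc _ = (k * o) ^ j * (k * (o * v * o⁻¹) * k⁻¹) * ((k * o) ^ j)⁻¹ := by rw [pow_succ]; group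
        _ = _ := by
          rw [mem_cent_iff_conj.1 ho v hv, ih _ (conj_mem_of_norm l.kn hv), pow_succ]; group
  exact ⟨l.wle, l.cle, l.four, l.sup, mul_mem l.kn (cent_le_norm A ho),
    mul_mem l.kw (cent_le_norm W (cent_anti l.wle ho)), mul_mem l.kc (cent_anti l.cle ho),
    fun v hv w hw v1 w1 => (l.cyc v hv w hw v1 w1).imp fun j hj => (e j v (l.wle hv)).trans hj⟩

theorem eq_of_four (h4 : ♯B = 4) (h : W ≤ B) (h2 : 2 < ♯W) : W = B := by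
  have h5 := card_le h
  have h6 := card_dvd h
  rw [h4] at h5 h6
  refine eq_of_le_of_card_le h ?_
  interval_cases ♯W <;> simp_all

/-- the configuration of package EX3 -/
structure E3 (V B C L : Subgroup G) (k : G) : Prop extends St V where
  cp : Cp V 𝐂(C) L B k
  ce : V ⊓ 𝐂(L) = C
  c0 : C ≠ ⊥
  hN : 𝐍(V) ⊓ 𝐍(C) ≤ 𝐍(O 𝐂(C)) ⊓ 𝐍(V) ⊓ 𝐍(L ⊔ O 𝐂(C))
  nB : 𝐍(V) ≤ 𝐍(B)
  b4 : ♯B = 4
  cen : Cen B
  ti : ∀ n ∈ 𝐍(V), n •ᶜ C ≠ C → n •ᶜ C ⊓ C = ⊥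
  ex : ∃ n ∈ 𝐍(V), n •ᶜ C ≠ C

/-- the centralizer of the component modulo the core -/
abbrev XC (C L : Subgroup G) : Subgroup G := CM (O 𝐂(C)) (L ⊔ O 𝐂(C))

namespace E3

variable (h : E3 V B C L k)
include h

theorem lin : Lin V B C k := h.ce ▸ h.cp.toPC.linI

theorem eq_one (hn : n ∈ 𝐍(V)) (hb : b ∈ B) (hc : b ∈ n •ᶜ C) : b = 1 := by
  have := h.lin.eq_one h.toSt (conj_mem_of_norm' (h.nB hn) hb) (mem_conj.1 hc)
  simpa [mul_assoc, inv_mul_eq_one] using this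

theorem not_le (hn : n ∈ 𝐍(V)) : ¬ n •ᶜ C ≤ B := fun e => h.c0 (conj_eq_bot_iff.1
  (eq_bot_iff.2 fun _ hx => h.eq_one hn (e hx) hx))

theorem covr (hx : x ∈ V) (h1 : x ∉ B) : ∃ n ∈ 𝐍(V), x ∈ n •ᶜ C := by
  obtain ⟨b, hb, c, hc, rfl⟩ := h.lin.dec h.toSt hx
  by_cases e : b = 1
  · exact ⟨1, one_mem _, by simpa [e] using hc⟩
  obtain ⟨n, hn, h2⟩ := h.ex
  obtain ⟨j, hj⟩ := (h.lin.out h.toSt h.ti hn h2 (h.not_le hn)).2 b hb c hc e
    (by rintro rfl; exact h1 (by rwa [mul_one]))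
  exact ⟨_, mul_mem (pow_mem h.lin.kn j) hn, hj⟩

theorem fix0 (hy : y ∈ 𝐍(V)) (h2 : PiElt {2} y) (h1 : y ∈ 𝐍(C)) : y ∈ 𝐂(V) := by
  have l := h.lin
  have hB := h.cen y (h.nB hy) h2
  obtain ⟨c, hc, c1⟩ := exists_mem_ne_one (inf_cent_ne_bot_of_isPGroup
    (isPGroup_zpowers_iff.2 h2) (h.two l.cle) (zpowers_le.2 h1) h.c0)
  obtain ⟨b, hb, b1⟩ := exists_mem_ne_one (l.ne_bot h.toSt)
  have h3 : b * c ∉ B := fun e => c1 (l.eq_one h.toSt ((mul_mem_cancel_left hb).1 e) hc.1)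
  obtain ⟨m, hm, h4⟩ := h.covr (mul_mem (l.wle hb) (l.cle hc.1)) h3
  have h5 : m •ᶜ C ≠ C := fun e =>
    b1 (l.eq_one h.toSt hb ((C.mul_mem_cancel_right hc.1).1 (e ▸ h4)))
  have h6 := l.mem_of_fix' h.toSt h.ti hm hy h4 (fun e => h3 (e ▸ one_mem B)) (by
    rw [← conj_mul, mem_cent_iff_conj.1 hB b hb,
      mem_cent1_iff_conj.1 (mem_cent1_comm.1 ((cent_zpowers y).le hc.2))])
  have h7 : V ≤ B ⊔ m •ᶜ C := by
    have := conj_mono m l.sup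
    rwa [conj_sup, conj_eq_of_mem_norm hm, conj_eq_of_mem_norm (h.nB hm)] at this
  refine cent_anti l.sup ((cent_sup B C).ge ⟨hB, mem_cent_iff_conj.2 fun d hd => ?_⟩)
  obtain ⟨b', hb', x, hx, rfl⟩ := (mem_sup_norm_right (l.wle.trans
    (h.le_norm (h.conj_le hm l.cle)))).1 (h7 (l.cle hd))
  have h8 : y * x * y⁻¹ * x⁻¹ ∈ m •ᶜ C ⊓ C := ⟨(m •ᶜ C).mul_mem (conj_mem_of_norm h6 hx)
      ((m •ᶜ C).inv_mem hx), by
    have := mul_mem (inv_mem hd) (conj_mem_of_norm h1 hd)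
    rw [← conj_mul, mem_cent_iff_conj.1 hB b' hb', mul_inv_rev, mul_assoc, inv_mul_cancel_left,
      h.comm (inv_mem (h.conj_le hm l.cle hx)) (conj_mem_of_norm hy (h.conj_le hm l.cle hx))] at this
    exact this⟩
  rw [h.ti m hm h5, mem_bot, mul_inv_eq_one] at h8
  rw [← conj_mul, mem_cent_iff_conj.1 hB b' hb', h8]

theorem fix (hn : n ∈ 𝐍(V)) (hy : y ∈ 𝐍(V)) (h2 : PiElt {2} y) (h1 : y ∈ 𝐍(n •ᶜ C)) :
    y ∈ 𝐂(V) := by
  rw [norm_conj, mem_conj] at h1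
  have := conj_mem_of_norm (norm_le_norm_cent V hn) (h.fix0 (mul_mem (mul_mem (inv_mem hn) hy) hn)
    (by simpa using h2.conj n⁻¹) h1)
  simpa [mul_assoc] using this

theorem fixB (hy : y ∈ 𝐍(V)) (h2 : PiElt {2} y) (h1 : y ∉ 𝐂(V)) (hx : x ∈ V)
    (e : y * x * y⁻¹ = x) : x ∈ B := by_contra fun h3 => by
  obtain ⟨n, hn, h4⟩ := h.covr hx h3
  exact h1 (h.fix hn hy h2 (h.lin.mem_of_fix' h.toSt h.ti hn hy h4
    (by rintro rfl; exact h3 (one_mem _)) e))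

theorem le_H : V ≤ 𝐂(C) := h.le_cent h.lin.cle

theorem inf_X : V ⊓ XC C L = C := (h.cp.cent_eq h.toSt h.le_H).trans h.ce

theorem dec0 (hq : q ∈ 𝐂(V)) (h2 : PiElt {2} q) : ∃ b ∈ B, b⁻¹ * q ∈ XC C L := by
  have l := h.lin
  have h1 := h.hN ⟨cent_le_norm V hq, cent_le_norm C (cent_anti l.cle hq)⟩
  have hL := h.cp.normO'
  have hB : B ≤ 𝐍(O 𝐂(C)) := (l.wle.trans h.le_H).trans (O_norm _)
  obtain ⟨Z, -, -, -, -, -, T, sf, e, ⟨n, hz⟩ | ⟨rfl, rfl, -⟩⟩ := h.cp.kind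
  · have := Nat.pow_le_pow_right two_pos hz.three
    have := hz.cardW
    have := h.b4
    omega
  obtain ⟨t, ht, c, hc, e'⟩ := (mem_sup_norm_right (sf.syl.le.trans
    ((le_norm_self _).trans (norm_le_norm_cent _)))).1 (sf.cw _
      ⟨quo_sup_self hL ▸ coset_mem_norm _ h1.2,
        quo_le_cent _ (cent_anti l.wle) (coset_mem_quo _ hq)⟩ (h2.coset _))
  obtain ⟨b, hb, rfl⟩ := (mem_quo_of_le hB).1 ht
  have h3 := mul_mem (inv_mem (hB hb)) h1.1.1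
  refine ⟨b, hb, zpowers_le.1 (le_CM_sup (zpowers_le.2 ⟨h3, (coset_mem_cent_iff h3 hL).1 ?_⟩) hL)⟩
  rwa [coset_mul (inv_mem (hB hb)) h1.1.1, coset_inv, ← e', inv_mul_cancel_left]

theorem dec (hn : n ∈ 𝐍(V)) (hq : q ∈ 𝐂(V)) (h2 : PiElt {2} q) :
    ∃ b ∈ B, b⁻¹ * q ∈ n •ᶜ XC C L := by
  obtain ⟨b, hb, e⟩ := h.dec0 (conj_mem_of_norm' (norm_le_norm_cent V hn) hq)
    (by simpa using h2.conj n⁻¹)
  exact ⟨_, conj_mem_of_norm (h.nB hn) hb, mem_conj.2 (by convert e using 1; group)⟩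

theorem exists_k (hx : x ∈ 𝐂(V)) (hX : x ∈ XC C L) (h2 : PiElt {2} x) :
    ∃ j ∈ 𝐂[x], Lin V B C j := by
  have l := h.lin
  have hB : zpowers x ≤ 𝐍(B) := zpowers_le.2 (cent_le_norm B (cent_anti l.wle hx))
  have h1 : O 𝐂(C) ⊓ 𝐍(B) ≤ 𝐂(V) := fun o ho => cent_anti l.sup ((cent_sup B C).ge
    ⟨mem_cent_iff_conj.2 fun b hb => mul_inv_eq_one.1 (mem_bot.1 (by
      rw [← inf_eq_bot_odd (h.two l.wle) (odd_O 𝐂(C))]
      refine ⟨B.mul_mem (conj_mem_of_norm ho.2 hb) (B.inv_mem hb), ?_⟩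
      rw [show o * b * o⁻¹ * b⁻¹ = o * (b * o⁻¹ * b⁻¹) by group]
      exact mul_mem ho.1 (conj_mem_of_norm (O_norm _ (h.le_H (l.wle hb))) (inv_mem ho.1)))),
      W4.O_le _ ho.1⟩)
  obtain ⟨o, ho, e⟩ := exists_mul_mem_centralizer (A := zpowers x) (N := O 𝐂(C) ⊓ 𝐍(B))
    (le_norm_inf (zpowers_le.2 hX.1) (le_norm_of_le hB))
    (cop (odd_of_le (odd_O _) inf_le_left) (isPGroup_zpowers_iff.2 h2)).symm
    (.inr (sol_of_odd (odd_of_le (odd_O _) inf_le_left))) (g := k) fun a ha => ⟨by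
      have := conj_mem_of_norm' (h.cp.normO' h.cp.kL)
        ((zpowers_le.2 hX ha).2 k (mem_sup_left h.cp.kL))
      rwa [show k⁻¹ * ⁅a, k⁆ * k = k⁻¹ * (a * k * a⁻¹) by
        simp only [commutatorElement_def]; group] at this,
      𝐍(B).mul_mem (inv_mem l.kw) (mul_mem (mul_mem (hB ha) l.kw) (inv_mem (hB ha)))⟩
  exact ⟨_, cent_zpowers x ▸ e, l.mul_cent (h1 ho)⟩

theorem exists_compl (x1 : x ≠ 1) (hx : x ∈ 𝐂(V)) (hX : x ∈ XC C L) (h2 : PiElt {2} x) :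
    ∃ E ≤ V, V ≤ B ⊔ E ∧ E ⊓ B = ⊥ ∧ 𝐍(V) ⊓ 𝐂[x] ≤ 𝐍(E) := by
  have l := h.lin
  have hr := le_cent1_iff.2 hx
  obtain ⟨𝓛, F⟩ := h.fam _ (h.cent1_ne x1) hr
  obtain ⟨J, hJ, h1⟩ : ∃ J ∈ 𝓛, ¬ B ≤ 𝐂(J) := by
    by_contra! e
    have hL := h.cp.normO'
    set K := (L ⊔ O 𝐂(C)) ⊓ 𝐂[x]
    have hK : K ≤ 𝐍(O 𝐂(C)) := inf_le_left.trans ((sup_le h.cp.le (W4.O_le _)).trans (O_norm _))
    have hW : B ≤ K := le_inf (h.cp.wle.trans (inf_le_right.trans le_sup_left)) (l.wle.trans hr)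
    have h3 : L ≤ K ⊔ O 𝐂(C) := by
      rw [← quo_le_quo_iff_le_sup hL hK,
        quo_inf_cent1 le_sup_right hX.1 ((Op'_piGrp 2 _).coprime' h2), quo_sup_self hL]
      exact le_inf le_rfl (le_cent1_iff.2 ((coset_mem_cent_iff hX.1 hL).2
        fun b hb => hX.2 b (mem_sup_left hb)))
    have h4 : ncl B K ≤ K := ncl_le hW (le_norm_self K)
    have h5 := h.cp.toPC.genI h.toSt ((le_ncl B K).trans le_sup_left)
      (h3.trans (sup_le (le_norm_sup (norm_ncl B K) hK) (le_norm_of_le le_sup_right)))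
    refine h.cp.nsol (sol_of_le (sol_sup (h4.trans hK) (sol_of_le (sol_sup (hr.trans (O_norm _))
      (sol_of_ab h.ab) (sol_of_odd (odd_O _))) ((closure_le _).2 ?_)) (sol_of_odd (odd_O _))) h5)
    rintro _ ⟨y, hy, w, hw, rfl⟩
    exact sup_comm (O 𝐂[x]) V ▸ F.a0 w (l.wle hw) (fun J hJ => e J hJ hw) y hy.2
  obtain ⟨W, j, c⟩ := F.cp J hJ
  have l' := c.toPC.linI
  obtain rfl : W = B := eq_of_four h.b4 ((l'.dich h.toSt l.wle (h.nB l'.kn)).resolve_right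
    fun e => h1 (e.trans inf_le_right)) l'.four
  refine ⟨_, inf_le_left, l'.sup, (inf_comm _ _).trans (l'.inf h.toSt), fun g hg => ?_⟩
  obtain ⟨J', hJ', e⟩ := F.perm g hg.2 J hJ
  obtain rfl : J' = J := by_contra fun e' => h1 (le_trans (le_inf l.wle (by
    rw [← e, ← conj_eq_of_mem_norm (h.nB hg.1)]
    exact conj_mono g (c.wle'.trans inf_le_right))) (F.comm J' hJ' J hJ e').1)
  rw [← c.cent_eq h.toSt hr]
  exact mem_norm_inf hg.1 (zpowers_le.1 (Cp.norm_CM (zpowers_le.2 hg.2)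
    (zpowers_le.2 (conj_eq_self_iff.1 e))))

theorem eq0 (hn : n ∈ 𝐍(V)) (x1 : x ≠ 1) (hx : x ∈ 𝐂(V)) (h2 : PiElt {2} x) (hX : x ∈ XC C L)
    (hX' : x ∈ n •ᶜ XC C L) : n •ᶜ C = C := by_contra fun e => by
  obtain ⟨E, hE, h1, h3, h4⟩ := h.exists_compl x1 hx hX h2
  obtain ⟨j, hj, l⟩ := h.exists_k hx hX h2
  obtain ⟨j', hj', l'⟩ := h.exists_k (conj_mem_of_norm' (norm_le_norm_cent V hn) hx)
    (mem_conj.1 hX') (by simpa using h2.conj n⁻¹)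
  have h5 := l.le_of_inf h.toSt hE (h4 ⟨l.kn, hj⟩) h3
  have h6 := l'.le_of_inf h.toSt (h.conj_le (inv_mem hn) hE) (by
    rw [norm_conj, mem_conj, inv_inv]
    refine h4 ⟨𝐍(V).mul_mem (mul_mem hn l'.kn) (inv_mem hn), ?_⟩
    have := conj_mem_conj (g := n) hj'
    rwa [← cent1_conj, show n * (n⁻¹ * x * n) * n⁻¹ = x by group] at this) (by
    rw [← conj_eq_of_mem_norm (h.nB (inv_mem hn)), ← conj_inf, h3, conj_bot])
  have h7 : E = ⊥ := eq_bot_iff.2 (h.ti n hn e ▸ le_inf (le_conj_iff_inv_conj_le.2 h6) h5)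
  have := card_le (h1.trans (by rw [h7, sup_bot_eq]))
  have := h.big
  have := h.b4
  omega

theorem eq (hn : n ∈ 𝐍(V)) (hm : m ∈ 𝐍(V)) (x1 : x ≠ 1) (hx : x ∈ 𝐂(V)) (h2 : PiElt {2} x)
    (hX : x ∈ n •ᶜ XC C L) (hX' : x ∈ m •ᶜ XC C L) : n •ᶜ C = m •ᶜ C := by
  have := h.eq0 (mul_mem (inv_mem hm) hn) (conj_ne_one'.2 x1)
    (conj_mem_of_norm' (norm_le_norm_cent V hm) hx) (by simpa using h2.conj m⁻¹) (mem_conj.1 hX')
    (mem_conj.2 (by convert mem_conj.1 hX using 1; group))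
  rwa [← conj_conj, conj_eq_iff_eq_inv_conj, inv_inv] at this

theorem sq2 (hq : q ∈ 𝐂(V)) (h2 : PiElt {2} q) : q * q = 1 := by_contra fun e => by
  have k : ∀ n ∈ 𝐍(V), q * q ∈ n •ᶜ XC C L := fun n hn => by
    obtain ⟨b, hb, h3⟩ := h.dec hn hq h2
    have h4 := mul_mem h3 h3
    have h5 := h.lin.wle hb
    rwa [inv_eq (h.sq h5), show b * q * (b * q) = b * (q * b * q⁻¹) * (q * q) by group,
      mem_cent_iff_conj.1 hq b h5, h.sq h5, one_mul] at h4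
  obtain ⟨n, hn, h1⟩ := h.ex
  exact h1 (by simpa using (h.eq hn (one_mem _) e (mul_mem hq hq)
    (pow_two q ▸ h2.pow 2) (k n hn) (k 1 (one_mem _))))

theorem part (hq : q ∈ 𝐂(V)) (h2 : PiElt {2} q) (h1 : q ∉ B) : ∃ n ∈ 𝐍(V), q ∈ n •ᶜ XC C L := by
  have l := h.lin
  obtain ⟨c, hc, c1⟩ := exists_mem_ne_one h.c0
  choose n hn e using fun b : B => h.covr (mul_mem (l.wle b.2) (l.cle hc))
    fun e => c1 (l.eq_one h.toSt ((mul_mem_cancel_left b.2).1 e) hc)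
  choose f hf e' using fun b : B => h.dec (hn b) hq h2
  have h3 : Function.Injective fun b : B => (⟨f b, hf b⟩ : B) := fun a b e1 => by
    have e2 : f a = f b := congrArg Subtype.val e1
    have h4 := l.wle (hf a)
    have h5 := h.eq (hn a) (hn b) (fun e3 => h1 (by rw [← inv_mul_eq_one.1 e3]; exact hf a))
      (mul_mem (inv_mem (h.ab.le_cent h4)) hq)
      ((two_of_mem (h.two le_rfl) h4).inv.mul_of_commute h2
        (Commute.inv_left (mem_cent_iff.1 hq _ h4))) (e' a) (e2 ▸ e' b)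
    have h6 := mul_mem (e a) (inv_mem (h5 ▸ e b))
    rw [mul_inv_rev, mul_assoc, mul_inv_cancel_left] at h6
    exact Subtype.ext (mul_inv_eq_one.1 (h.eq_one (hn a) (mul_mem a.2 (inv_mem b.2)) h6))
  obtain ⟨b, hb⟩ := Finite.injective_iff_surjective.1 h3 1
  exact ⟨n b, hn b, by simpa [show f b = 1 from congrArg Subtype.val hb] using e' b⟩

theorem fixQ (hy : y ∈ 𝐍(V)) (y2 : PiElt {2} y) (h1 : y ∉ 𝐂(V)) (hq : q ∈ 𝐂(V))
    (h2 : PiElt {2} q) (e : y * q * y⁻¹ = q) : q ∈ B := by_contra fun h3 => by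
  obtain ⟨n, hn, h4⟩ := h.part hq h2 h3
  have h5 := h.eq (mul_mem hy hn) hn (by rintro rfl; exact h3 (one_mem _)) hq h2
    (e ▸ conj_conj y n _ ▸ conj_mem_conj h4) h4
  exact h1 (h.fix hn hy y2 (conj_eq_self_iff.1 ((conj_conj _ _ _).trans h5)))

theorem no_inv (hD : DS D) (hV : Big D V) (hu : u ∈ 𝐍(V)) (u2 : u * u = 1) : u ∈ 𝐂(V) := by
  by_contra h1
  have l := h.lin
  have h2 := isPGroup_zpowers_iff.1 (R4.two_elt u2)
  have h3 : ∀ v ∈ V, u * v * u⁻¹ * v⁻¹ ∈ B := fun v hv =>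
    h.fixB hu h2 h1 (mul_mem (conj_mem_of_norm hu hv) (inv_mem hv)) (by
      calc _ = u * u * v * (u * u)⁻¹ * (u * v * u⁻¹)⁻¹ := by group
        _ = _ := by
          rw [u2, one_mul, inv_one, mul_one, inv_eq (h.sq (conj_mem_of_norm hu hv)),
            inv_eq (h.sq hv), h.comm hv (conj_mem_of_norm hu hv)])
  have hB := h.cen u (h.nB hu) h2
  have h4 : 𝐍(V) ⊓ (𝐂(B) ⊓ CM B V) ⊴ 𝐍(V) := ⟨inf_le_left, le_norm_inf (le_norm_self _)
    (le_norm_inf (h.nB.trans (norm_le_norm_cent B)) (le_norm_CM h.nB le_rfl))⟩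
  obtain ⟨S, hS, hle⟩ := exists_syl_ge (M := ⊤) le_top
    (isPGroup_sup (h.two le_rfl) (R4.two_elt u2) (.inr (zpowers_le.2 hu)))
  have h5 := hV.toSC.le_norm hS.isPGroup (le_sup_left.trans hle)
  have h6 : k * u * k⁻¹ ∈ 𝐍(V) ⊓ (𝐂(B) ⊓ CM B V) :=
    conj_mem_of_norm (h4.norm l.kn) ⟨hu, hB, h.nB hu, h3⟩
  obtain ⟨m, hm, h7⟩ := ((hS.mono h5 le_top).inf_normal h4).exists_conj_le (zpowers_le.2 h6)
    (R4.two_elt (conj_sq u2 k))
  have h8 : m * k * u * (m * k)⁻¹ ∈ S := by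
    have := (h7 (conj_mem_conj (mem_zpowers _))).1
    rwa [← GW2.mul_cj] at this
  have h9 := hV.top S hS.isPGroup (le_sup_left.trans hle) _
    (mul_mem h8 (hle (mem_sup_right (mem_zpowers u))))
    (hD.om hS.isPGroup u2 (hle (mem_sup_right (mem_zpowers u))) h8)
  obtain ⟨c, hc, c1⟩ := exists_mem_ne_one h.c0
  have hc' := l.cle hc
  have hb := h3 c hc'
  have b1 : u * c * u⁻¹ * c⁻¹ ≠ 1 := fun e =>
    c1 (l.eq_one h.toSt (h.fixB hu h2 h1 hc' (mul_inv_eq_one.1 e)) hc)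
  have e1 : u * c * u⁻¹ = u * c * u⁻¹ * c⁻¹ * c := by group
  generalize u * c * u⁻¹ * c⁻¹ = b at hb b1 e1
  have hb' := (inv_mem hm).2.2.2 c hc'
  have e2 : m⁻¹ * c * m = ⁅m⁻¹, c⁆ * c := by simp only [commutatorElement_def]; group
  generalize ⁅m⁻¹, c⁆ = d at hb' e2
  have e3 : k⁻¹ * c * k = c := by simpa using mem_cent_iff_conj.1 (inv_mem l.kc) c hc
  have hk := conj_mem_of_norm l.kw hb
  have e4 := mem_cent_iff_conj.1 h6.2.1
  have e5 := mem_cent_iff_conj.1 hm.2.1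
  have e6 : k * u * k⁻¹ * c * (k * u * k⁻¹)⁻¹ = k * b * k⁻¹ * c := by
    calc _ = k * (u * (k⁻¹ * c * k) * u⁻¹) * k⁻¹ := by group
      _ = k * b * k⁻¹ * (k * c * k⁻¹) := by rw [e3, e1]; group
      _ = _ := by rw [mem_cent_iff_conj.1 l.kc c hc]
  have e7 : m * k * u * (m * k)⁻¹ * c * (m * k * u * (m * k)⁻¹)⁻¹ = k * b * k⁻¹ * c := by
    calc _ = m * (k * u * k⁻¹ * (m⁻¹ * c * m) * (k * u * k⁻¹)⁻¹) * m⁻¹ := by group
      _ = m * (k * b * k⁻¹) * m⁻¹ * (m * (d * c) * m⁻¹) := by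
        rw [e2, GW2.cj_mul (k * u * k⁻¹) d c, e4 d hb', e6, ← mul_assoc d, h.comm (l.wle hb') (l.wle hk)]; group
      _ = _ := by rw [e5 _ hk, ← e2]; group
  have e8 : m * k * u * (m * k)⁻¹ * b * (m * k * u * (m * k)⁻¹)⁻¹ = b := mem_cent_iff_conj.1
    (h.cen _ (h.nB (h5 h8)) (two_of_mem hS.isPGroup h8)) b hb
  have e9 := mem_cent_iff_conj.1 (h.ab.le_cent h9) c hc'
  rw [GW2.mul_cj, e1, GW2.cj_mul _ b c, e8, e7, ← mul_assoc, mul_eq_right, mul_eq_one_iff_eq_inv,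
    inv_eq (h.sq (l.wle hk))] at e9
  exact b1 (l.nofix h.toSt hb e9.symm)

theorem exists_y : ∃ y ∈ 𝐍(V), PiElt {2} y ∧ y ∉ 𝐂(V) ∧ y * y ∈ 𝐂(V) := by
  by_contra! e
  obtain ⟨n, hn, h1⟩ := h.ex
  refine h.not_le hn ((h.lin.anti h.toSt h.ti (ns_of h.ab fun g hg h2 => ?_) h.c0 n hn h1).2
    (h.not_le (inv_mem hn)))
  obtain ⟨j, hj⟩ := isPGroup_zpowers_iff.2 h2 ⟨g, mem_zpowers g⟩
  replace hj : g ^ 2 ^ j ∈ 𝐂(V) := (show g ^ 2 ^ j = 1 from congrArg Subtype.val hj) ▸ one_mem _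
  induction j with
  | zero => simpa using hj
  | succ j ih => exact ih (by_contra fun e' => e _ (pow_mem hg _) (h2.pow _) e'
      (by rwa [← pow_two, ← pow_mul, ← pow_succ]))

theorem false_of (hD : DS D) (hV : Big D V) : False := by
  have l := h.lin
  obtain ⟨y, hy, y2, h1, h2⟩ := h.exists_y
  obtain ⟨c, hc, c1⟩ := exists_mem_ne_one h.c0
  have hc' := l.cle hc
  have cB : c ∉ B := fun e => c1 (l.eq_one h.toSt e hc)
  have hY : y * y ∈ B := h.fixQ hy y2 h1 h2 (pow_two y ▸ y2.pow 2) (by group)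
  have k1 : ∀ t ∈ V, y * t * y⁻¹ * t⁻¹ ∈ B := fun t ht =>
    h.fixB hy y2 h1 (mul_mem (conj_mem_of_norm hy ht) (inv_mem ht)) (by
      calc _ = y * y * t * (y * y)⁻¹ * (y * t * y⁻¹)⁻¹ := by group
        _ = _ := by
          rw [mem_cent_iff_conj.1 h2 t ht, inv_eq (h.sq (conj_mem_of_norm hy ht)),
            inv_eq (h.sq ht), h.comm ht (conj_mem_of_norm hy ht)])
  have k2 : ∀ t ∈ V, y * t * y⁻¹ * t⁻¹ ≠ y * y := fun t ht e =>
    h1 ((mul_mem_cancel_right (h.ab.le_cent ht)).1 (h.no_inv hD hV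
      (mul_mem hy (le_norm_self V ht)) (by
        calc _ = y * t * y⁻¹ * t⁻¹ * (t * (y * y * t * (y * y)⁻¹)) * (y * y) := by group
          _ = _ := by
            rw [e, mem_cent_iff_conj.1 h2 t ht, h.sq ht, mul_one, h.sq (l.wle hY)])))
  have k3 : ∀ t ∈ V, y * t * y⁻¹ * t⁻¹ = 1 → t ∈ B := fun t ht e =>
    h.fixB hy y2 h1 ht (mul_inv_eq_one.1 e)
  have k4 : ∀ t ∈ V, y * (t * c) * y⁻¹ * (t * c)⁻¹ = y * t * y⁻¹ * t⁻¹ * (y * c * y⁻¹ * c⁻¹) :=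
    fun t ht => by
      rw [mul_assoc _ t⁻¹, h.comm (inv_mem ht) (l.wle (k1 c hc'))]; group
  have k5 : ∀ t ∈ V, t ∉ B → t * c ∈ B := fun t ht h3 => by
    rcases R4.four_cases (h.abelem l.wle) h.b4 (k1 c hc') hY (fun e => cB (k3 c hc' e))
      (fun e => k2 1 (one_mem _) (by simp [e])) (k2 c hc') (k1 t ht) with e | e | e | e
    · exact absurd (k3 t ht e) h3
    · exact k3 _ (mul_mem ht hc') (by rw [k4 t ht, e, h.sq (l.wle (k1 c hc'))])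
    · exact absurd e (k2 t ht)
    · exact absurd (by rw [k4 t ht, e, h.comm (l.wle (k1 c hc')) (l.wle hY), mul_assoc,
        h.sq (l.wle (k1 c hc')), mul_one]) (k2 _ (mul_mem ht hc'))
  have k6 : ∀ n ∈ 𝐍(V), n * c * n⁻¹ * c ∈ B := fun n hn => k5 _ (conj_mem_of_norm hn hc')
    fun e => cB (by simpa [mul_assoc] using conj_mem_of_norm' (h.nB hn) e)
  obtain ⟨S, hS, hle⟩ := exists_syl_ge (M := ⊤) le_top (h.two le_rfl)
  have h5 := hV.toSC.le_norm hS.isPGroup hle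
  have k7 : ∀ s ∈ S, s * s ∈ B := fun s hs => by
    have s2 := two_of_mem hS.isPGroup hs
    by_cases e : s ∈ 𝐂(V)
    · exact h.sq2 e s2 ▸ one_mem B
    have e1 := mem_cent_iff_conj.1 (h.cen s (h.nB (h5 hs)) s2)
    have e2 : s * s * c * (s * s)⁻¹ = c := by
      calc _ = s * (s * c * s⁻¹ * c) * s⁻¹ * (s * c * s⁻¹ * c) * c := by
            rw [show ∀ z, z * (s * c * s⁻¹ * c) * c = z * (s * c * s⁻¹) * (c * c) from
              fun z => by group, h.sq hc', show s * (s * c * s⁻¹ * c) * s⁻¹ * (s * c * s⁻¹) =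
                s * (s * c * s⁻¹ * (c * c)) * s⁻¹ by group, h.sq hc']; group
        _ = _ := by rw [e1 _ (k6 s (h5 hs)), h.sq (l.wle (k6 s (h5 hs))), one_mul]
    have e3 : ∀ b ∈ B, s * s * b * (s * s)⁻¹ = b := fun b hb => by
      rw [GW2.mul_cj, e1 b hb, e1 b hb]
    refine h.fixQ (h5 hs) s2 e (mem_cent_iff_conj.2 fun t ht => ?_) (pow_two s ▸ s2.pow 2) (by group)
    by_cases e4 : t ∈ B
    · exact e3 t e4
    have := e3 _ (k5 t ht e4)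
    rwa [GW2.cj_mul, e2, mul_left_inj] at this
  have k8 := (hS.mono h5 le_top).quo h.nB
  refine W3.not_mem_der k8 (ab_iff.2 fun a ha b hb => ?_) (coset_mem_quo B (hle hc'))
    (fun e => cB ?_) (inf_le_left.trans (le_cent1_iff.2 ((coset_mem_cent_iff (h.le_norm l.wle hc')
      h.nB).2 fun n hn => ?_))) ?_
  · have k9 : ∀ a ∈ S ⁒ B, a * a = 1 := fun a ha => by
      obtain ⟨s, hs, rfl⟩ := (mem_quo_of_le (h5.trans h.nB)).1 ha
      rw [← coset_mul (h.nB (h5 hs)) (h.nB (h5 hs))]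
      exact (coset_eq_one_iff (h.nB (h5 (mul_mem hs hs)))).2 (k7 s hs)
    have := k9 _ (mul_mem ha hb)
    rwa [mul_eq_one_iff_eq_inv, mul_inv_rev, inv_eq (k9 a ha), inv_eq (k9 b hb)] at this
  · exact (coset_eq_one_iff (h.le_norm l.wle hc')).1 e
  · rw [commutatorElement_def, inv_eq (h.sq hc'), show c * n * c * n⁻¹ = c * (n * c * n⁻¹) by group,
      h.comm hc' (conj_mem_of_norm hn hc')]
    exact k6 n hn
  · rw [← quo_der h.nB]
    refine coset_mem_quo B (h.toMC.le_of_ctl hS (hV.toSC.ctl hS hle) (fun x hx n hn _ => ?_) (hle hc'))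
    rw [show x⁻¹ * (n * x * n⁻¹) = ⁅x⁻¹, n⁆ by simp only [commutatorElement_def]; group]
    exact commutator_mem_commutator (inv_mem (h5 hx)) hn.2

end E3

end Cfsg.Agent.I2.Ex

namespace Cfsg.Agent.I2

open Subgroup Cfsg.Agent.OO Cfsg.Agent.GW Cfsg.Agent.W4 Ex

universe u

theorem ex3 (kf2 : KF2.{u}) : EX3.{u} := fun G _ _ D V B hG hD hV h8 hB b4 hle hU => by
  have h := st_of kf2 hG hV.toSC h8
  have nB := norm_le_of_sc hB (h.two le_rfl) hle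
  have b0 : B ≠ ⊥ := by rintro rfl; simp at b4
  by_cases e : ∀ W C, Mx V W C → B ≤ C
  · have h2 : ∀ W C W' C', Mx V W C → Mx V W' C' → C ⊓ C' ≠ ⊥ := fun W C W' C' p q =>
      ne_bot_of_le_ne_bot b0 (le_inf (e _ _ p) (e _ _ q))
    obtain ⟨M, hM⟩ := Su.exists_se ⟨h, fun {W C W' C'} p q => by
      obtain ⟨W'', C'', r, h3⟩ := q.exists_mx
      exact p.tri0 h q (ne_bot_of_le_ne_bot (h2 _ _ _ _ r p) (inf_le_inf_right _ h3)),
      fun p => lt_of_lt_of_le (by omega) (card_le (e _ _ p))⟩ h2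
    exact not_dse hM hle b0 (fun e' => by have := card_le e'; omega) nB
  push Not at e
  obtain ⟨W, C, p, e⟩ := e
  obtain ⟨L, W', k, c, e0, -, hN⟩ := p.exists_cp h
  have l : Lin V W' C k := e0 ▸ c.toPC.linI
  obtain rfl : W' = B := eq_of_four b4 ((l.dich h hle (nB l.kn)).resolve_right e) l.four
  replace p : Mx V W' C := ⟨⟨p.1.1, L, k, c.toPC, e0⟩, p.2⟩
  refine E3.false_of ⟨h, c, e0, p.1.1, hN, nB, b4, hG.cen_four hB b4, fun n hn e1 => by_contra fun e' =>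
    (p.tri0 h (p.1.conj hn) e').elim (fun h1 => e1 (eq_of_le_of_card_le h1 (card_conj n C).le).symm)
      fun h1 => e (conj_eq_of_mem_norm (nB hn) ▸ h1.1), ?_⟩ hD hV
  by_contra! e1
  exact p.1.1 (hU C l.cle (sc_of_norm hV.toSC l.cle fun n hn => conj_eq_self_iff.1 (e1 n hn)) (l.inf h))

end Cfsg.Agent.I2
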