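import Cfsg.Agent.Lib.I2.Cov
import Cfsg.Agent.Lib.R4.EXe

/-!
# The exceptional configuration of rank three
-/

set_option autoImplicit false
set_option linter.unusedSectionVars false

namespace Cfsg.Agent.I2

open Subgroup Cfsg.Agent.OO Cfsg.Agent.Coprime Cfsg.Agent.SZ Cfsg.Agent.GW Cfsg.Agent.W4
open Cfsg.Agent.R4 (SC PC Ctl abelem_sq)
open scoped commutatorElement Pointwise

universe u

variable {G : Type u} [Group G] [Finite G] {A B C K L P S U V W Y : Subgroup G} {a b k w : G}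

namespace X8

theorem pc_fix (hA : IsElementaryAbelian 2 A) (l : PC A L W k) (hw : w ∈ W) (hc : k ∈ 𝐂[w]) :
    w = 1 := by_contra fun h1 => by
  obtain ⟨v, hv, h2, h3⟩ := exists_two (abelem_of_le hA (l.wle.trans inf_le_left)) l.four
    (abelem_sq hA (l.wle hw).1)
  obtain ⟨j, rfl⟩ := l.cyc w hw v hv h1 h2
  exact h3 (mem_cent1_iff_conj.1 (pow_mem hc j))

/-- a subgroup normalized by `N(V)` is strongly closed -/
theorem sc_of_norm (hV : SC V) (hle : C ≤ V) (hn : 𝐍(V) ≤ 𝐍(C)) : SC C := by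
  refine ⟨abelem_of_le hV.elem hle, fun T hT e a ha g hg => ?_⟩
  obtain ⟨S, hS, h1⟩ := exists_syl_ge (M := ⊤) le_top (abelem_isPGroup hV.elem)
  have h2 := (hV.ctl hS h1).scl (hle.trans h1) (inf_le_right.trans hn)
  obtain ⟨h, -, h3⟩ := hS.exists_conj_le le_top hT
  have h4 : h ∈ 𝐍(C) := mem_norm_of_conj_mem fun x hx => h2 x hx h (mem_top h) (h3 (conj_mem_conj (e hx)))
  have h5 := h2 a ha (h * g) (mem_top _) (by
    rw [show h * g * a * (h * g)⁻¹ = h * (g * a * g⁻¹) * h⁻¹ by group]; exact h3 (conj_mem_conj hg))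
  have h6 := conj_mem_of_norm' h4 h5
  rwa [show h⁻¹ * (h * g * a * (h * g)⁻¹) * h = g * a * g⁻¹ by group] at h6

/-- a normal subgroup of odd index has a supplement of odd order -/
theorem exists_odd_sup (hP : Syl 2 P Y) (hK : K ⊴ Y) (hle : P ≤ K) :
    ∃ X ≤ Y, Odd ♯X ∧ Y ≤ K ⊔ X := by
  have := Fact.mk Nat.prime_two
  obtain ⟨X, h1, h2⟩ := hP.syl_norm.hall.exists_sdprod inf_le_right
  exact ⟨X, h2.le.trans inf_le_left, odd_iff.2 h2.piGrp,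
    ((hP.mono hle hK.le).frattini hK).sup_eq.ge.trans (sup_le le_sup_left
      (h1.sup_eq.ge.trans (sup_le_sup_right hle X)))⟩

omit [Finite G] in
theorem der_le_der (h : S ≤ K ⊔ W) (hK : K ≤ S) (hW : W ≤ 𝐂(S)) : der S ≤ der K := by
  have h1 := hW.trans (cent_anti hK)
  calc der S ≤ ⁅K ⊔ W, S⁆ := commutator_mono h le_rfl
    _ = ⁅S, K⁆ := by rw [commutator_sup_cent_left hW (le_norm_of_le_cent h1), commutator_comm]
    _ ≤ ⁅K ⊔ W, K⁆ := commutator_mono h le_rfl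
    _ = der K := commutator_sup_cent_left h1 (le_norm_of_le_cent h1)

theorem key (hB : IsElementaryAbelian 2 B) (h8 : ♯B = 8) (ha : a ∈ B) (a1 : a ≠ 1)
    (l : Cp B 𝐂[a] L W k) (hc : B ⊓ 𝐂(L) = zpowers a) (hn : 𝐂[a] ≤ 𝐍(L ⊔ O 𝐂[a]))
    (hS : Syl 2 S ⊤) (h1 : B ≤ S) (h2 : S ≤ 𝐂(B)) :
    der S ⊓ B ≤ zpowers a ∧ ∃ r ∈ 𝐍(S), (∀ s ∈ S, ⁅r, s⁆ ∈ B) ∧ B ⊓ 𝐂[r] ≤ zpowers a := by
  have := Fact.mk Nat.prime_two
  have hO : O 𝐂[a] ⊴ 𝐂[a] := Opi_normal _ _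
  have hL := l.le.trans hO.norm
  have h3 := h2.trans (cent_le_cent1 ha)
  have h4 := h3.trans hO.norm
  have hW := l.wle.trans inf_le_left
  have one : S ⊓ O 𝐂[a] = ⊥ := inf_eq_bot_odd hS.isPGroup (odd_O _)
  obtain ⟨Z, -, -, -, -, -, T, sf, e, ⟨n, hz⟩ | ⟨rfl, rfl, -, -⟩⟩ := l.kind
  · have := Nat.pow_le_pow_right two_pos hz.three
    have := hz.cardW
    exact absurd (R4.Ex.pc_eq_one hB l.toPC ((eq_of_le_of_card_le hW (by omega)).ge ha)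
      (le_cent1_iff.1 l.le)) a1
  have h5 := quo_le_cent (O 𝐂[a]) (h2.trans (cent_anti hW))
  have k1 : S ≤ S ⊓ CM (O 𝐂[a]) L ⊔ W := fun s hs => by
    have k0 := sf.cw _ (mem_inf.2 ⟨quo_sup_self hL ▸ coset_mem_norm _ (hn (h3 hs)),
      h5 (coset_mem_quo _ hs)⟩) ((two_of_mem hS.isPGroup hs).coset _)
    obtain ⟨_, hw', c, hc, e⟩ := (mem_sup_norm_left (le_norm_of_le_cent (cent_anti sf.syl.le))).1 k0
    obtain ⟨w, hw, -, rfl⟩ := mem_quo.1 hw'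
    have k2 := mul_mem (inv_mem (h1 (hW hw))) hs
    rw [← mul_inv_cancel_left w s]
    refine mul_mem (mem_sup_right hw) (mem_sup_left ⟨k2, h4 k2, (coset_mem_cent_iff (h4 k2) hL).1 ?_⟩)
    rwa [coset_mul (inv_mem (h4 (h1 (hW hw)))) (h4 hs), coset_inv, ← e, inv_mul_cancel_left]
  have k2 : ∀ b ∈ B, ⁅k, b⁆ ∈ O 𝐂[a] → b ∈ zpowers a := fun b hb e => by
    have k3 : k * b * k⁻¹ * b⁻¹ = 1 := mem_bot.1 (one.le
      ⟨h1 (mul_mem (conj_mem_of_norm l.kA hb) (inv_mem hb)), e⟩)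
    obtain ⟨w, hw, c, hc', rfl⟩ := (mem_sup_norm_right (le_norm_of_le_cent (le_cent_mono
      (abelem_le_cent hB) hW inf_le_left))).1 (l.sup hb)
    have k4 : w ∈ 𝐂[k] := (mul_mem_cancel_right (cent_le_cent1 l.kL hc'.2)).1
      (mem_cent1_comm.1 (mem_cent1_iff_conj.2 (mul_inv_eq_one.1 k3)))
    rw [pc_fix hB l.toPC hw (mem_cent1_comm.1 k4), one_mul]
    exact hc.le hc'
  have hk := hL l.kL
  refine ⟨fun x hx => k2 x hx.2 ?_, ?_⟩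
  · have := (der_le _ (der_le_der k1 inf_le_left (hW.trans (le_cent_symm h2)) hx.1)).2.2 k l.kL
    rwa [← inv_mem_iff, commutatorElement_inv] at this
  have h6 : S ≤ 𝐍(B ⊔ O 𝐂[a]) := le_norm_sup (le_norm_of_le_cent h2) h4
  have h7 : zpowers k ≤ CM (B ⊔ O 𝐂[a]) S := CM_symm (k1.trans (sup_le
    (le_CM.2 ⟨inf_le_left.trans h6, ((commutator_mono inf_le_right (zpowers_le.2 l.kL)).trans
      (le_CM.1 le_rfl).2).trans le_sup_right⟩)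
    (le_CM.2 ⟨(hW.trans h1).trans h6, ((commutator_mono hW le_rfl).trans
      (commutator_le_left' (zpowers_le.2 l.kA))).trans le_sup_left⟩)))
    (zpowers_le.2 (mem_norm_sup l.kA hk))
  have h8 : O 𝐂[a] ≤ CM (B ⊔ O 𝐂[a]) S :=
    le_CM.2 ⟨le_norm_of_le le_sup_right, (commutator_le_left' h4).trans le_sup_right⟩
  have h9 : k ∈ 𝐍(O 𝐂[a] ⊔ S) := mem_norm_of_conj_mem fun x hx => by
    obtain ⟨o, ho, s, hs, rfl⟩ := (mem_sup_norm_left h4).1 hx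
    rw [show k * (o * s) * k⁻¹ = k * o * k⁻¹ * ⁅k, s⁆ * s by rw [commutatorElement_def]; group]
    exact mul_mem (mul_mem (mem_sup_left (conj_mem_of_norm hk ho)) (sup_le (h1.trans le_sup_right)
      le_sup_left ((h7 (mem_zpowers k)).2 s hs))) (mem_sup_right hs)
  obtain ⟨x, hx, m, hm, e1⟩ := ((hS.mono le_sup_right le_top).frattini
    ⟨le_norm_self _, le_rfl⟩).mem_iff.1 h9
  obtain ⟨o, ho, s, hs, rfl⟩ := (mem_sup_norm_left h4).1 hx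
  have h10 : s * m ∈ 𝐍(S) := mul_mem (le_norm_self S hs) hm.2
  have h11 : s * m ∈ CM (B ⊔ O 𝐂[a]) S := by
    rw [show s * m = o⁻¹ * k by rw [← e1]; group]
    exact mul_mem (inv_mem (h8 ho)) (h7 (mem_zpowers k))
  refine ⟨_, h10, fun t ht => ?_, fun b hb => k2 b hb.1 ?_⟩
  · have := mem_inf.2 ⟨h11.2 t ht, mul_mem (conj_mem_of_norm h10 ht) (inv_mem ht)⟩
    rwa [sup_inf_of_le_left (.inl (h1.trans h4)) h1, inf_comm, one, sup_bot_eq] at this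
  · rw [← e1, show ⁅o * s * m, b⁆ = o * (s * m * b * (s * m)⁻¹ * o⁻¹ * b⁻¹) by
      rw [commutatorElement_def]; group, mem_cent1_iff_conj.1 (mem_cent1_comm.1 hb.2)]
    exact mul_mem ho (conj_mem_of_norm (h4 (h1 hb.1)) (inv_mem ho))

/-- an invariant complement -/
theorem split (hS : Syl 2 S ⊤) (h1 : U ≤ S) (h2 : 𝐍(S) ≤ 𝐍(U)) (h3 : 𝐍(U) ≤ 𝐍(B))
    (h4 : der S ⊓ B = ⊥)
    (h5 : ∀ b ∈ B, b ≠ 1 → ∃ r ∈ 𝐍(S), (∀ s ∈ S, ⁅r, s⁆ ∈ B) ∧ b ∉ 𝐂[r]) :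
    ∃ C ≤ U, 𝐍(U) ≤ 𝐍(C) ∧ B ⊓ C = ⊥ ∧ U ≤ C ⊔ B := by
  have := Fact.mk Nat.prime_two
  have hY : 𝐍(U) ⊓ CM B U ⊴ 𝐍(U) := ⟨inf_le_left, le_norm_inf (le_norm_self _) (le_norm_CM h3 le_rfl)⟩
  have hK : 𝐂(U) ⊴ 𝐍(U) ⊓ CM B U :=
    ⟨le_inf (cent_le_norm U) (le_CM_of_cent le_rfl ((cent_le_norm U).trans h3)),
      inf_le_left.trans (norm_le_norm_cent U)⟩
  obtain ⟨X, k1, k2, k3⟩ := exists_odd_sup ((hS.mono ((le_norm_self S).trans h2) le_top).inf_normal hY)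
    hK fun s hs => mem_cent_iff.2 fun u hu => (commutatorElement_eq_one_iff_mul_comm.1 (mem_bot.1
      (h4.le ⟨commutator_mem_commutator hs.1 (h1 hu), hs.2.2.2 u hu⟩))).symm
  refine ⟨U ⊓ 𝐂(𝐍(U) ⊓ CM B U), inf_le_left, le_norm_inf le_rfl (hY.norm.trans (norm_le_norm_cent _)),
    eq_bot_iff.2 fun b hb => by_contra fun e => ?_, ?_⟩
  · obtain ⟨r, hr, e1, e2⟩ := h5 b hb.1 e
    exact e2 (cent_le_cent1 (mem_inf.2 ⟨h2 hr, show r ∈ CM B U from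
      ⟨h3 (h2 hr), fun u hu => e1 u (h1 hu)⟩⟩) hb.2.2)
  · refine (coprime_cent_prod (k1.trans inf_le_left) (cop k2 (hS.isPGroup.to_le h1)).symm
      (.inr (sol_of_odd k2))).ge.trans (sup_le ?_ (le_sup_of_le_left (le_inf inf_le_left ?_)))
    · rw [commutator_comm]
      exact (le_CM.1 (k1.trans inf_le_right)).2.trans le_sup_right
    · exact le_cent_symm (k3.trans (sup_le (cent_anti inf_le_left) (le_cent_symm inf_le_right)))

end X8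

open X8 in
/-- package EX8 -/
theorem ex8 : EX8.{u} := fun G _ _ D V B hG hD hV hB hE hle hU => by
  have := Fact.mk Nat.prime_two
  obtain ⟨S, hS, h1⟩ := exists_syl_ge (M := ⊤) le_top (abelem_isPGroup hV.elem)
  have h2 := hle.trans h1
  have h3 : S ≤ 𝐂(B) := fun s hs =>
    hE.cen s (hB.le_norm hS.isPGroup h2 hs) (two_of_mem hS.isPGroup hs)
  have nn : ∀ {A T : Subgroup G}, SC A → IsPGroup 2 T → A ≤ T → 𝐍(T) ≤ 𝐍(A) := fun hA hT e g hg =>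
    mem_norm_of_conj_mem fun x hx => hA.cl _ hT e x hx g (conj_mem_of_norm hg (e hx))
  have k0 : ∀ b ∈ B, b ≠ 1 → ∃ a ∈ B, b ∉ zpowers a ∧ der S ⊓ B ≤ zpowers a ∧
      ∃ r ∈ 𝐍(S), (∀ s ∈ S, ⁅r, s⁆ ∈ B) ∧ B ⊓ 𝐂[r] ≤ zpowers a := fun b hb b1 => by
    obtain ⟨a, ha, a1, ab⟩ := exists_two hB.elem (by rw [hE.card]; omega) (abelem_sq hB.elem hb)
    obtain ⟨L, W, k, l, e1, e2⟩ := hE.cp a ha a1
    exact ⟨a, ha, fun e => ((mem_zp (abelem_sq hB.elem ha)).1 e).elim b1 ab.symm,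
      key hB.elem hE.card ha a1 l e1 e2 hS h2 h3⟩
  have k1 : der S ⊓ B = ⊥ := eq_bot_iff.2 fun b hb => by_contra fun e =>
    let ⟨_, _, e1, e2, _⟩ := k0 b hb.2 e; e1 (e2 hb)
  have k2 : ∀ b ∈ B, b ≠ 1 → ∃ r ∈ 𝐍(S), (∀ s ∈ S, ⁅r, s⁆ ∈ B) ∧ b ∉ 𝐂[r] := fun b hb e =>
    let ⟨_, _, e1, _, r, hr, e2, e3⟩ := k0 b hb e; ⟨r, hr, e2, fun e4 => e1 (e3 ⟨hb, e4⟩)⟩
  obtain ⟨C, c1, c2, c3, c4⟩ := split hS h1 (nn hV.toSC hS.isPGroup h1)
    (nn hB (abelem_isPGroup hV.elem) hle) k1 k2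
  rw [hU C c1 (sc_of_norm hV.toSC c1 c2) c3, bot_sup_eq] at c4
  obtain rfl := le_antisymm hle c4
  obtain ⟨R, r1, r2, r3, r4⟩ := split hS le_rfl le_rfl (nn hB hS.isPGroup h2) k1 k2
  have h4 : 𝐍(S) ≤ 𝐍(der S ⊔ B) := le_norm_sup (norm_le_norm_der S) (nn hB hS.isPGroup h2)
  have h5 : 𝐍(S) ≤ CM (der S ⊔ B) S := fun n hn => by
    rw [← constt_mul_constt_compl {2} n]
    refine mul_mem ?_ ?_
    · have := hS.mem_of_mem_norm (mem_top _) (constt_mem {2} hn) (piElt_constt _ n)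
      exact ⟨h4 (le_norm_self S this), fun s hs => mem_sup_left (commutator_mem_commutator this hs)⟩
    have h6 := constt_mem ({2} : Set ℕ)ᶜ hn
    have h7 := hD.pp (hS.isPGroup.to_le r1) (r2 h6) (odd_elt.2 (piElt_constt _ n)) fun x hx d => by
      rw [mem_bot.1 (r3.le ⟨hV.top S hS.isPGroup h1 x (r1 hx) d, hx⟩)]
      exact mem_cent1.2 (by simp)
    have h8 := (le_norm_self S).trans h4
    exact CM_symm (r4.trans (sup_le (le_CM_of_cent (le_cent_symm (zpowers_le.2 h7)) (r1.trans h8))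
      (le_CM.2 ⟨h2.trans h8, (commutator_le_left' (zpowers_le.2 (nn hB hS.isPGroup h2 h6))).trans
        le_sup_right⟩))) (zpowers_le.2 (h4 h6)) (mem_zpowers _)
  have h6 : S ≤ der S ⊔ B := hG.le_of_ctl hS (ctl_syl hB hS h1 (hD.pnil hV) (by
      rw [sup_eq_right.2 h3]; exact norm_le_norm_cent B)) fun x hx n hn _ => by
    rw [show x⁻¹ * (n * x * n⁻¹) = ⁅n, x⁻¹⁆⁻¹ by rw [commutatorElement_def]; group]
    exact inv_mem ((h5 hn).2 _ (inv_mem hx))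
  have h7 : der S = ⊥ := by_contra fun e => (der_lt (sol_of_le hS.sol (der_le S)) e).not_ge
    (der_le_der h6 (der_le S) (le_cent_symm h3))
  intro P hP
  obtain ⟨g, -, e⟩ := hS.exists_conj_le le_top hP
  exact ab_conj.1 (ab_of_le (ab_iff_der.2 h7) e)

end Cfsg.Agent.I2
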