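import Cfsg.Agent.Lib.I2.EXa
import Cfsg.Agent.Lib.R4.EXb

/-!
# Pump-ups, minimal pairs and the signalizer functor (plan S4030)
-/

set_option autoImplicit false
set_option linter.unusedSectionVars false

namespace Cfsg.Agent.I2

open Subgroup Cfsg.Agent.OO Cfsg.Agent.GW Cfsg.Agent.Coprime Cfsg.Agent.SZ Cfsg.Agent.W4
open Cfsg.Agent.R4 (SC MinSC InD PC SCl abelem_sq)
open scoped commutatorElement Pointwise

universe u

variable {G : Type u} [Group G] [Finite G]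
  {A B C C' D H K L L' M N V W W' X Y Z : Subgroup G}
  {a b c g j k m n w x y : G} {𝓛 : Set (Subgroup G)}

theorem _root_.Cfsg.Agent.R4.PC.linI (l : PC A L W k) : Ex.Lin A W (A ⊓ 𝐂(L)) k :=
  ⟨l.wle.trans inf_le_left, inf_le_left, l.four, l.sup, l.kA, l.kW,
    le_cent_symm inf_le_right l.kL, l.cyc⟩

theorem _root_.Cfsg.Agent.R4.PC.genI (h : Ex.St A) (l : PC A L W k) (h1 : W ≤ X)
    (h2 : L ≤ 𝐍(X)) : L ≤ X := by
  obtain ⟨w, hw, h3⟩ := SetLike.not_le_iff_exists.1 (l.linI.not_le h)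
  exact l.gen X h2 w ⟨(l.wle hw).1, h1 hw⟩ fun e => h3 ⟨(l.wle hw).1, e⟩

theorem _root_.Cfsg.Agent.R4.PC.le_nclI (h : Ex.St A) (l : PC A L W k) (hL : L ≤ H) :
    L ≤ ncl A H :=
  l.genI h (l.linI.wle.trans (W4.le_ncl A H)) (hL.trans (norm_ncl A H))

namespace Cp

theorem normO' (l : Cp A H L W k) : L ≤ 𝐍(O H) := l.le.trans (O_norm H)

theorem wle' (l : Cp A H L W k) : W ≤ A ⊓ (L ⊔ O H) := l.wle.trans (inf_le_inf_left _ le_sup_left)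

theorem cent_eq (h : Ex.St A) (hA : A ≤ H) (l : Cp A H L W k) :
    A ⊓ CM (O H) (L ⊔ O H) = A ⊓ 𝐂(L) := by
  refine le_antisymm (fun a ha => ?_) (le_inf inf_le_left (le_CM_sup (le_CM_of_cent inf_le_right
    ((inf_le_left.trans hA).trans (O_norm H))) l.normO'))
  have l' := l.toPC.linI
  refine l'.mem_of_fix h ha.1 (mul_inv_eq_one.1 (mem_bot.1 ?_))
  rw [← inf_eq_bot_odd (h.two le_rfl) (odd_O H)]
  exact ⟨l'.wle (l'.comm_mem h l'.kc l'.kw ha.1), by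
    simpa [commutatorElement_def, mul_assoc] using (O H).inv_mem (ha.2.2 k (mem_sup_left l.kL))⟩

theorem le_CM (l : Cp A H L W k) (hY : Y ≤ H) (ho : Odd ♯Y) (hA : A ≤ 𝐍(Y)) (hL : L ≤ 𝐍(Y)) :
    Y ≤ CM (O H) L :=
  W4.le_CM.2 ⟨hY.trans (O_norm H), (le_inf (commutator_le_left' hL)
    (commutator_le_of_norm (l.normO Y hY ho hA) le_sup_left)).trans (l.odd _ inf_le_right
      (odd_of_le ho inf_le_left) (le_norm_inf hL (le_norm_of_le le_sup_left)))⟩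

theorem norm_CM (hY : Y ≤ H) (h : Y ≤ 𝐍(L ⊔ O H)) : Y ≤ 𝐍(CM (O H) (L ⊔ O H)) :=
  le_norm_CM (hY.trans (O_norm H)) h

theorem comm_le_CM (h : Ex.St A) (hA : A ≤ H) (l : Cp A H L W k) (hY : Y ≤ H) (ho : Odd ♯Y)
    (hn : A ≤ 𝐍(Y)) (hC : C ≤ A ⊓ 𝐂(L)) : ⁅Y, C⁆ ≤ CM (O H) L :=
  (commutator_le_of_norm (norm_CM hY (l.normO Y hY ho hn))
    (hC.trans ((l.cent_eq h hA).ge.trans inf_le_right))).trans (CM_anti le_sup_left)

end Cp

namespace Fam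

theorem le (hA : A ≤ H) (F : Fam A H 𝓛) (h1 : O H ≤ M) (h2 : H ⊓ 𝐍(A) ≤ M)
    (h3 : ∀ L ∈ 𝓛, L ≤ M) : H ≤ M :=
  F.fratt.trans (sup_le (F.ncl_le.trans (sup_le (sup_le h1
    ((le_inf hA (le_norm_self A)).trans h2)) (sSup_le h3))) h2)

/-- pump-up -/
theorem pu (h : Ex.St A) (hA : A ≤ H) (F : Fam A H 𝓛) (l : PC A K V j) (hK : K ≤ H) :
    ∃ L ∈ 𝓛, A ⊓ 𝐂(L) ≤ A ⊓ 𝐂(K) ∧ K ≤ L ⊔ O H := by
  have l' := l.linI
  have k1 : ∀ L ∈ 𝓛, K ≤ 𝐍(L ⊔ O H) := fun L hL => by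
    obtain ⟨W, k, c⟩ := F.cp L hL
    exact (l.le_nclI h hK).trans c.normA
  have k2 : ∀ L ∈ 𝓛, V ≤ A ⊓ 𝐂(L) ∨ A ⊓ 𝐂(L) ≤ A ⊓ 𝐂(K) := fun L hL => by
    obtain ⟨W, k, c⟩ := F.cp L hL
    exact l'.dich h inf_le_left (c.cent_eq h hA ▸ mem_norm_inf l.kA (Cp.norm_CM hK (k1 L hL) l.kL))
  by_contra! e
  have k3 : ∀ L ∈ 𝓛, V ≤ A ⊓ 𝐂(L) := fun L hL => (k2 L hL).elim id fun h1 => by
    obtain ⟨W, k, c⟩ := F.cp L hL
    rcases l'.dich h inf_le_left (mem_norm_inf l.kA (k1 L hL l.kL)) with h2 | h2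
    · exact (e L hL h1 (l.genI h (h2.trans inf_le_right) (k1 L hL))).elim
    · exact (l'.not_le h (l'.wle.trans (c.sup.trans (sup_le (c.wle'.trans h2) h1)))).elim
  refine l.nsol (sol_of_le (sol_sup (hA.trans (O_norm H)) (sol_of_ab h.ab) (sol_of_odd (odd_O H)))
    ((l.genI h (le_ncl V H) (hK.trans (norm_ncl V H))).trans ((closure_le _).2 ?_)))
  rintro _ ⟨x, hx, w, hw, rfl⟩
  exact sup_comm (O H) A ▸ F.a0 w (l'.wle hw) (fun L hL => (k3 L hL hw).2) x hx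

end Fam

namespace Ex

/-- pairs -/
def Pr (A W C : Subgroup G) : Prop := C ≠ ⊥ ∧ ∃ L k, PC A L W k ∧ A ⊓ 𝐂(L) = C

/-- minimal pairs -/
def Mx (A W C : Subgroup G) : Prop := Pr A W C ∧ ∀ W' C', Pr A W' C' → C' ≤ C → C ≤ C'

theorem Pr.lin (p : Pr A W C) : ∃ k, Lin A W C k := by
  obtain ⟨-, L, k, l, rfl⟩ := p
  exact ⟨k, l.linI⟩

theorem Pr.conj (p : Pr A W C) (hn : n ∈ 𝐍(A)) : Pr A (n •ᶜ W) (n •ᶜ C) := by
  obtain ⟨h0, L, k, l, rfl⟩ := p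
  exact ⟨fun e => h0 (conj_eq_bot_iff.1 e), _, _, l.conj hn, by
    rw [conj_inf, conj_eq_of_mem_norm hn, cent_conj]⟩

theorem Pr.exists_mx (p : Pr A W C) : ∃ W' C', Mx A W' C' ∧ C' ≤ C := by
  obtain ⟨C', ⟨W', h1, h2⟩, h4⟩ := (wellFounded_lt (α := Subgroup G)).has_min
    {C' | ∃ W', Pr A W' C' ∧ C' ≤ C} ⟨C, W, p, le_rfl⟩
  exact ⟨W', C', ⟨h1, fun W'' C'' h5 h6 => (h6.eq_or_lt.resolve_right
    (h4 C'' ⟨W'', h5, h6.trans h2⟩)).ge⟩, h2⟩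

theorem pr_of (l : Cp A H L W k) (hB : B ≤ A) (h0 : B ≠ ⊥) (hH : H ≤ 𝐂(B)) :
    Pr A W (A ⊓ 𝐂(L)) :=
  ⟨ne_bot_of_le_ne_bot h0 (le_inf hB (le_cent_symm (l.le.trans hH))), L, k, l.toPC, rfl⟩

theorem pr_of1 (l : Cp A 𝐂[a] L W k) (ha : a ∈ A) (a1 : a ≠ 1) : Pr A W (A ⊓ 𝐂(L)) :=
  pr_of l (zpowers_le.2 ha) (by simpa using a1) (cent_zpowers a).ge

theorem Pr.wle (p : Pr A W C) : W ≤ A := p.lin.elim fun _ l => l.wle

theorem Pr.cle (p : Pr A W C) : C ≤ A := p.lin.elim fun _ l => l.cle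

theorem Pr.not_le (h : St A) (p : Pr A W C) (h1 : W ≤ C) : False :=
  p.lin.elim fun _ l => l.not_le h h1

theorem Pr.inf (h : St A) (p : Pr A W C) : W ⊓ C = ⊥ := p.lin.elim fun _ l => l.inf h

theorem Pr.sup (p : Pr A W C) : A ≤ W ⊔ C := p.lin.elim fun _ l => l.sup

namespace Mx

theorem wle (p : Mx A W C) : W ≤ A := p.1.wle

theorem cle (p : Mx A W C) : C ≤ A := p.1.cle

theorem conj (p : Mx A W C) (hn : n ∈ 𝐍(A)) : Mx A (n •ᶜ W) (n •ᶜ C) :=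
  ⟨p.1.conj hn, fun _ _ h1 h2 => conj_le_iff_le_inv_conj.2 (p.2 _ _ (h1.conj (inv_mem hn))
    (le_conj_iff_inv_conj_le.1 h2))⟩

theorem pu (h : St A) (p : Mx A W C) (hA : A ≤ H) (F : Fam A H 𝓛) (hB : B ≤ A) (h0 : B ≠ ⊥)
    (hH : H ≤ 𝐂(B)) (hK : K ≤ H) (l : PC A K V j) (e : A ⊓ 𝐂(K) = C) :
    ∃ L ∈ 𝓛, A ⊓ 𝐂(L) = C ∧ K ≤ L ⊔ O H := by
  obtain ⟨L, hL, h1, h2⟩ := F.pu h hA l hK
  obtain ⟨W', k, c⟩ := F.cp L hL
  exact ⟨L, hL, le_antisymm (h1.trans e.le) (p.2 _ _ (pr_of c hB h0 hH) (h1.trans e.le)), h2⟩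

theorem pu' (h : St A) (p : Mx A W C) (hA : A ≤ H) (F : Fam A H 𝓛) (hB : B ≤ A) (h0 : B ≠ ⊥)
    (hH : H ≤ 𝐂(B)) (hC : 𝐂(C) ≤ H) : ∃ L ∈ 𝓛, A ⊓ 𝐂(L) = C ∧ W ≤ L ⊔ O H := by
  obtain ⟨-, K, k, l, e⟩ := id p.1
  obtain ⟨L, hL, h1, h2⟩ := p.pu h hA F hB h0 hH
    ((le_cent_symm (e.ge.trans inf_le_right)).trans hC) l e
  exact ⟨L, hL, h1, (l.wle.trans inf_le_right).trans h2⟩

theorem tri0 (h : St A) (p : Mx A W C) (q : Pr A W' C') (h0 : C' ⊓ C ≠ ⊥) :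
    C ≤ C' ∨ W' ≤ C ∧ W ≤ C' := by
  have h1 : C' ⊓ C ≤ A := inf_le_right.trans p.cle
  obtain ⟨𝓛, F⟩ := h.fam _ (h.cent_ne h0) (h.le_cent h1)
  obtain ⟨L, hL, rfl, h2⟩ := p.pu' h (h.le_cent h1) F h1 h0 le_rfl (cent_anti inf_le_right)
  obtain ⟨-, K, k, l, rfl⟩ := id q
  obtain ⟨L', hL', h3, h4⟩ := F.pu h (h.le_cent h1) l
    (le_cent_symm (inf_le_left.trans inf_le_right))
  by_cases e : L = L'
  · exact .inl (e ▸ h3)
  · exact .inr ⟨le_inf q.wle ((le_inf q.wle ((l.wle.trans inf_le_right).trans h4)).trans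
      (F.comm L' hL' L hL (Ne.symm e)).1), (le_inf p.wle ((le_inf p.wle h2).trans
      (F.comm L hL L' hL' e).1)).trans h3⟩

end Mx

/-- the balanced part of `Y` -/
def th (A Y : Subgroup G) : Subgroup G := Y ⊓ ⨅ (C) (_ : ∃ W, Mx A W C), thC C Y

/-- balanced subgroups -/
def Good (A X : Subgroup G) : Prop := ∀ W C, Mx A W C → X ⊓ 𝐂(C) ≤ O 𝐂(C)

theorem th_le : th A Y ≤ Y := inf_le_left

theorem Mx.th_le (p : Mx A W C) : th A Y ≤ thC C Y := inf_le_right.trans (iInf₂_le C ⟨W, p⟩)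

theorem le_norm_th (h1 : K ≤ 𝐍(Y)) (h2 : ∀ W C, Mx A W C → K ≤ 𝐍(thC C Y)) : K ≤ 𝐍(th A Y) :=
  le_norm_inf h1 (le_norm_iInf fun C => le_norm_iInf fun ⟨W, p⟩ => h2 W C p)

theorem Good.mono (h : Good A Y) (h1 : X ≤ Y) : Good A X := fun W C p =>
  (inf_le_inf_right _ h1).trans (h W C p)

/-- the pairs are compatible -/
structure Su (A : Subgroup G) : Prop extends St A where
  tri : ∀ {W C W' C' : Subgroup G}, Mx A W C → Pr A W' C' → C ≤ C' ∨ W' ≤ C ∧ W ≤ C'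
  rank : ∀ {W C : Subgroup G}, Mx A W C → 2 < ♯C

theorem St.normO (h : St A) (ha : a ∈ A) : A ≤ 𝐍(O 𝐂[a]) := (h.le_cent1 ha).trans (O_norm _)

namespace Su

variable (h : Su A)
include h

theorem gy (p : Mx A W C) (ho : Odd ♯Y) (hn : A ≤ 𝐍(Y)) : ⁅Y, C⁆ ⊓ 𝐂(C) ≤ O 𝐂(C) := by
  have hC := p.cle
  refine lemG (h.abelem hC) p.1.1 Y ho (hC.trans hn) (inf_le_right.trans (O_norm _))
    fun D hD h2 => ?_
  have h3 := card_mul_relIndex hD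
  have h4 := h.rank p
  have h0 : D ≠ ⊥ := by rintro rfl; rw [card_bot, h2] at h3; omega
  have hS := h.le_cent (hD.trans hC)
  have h5 : A ≤ 𝐍(Y ⊓ 𝐂(D)) := le_norm_inf hn (le_norm_of_le hS)
  obtain ⟨𝓛, F⟩ := h.fam _ (h.cent_ne h0) hS
  refine (inf_le_inf_right _ fun x hx => F.odd_mem x (mem_sup_left (commutator_le_of_norm
    (inf_le_right.trans (norm_ncl _ _)) (hC.trans (le_ncl _ _)) hx)) (ho.of_dvd_nat
      (orderOf_dvd_card (commutator_le_left' (hC.trans h5) hx).1)) fun L hL => ?_).trans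
      (O_inf_le (cent_anti hD))
  obtain ⟨V, k, c⟩ := F.cp L hL
  refine c.comm_le_CM h.toSt hS inf_le_right (odd_of_le ho inf_le_left) h5
    ((h.tri p (pr_of c (hD.trans hC) h0 le_rfl)).resolve_right fun e => ?_) hx
  have l := c.toPC.linI
  have h8 := card_sup_of_inf_eq_bot (.inl (l.wle.trans (h.le_norm (hD.trans hC))))
    (eq_bot_iff.2 (l.inf h.toSt ▸ inf_le_inf_left _ (le_inf (hD.trans hC) (le_cent_symm c.le))))
  have h9 := card_le (sup_le e.1 hD)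
  have := l.four
  have := card_pos' D
  nlinarith

theorem thC_inf (p : Mx A W C) (ho : Odd ♯Y) (hn : A ≤ 𝐍(Y)) : thC C Y ⊓ 𝐂(C) ≤ O 𝐂(C) := by
  rw [thC, sup_inf_of_le_right (.inr (le_norm_commutator (le_norm_of_le inf_le_left)
    (le_norm_of_le_cent (inf_le_right.trans (O_le _))))) (inf_le_right.trans (O_le _))]
  exact sup_le (h.gy p ho hn) inf_le_right

theorem good (ho : Odd ♯Y) (hn : A ≤ 𝐍(Y)) : Good A (th A Y) := fun _ _ p =>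
  (inf_le_inf_right _ p.th_le).trans (h.thC_inf p ho hn)

theorem le_th (h1 : X ≤ Y) (ho : Odd ♯Y) (hn : A ≤ 𝐍(X)) (h2 : Good A X) : X ≤ th A Y :=
  le_inf h1 (le_iInf₂ fun C ⟨W, p⟩ => le_thC (h.two p.cle) h1 ho (p.cle.trans hn) (h2 W C p))

theorem norm_th (hn : A ≤ 𝐍(Y)) : A ≤ 𝐍(th A Y) :=
  le_norm_th hn fun _ _ p => le_norm_thC hn (h.le_norm p.cle)

theorem norm_th' (ho : Odd ♯Y) (hn : A ≤ 𝐍(Y)) : Y ≤ 𝐍(th A Y) :=
  le_norm_th (le_norm_self Y) fun _ _ p => norm_thC (h.two p.cle) ho (p.cle.trans hn)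

theorem conj_th (ho : Odd ♯Y) (hY : A ≤ 𝐍(Y)) (hn : n ∈ 𝐍(A)) :
    n •ᶜ th A Y ≤ th A (n •ᶜ Y) := by
  refine h.le_th (conj_mono n th_le) (by rwa [card_conj]) (by
    rw [← conj_eq_of_mem_norm hn, conj_le_norm_conj, conj_eq_of_mem_norm hn]
    exact h.norm_th hY) fun W C p => ?_
  have := conj_mono n (h.good ho hY _ _ (p.conj (inv_mem hn)))
  rwa [conj_inf, ← Opi_conj, ← cent_conj, conj_conj, mul_inv_cancel, map_one, one_smul] at this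

theorem bal (ha : a ∈ A) (hb : b ∈ A) (b1 : b ≠ 1) (hX : X ≤ O 𝐂[a] ⊓ 𝐂[b]) (hn : A ≤ 𝐍(X))
    (h1 : Good A X) : X ≤ O 𝐂[b] := by
  have hS := h.le_cent1 hb
  have ho := odd_of_le (odd_O _) (hX.trans inf_le_left)
  have hH := hX.trans inf_le_right
  obtain ⟨𝓛, F⟩ := h.fam _ (h.cent1_ne b1) hS
  refine F.le_O a ha X ((le_inf (hX.trans inf_le_left) (le_inf hH ((hX.trans inf_le_left).trans
    (O_le _)))).trans (O_inf_le inf_le_right)) fun L hL => ?_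
  obtain ⟨V, k, c⟩ := F.cp L hL
  obtain ⟨W, C, p, h2⟩ := (pr_of1 c hb b1).exists_mx
  have hC := p.cle
  exact le_of_cent_prod ho (h.two hC) (hC.trans hn)
    (c.comm_le_CM h.toSt hS hH ho hn h2) ((le_inf (h1 W C p) (inf_le_left.trans hH)).trans
      (c.le_CM inf_le_right (odd_of_le (odd_O _) inf_le_left)
        (le_norm_inf (le_norm_O (le_norm_of_le (h.le_cent hC))) (le_norm_of_le hS))
        (le_norm_inf (le_norm_O (le_norm_of_le (le_cent_symm (h2.trans inf_le_right))))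
          (le_norm_of_le c.le))))

theorem isSig : Sig.IsSig 2 A fun a => th A (O 𝐂[a]) := by
  refine ⟨Nat.prime_two, h.elem, h.big, fun a _ _ => th_le.trans (O_le _), fun a _ _ e => ?_,
    fun a ha _ => h.norm_th (h.normO ha),
    fun a _ _ => sol_of_odd (odd_of_le (odd_O _) th_le), fun a ha _ b hb b1 => ?_⟩
  · exact Nat.not_even_iff_odd.2 (odd_of_le (odd_O _) th_le) (even_iff_two_dvd.2 e)
  have h1 : A ≤ 𝐍(th A (O 𝐂[a]) ⊓ 𝐂[b]) :=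
    le_norm_inf (h.norm_th (h.normO ha)) (le_norm_of_le (h.le_cent1 hb))
  have h2 := (h.good (odd_O _) (h.normO ha)).mono (inf_le_left : _ ⊓ 𝐂[b] ≤ _)
  exact h.le_th (h.bal ha hb b1 (inf_le_inf_right _ th_le) h1 h2) (odd_O _) h1 h2

theorem nrm (ha : a ∈ A) (l : PC A L V j) (p : Mx A W C) (hL : L ≤ 𝐂[a])
    (h0 : A ⊓ 𝐂(L) ⊓ C ≠ ⊥) : L ≤ 𝐍(thC C (O 𝐂[a])) := by
  have hn := h.normO ha
  have ho := odd_O 𝐂[a]
  have hY := O_le 𝐂[a]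
  replace hL := hL.trans (O_norm _)
  have hO : ∀ K, O 𝐂[a] ⊓ K ≤ O (K ⊓ 𝐂[a]) := fun K =>
    (le_inf inf_le_left (le_inf inf_le_right (inf_le_left.trans hY))).trans (O_inf_le inf_le_right)
  generalize O 𝐂[a] = Y at *
  rcases h.tri p ⟨ne_bot_of_le_ne_bot h0 inf_le_left, L, j, l, rfl⟩ with e | ⟨h1, -⟩
  · exact le_norm_thC hL (le_norm_of_le_cent (le_cent_symm (e.trans inf_le_right)))
  have hC := p.cle
  set D := A ⊓ 𝐂(L) ⊓ C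
  have hD : D ≤ A := inf_le_right.trans hC
  have hS := h.le_cent hD
  have hLD : L ≤ 𝐂(D) := le_cent_symm (inf_le_left.trans inf_le_right)
  have hX : 𝐂(C) ≤ 𝐂(D) := cent_anti inf_le_right
  have h2 : A ≤ 𝐍(Y ⊓ 𝐂(D)) := le_norm_inf hn (le_norm_of_le hS)
  have h3 : L ≤ 𝐍(Y ⊓ 𝐂(D)) := le_norm_inf hL (le_norm_of_le hLD)
  have hCY := hC.trans hn
  have h4 : ⁅Y ⊓ 𝐂(D), L⁆ ≤ thC C Y := by
    refine le_thC (h.two hC) ((commutator_le_left' h3).trans inf_le_left) ho (le_norm_commutator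
      (hC.trans h2) (hC.trans l.norm)) ?_
    obtain ⟨𝓛, F⟩ := h.fam _ (h.cent_ne p.1.1) (h.le_cent hC)
    obtain ⟨𝓜, F'⟩ := h.fam _ (h.cent_ne h0) hS
    refine F.le_O a ha _ ((inf_le_inf_right _ ((commutator_le_left' h3).trans inf_le_left)).trans
      (hO _)) fun K hK => ?_
    obtain ⟨V', k, c⟩ := F.cp K hK
    refine le_CM.2 ⟨inf_le_right.trans (O_norm _), le_trans (le_inf ?_
      (commutator_le_of_le inf_le_right c.le)) (O_inf_le hX)⟩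
    obtain ⟨J, hJ, h5, h6⟩ := F'.pu h.toSt hS c.toPC (c.le.trans hX)
    obtain ⟨V'', k', c'⟩ := F'.cp J hJ
    have h9 := (h.tri p (pr_of c' hD h0 le_rfl)).resolve_right fun e =>
      c.toPC.linI.not_le h.toSt (c.toPC.linI.wle.trans (c'.sup.trans (sup_le
        (e.1.trans (le_inf hC (le_cent_symm c.le))) h5)))
    have h10 : L ≤ CM (O 𝐂(D)) (J ⊔ O 𝐂(D)) := l.genI h.toSt ((h1.trans h9).trans
      ((c'.cent_eq h.toSt hS).ge.trans inf_le_right))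
      (Cp.norm_CM hLD ((l.le_nclI h.toSt hLD).trans c'.normA))
    exact (le_CM.1 ((inf_le_left.trans (commutator_le_of_norm (Cp.norm_CM inf_le_right
      (c'.normO _ inf_le_right (odd_of_le ho inf_le_left) h2)) h10)).trans (CM_anti h6))).2
  have h5 : ⁅Y, D⁆ ≤ thC C Y := (commutator_mono le_rfl inf_le_right).trans le_sup_left
  have h6 : thC C Y = ⁅Y, D⁆ ⊔ thC C Y ⊓ 𝐂(D) := le_antisymm (le_of_cent_prod
    (odd_of_le ho (thC_le hCY)) (h.two hD) (hD.trans (le_norm_thC hn (h.le_norm hC)))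
    ((commutator_mono (thC_le hCY) le_rfl).trans le_sup_left) le_sup_right) (sup_le h5 inf_le_left)
  rw [h6]
  exact le_norm_sup (le_norm_commutator hL (le_norm_of_le_cent hLD)) (le_norm_of_commutator_le
    (inf_le_inf_right _ (thC_le hCY)) (le_inf h4 ((commutator_le_left' h3).trans inf_le_right)))

theorem th_normal (ha : a ∈ A) (a1 : a ≠ 1)
    (h1 : ∀ W C W' C', Mx A W C → Mx A W' C' → (zpowers a ⊔ C) ⊓ C' ≠ ⊥) :
    𝐂[a] ≤ 𝐍(th A (O 𝐂[a])) := by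
  obtain ⟨𝓛, F⟩ := h.fam _ (h.cent1_ne a1) (h.le_cent1 ha)
  refine F.le (h.le_cent1 ha) (h.norm_th' (odd_O _) (h.normO ha)) (fun n hn => ?_) fun L hL => ?_
  · exact mem_norm_of_conj_le ((h.conj_th (odd_O _) (h.normO ha) hn.2).trans
      (by rw [conj_eq_of_mem_norm (O_norm _ hn.1)]))
  obtain ⟨V, k, c⟩ := F.cp L hL
  obtain ⟨W, C, p, h2⟩ := (pr_of1 c ha a1).exists_mx
  exact le_norm_th c.normO' fun W' C' q => h.nrm ha c.toPC q c.le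
    (ne_bot_of_le_ne_bot (h1 W C W' C' p q) (inf_le_inf_right _
      (sup_le (zpowers_le.2 ⟨ha, le_cent1_iff.1 c.le⟩) h2)))

/-- the completion -/
theorem exists_compl : ∃ E : Subgroup G, Odd ♯E ∧ 𝐍(A) ≤ 𝐍(E) ∧
    ∀ a ∈ A, a ≠ 1 → E ⊓ 𝐂[a] = th A (O 𝐂[a]) := by
  obtain ⟨E, h1, h2⟩ := Sig.complete_two h.isSig
  have h3 : Odd ♯E := Nat.not_even_iff_odd.1 fun e => h1.cop (even_iff_two_dvd.1 e)
  refine ⟨E, h3, fun n hn => mem_norm_of_conj_le (conj_le_iff_le_inv_conj.2 (gen1 h.elem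
    (lt_of_lt_of_le (by norm_num) h.big) h3 h1.norm fun a ha a1 => (h1.le a ha a1).trans ?_)),
    fun a ha a1 => le_antisymm (h1.le a ha a1) (le_inf (h2 a ha a1) (th_le.trans (O_le _)))⟩
  rw [← conj_le_iff_le_inv_conj]
  refine (h.conj_th (odd_O _) (h.normO ha) hn).trans ?_
  rw [← Opi_conj, ← cent1_conj]
  exact h2 _ (conj_mem_of_norm hn ha) (by simpa using a1)

end Su

end Ex

end Cfsg.Agent.I2
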