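import Cfsg.Agent.Lib.I2.EXb

/-!
# Construction of an embedded subgroup from the signalizer functor (plan S4030)
-/

set_option autoImplicit false
set_option linter.unusedSectionVars false

namespace Cfsg.Agent.I2.Ex

open Subgroup Cfsg.Agent.OO Cfsg.Agent.GW Cfsg.Agent.Coprime Cfsg.Agent.SZ Cfsg.Agent.W4
open Cfsg.Agent.R4 (SC MinSC InD PC SCl abelem_sq)
open scoped commutatorElement Pointwise

universe u

variable {G : Type u} [Group G] [Finite G] {A B C C' D E H K L L' M N U V W W' X Y Z : Subgroup G}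
  {a b c d g j k m n w x y : G} {𝓛 : Set (Subgroup G)}

/-- the component belonging to a pair -/
def lam (A W C : Subgroup G) : Subgroup G := ncl W (ncl A 𝐂(C))

theorem conj_ncl (g : G) (W X : Subgroup G) : g •ᶜ ncl W X ≤ ncl (g •ᶜ W) (g •ᶜ X) := by
  rw [conj_le_iff_le_inv_conj, ncl, closure_le]
  rintro _ ⟨x, hx, w, hw, rfl⟩
  rw [SetLike.mem_coe, mem_conj, inv_inv]
  exact subset_closure ⟨_, conj_mem_conj hx, _, conj_mem_conj hw, by group⟩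

theorem ncl_mono (W : Subgroup G) (h : X ≤ Y) : ncl W X ≤ ncl W Y :=
  closure_mono fun _ ⟨x, hx, e⟩ => ⟨x, h hx, e⟩

theorem St.dse (h : St A) (h0 : M ≠ ⊤) (h1 : 𝐍(A) ≤ M) (h2 : ∀ a ∈ A, a ≠ 1 → 𝐂[a] ≤ M) :
    DSE A M := ⟨h.toMC, h.toSC, le_trans (by norm_num) h.big, h0, h1, h2⟩

/-- the two-factor case -/
structure TF (A U D : Subgroup G) : Prop where
  p : Mx A U D
  q : Mx A D U
  cases' : ∀ {W C : Subgroup G}, Pr A W C → W ≤ U ∧ D ≤ C ∨ W ≤ D ∧ U ≤ C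
  norm : 𝐍(A) ≤ 𝐍(U)
  norm' : 𝐍(A) ≤ 𝐍(D)
  pf : ∀ M : Subgroup G, M ≠ ⊤ → 𝐍(A) ≤ M → (∀ d ∈ D, d ≠ 1 → 𝐂[d] ≤ M) → False
  pf' : ∀ M : Subgroup G, M ≠ ⊤ → 𝐍(A) ≤ M → (∀ d ∈ U, d ≠ 1 → 𝐂[d] ≤ M) → False

namespace TF

theorem symm (t : TF A U D) : TF A D U :=
  ⟨t.q, t.p, fun p => (t.cases' p).symm, t.norm', t.norm, t.pf', t.pf⟩

theorem cases (t : TF A U D) (p : Mx A W C) : C = D ∨ C = U :=
  (t.cases' p.1).imp (fun e => le_antisymm (p.2 _ _ t.p.1 e.2) e.2)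
    fun e => le_antisymm (p.2 _ _ t.q.1 e.2) e.2

variable (h : Su A) (t : TF A U D)
include h t

theorem th_normal (ha : a ∈ A) (h1 : a ∉ U) (h2 : a ∉ D) : 𝐂[a] ≤ 𝐍(th A (O 𝐂[a])) := by
  have k : ∀ U D, TF A U D → a ∉ D → (zpowers a ⊔ D) ⊓ U ≠ ⊥ := fun U D t h2 e => by
    obtain ⟨k, l⟩ := t.p.1.lin
    obtain ⟨u, hu, d, hd, rfl⟩ := l.dec h.toSt ha
    have : u ∈ (zpowers (u * d) ⊔ D) ⊓ U :=
      ⟨(mul_mem_cancel_right (mem_sup_right hd)).1 (mem_sup_left (mem_zpowers _)), hu⟩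
    rw [e, mem_bot] at this
    exact h2 (by rwa [this, one_mul])
  refine h.th_normal ha (by rintro rfl; exact h1 (one_mem _)) fun W C W' C' p q => ?_
  rcases t.cases p with rfl | rfl <;> rcases t.cases q with rfl | rfl
  · exact ne_bot_of_le_ne_bot p.1.1 (le_inf le_sup_right le_rfl)
  · exact k _ _ t h2
  · exact k _ _ t.symm h1
  · exact ne_bot_of_le_ne_bot p.1.1 (le_inf le_sup_right le_rfl)

theorem le_th (hd : d ∈ D) (h1 : X ≤ O 𝐂[d]) (hn : A ≤ 𝐍(X)) (h2 : X ≤ thC U (O 𝐂[d])) :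
    X ≤ th A (O 𝐂[d]) :=
  h.le_th h1 (odd_O _) hn fun W C p => by
    rcases t.cases p with rfl | rfl
    · exact (inf_le_inf_right _ h1).trans (O_inf_le (cent_le_cent1 hd))
    · exact (inf_le_inf_right _ h2).trans (h.thC_inf p (odd_O _) (h.normO (t.p.cle hd)))

variable (ho : Odd ♯E) (hn : 𝐍(A) ≤ 𝐍(E)) (hE : ∀ a ∈ A, a ≠ 1 → E ⊓ 𝐂[a] = th A (O 𝐂[a]))
include ho hn hE

theorem cent_le {u : G} (hu : u ∈ U) (u1 : u ≠ 1) : 𝐂(D) ⊓ 𝐂[u] ≤ 𝐍(E) := by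
  have hU := t.p.wle
  have hD := t.p.cle
  have hA : A ≤ 𝐍(E) := ((le_norm_self A).trans hn)
  obtain ⟨d, hd, d1⟩ := exists_mem_ne_one t.p.1.1
  have h1 : zpowers u ≤ A := zpowers_le.2 (hU hu)
  have h2 : A ≤ 𝐍(O 𝐂[d] ⊓ 𝐂(D)) := le_norm_inf (h.normO (hD hd)) (le_norm_of_le (h.le_cent hD))
  have h3 : E ⊓ 𝐂(D) = ⁅O 𝐂[d] ⊓ 𝐂(D), zpowers u⁆ ⊔ O 𝐂[d] ⊓ 𝐂(D) ⊓ O 𝐂[u] := by
    have h4 : E ⊓ 𝐂(D) ≤ O 𝐂[d] ⊓ 𝐂(D) := le_inf ((inf_le_inf_left _ (cent_le_cent1 hd)).trans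
      ((hE d (hD hd) d1).le.trans th_le)) inf_le_right
    have h5 := commutator_le_left' (h1.trans h2)
    refine le_antisymm (le_of_cent_prod (odd_of_le ho inf_le_left) (h.two h1) (h1.trans
      (le_norm_inf hA (le_norm_of_le ((h.le_cent hD)))))
      ((commutator_mono h4 le_rfl).trans le_sup_left) (le_trans (le_inf (inf_le_left.trans h4) ?_)
        le_sup_right)) (le_inf (le_trans (sup_le ?_ ?_) ((hE d (hD hd) d1).ge.trans inf_le_left))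
        (sup_le (h5.trans inf_le_right) (inf_le_left.trans inf_le_right)))
    · rw [cent_zpowers]
      exact (inf_le_inf_right _ inf_le_left).trans ((hE u (hU hu) u1).le.trans th_le)
    · exact t.le_th h hd (h5.trans inf_le_left) ((le_norm_commutator h2 (h.le_norm h1)))
        ((commutator_mono inf_le_left (zpowers_le.2 hu)).trans le_sup_left)
    · have h6 := (le_norm_inf h2 (h.normO (hU hu)))
      exact t.le_th h hd (inf_le_left.trans inf_le_left) h6 (le_thC (h.two hU)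
        (inf_le_left.trans inf_le_left) (odd_O _) (hU.trans h6)
        ((inf_le_inf_right _ inf_le_right).trans (O_inf_le (cent_le_cent1 hu))))
  have h4 : 𝐂(D) ⊓ 𝐂[u] ≤ 𝐍(E ⊓ 𝐂(D)) := by
    have h5 : 𝐂(D) ⊓ 𝐂[u] ≤ 𝐍(O 𝐂[d] ⊓ 𝐂(D)) := inf_le_left.trans
      (le_norm_inf ((cent_le_cent1 hd).trans (O_norm _)) (le_norm_self _))
    rw [h3]
    exact le_norm_sup (le_norm_commutator h5 (le_norm_of_le_cent (cent_zpowers u ▸ inf_le_right)))
      (le_norm_inf h5 (inf_le_right.trans (O_norm _)))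
  have h5 : D ⊔ zpowers u ≤ A := sup_le hD h1
  refine fun g hg => mem_norm_of_conj_le (conj_le_iff_le_inv_conj.2 (genH (h.abelem h5)
    (ne_bot_of_le_ne_bot t.p.1.1 le_sup_left) ho (h5.trans hA) fun F hF h6 => ?_))
  rw [← conj_le_iff_le_inv_conj]
  by_cases e : ∃ z ∈ F, z ∉ U ∧ z ∉ D
  · obtain ⟨z, hz, h7, h8⟩ := e
    have h9 := hE z (h5 (hF hz)) (by rintro rfl; exact h7 (one_mem _))
    refine (conj_mono g ((inf_le_inf_left _ (cent_le_cent1 hz)).trans h9.le)).trans ?_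
    rw [conj_eq_of_mem_norm (t.th_normal h (h5 (hF hz)) h7 h8
      (cent_le_cent1 (hF hz) (by rwa [cent_sup, cent_zpowers])))]
    exact h9.ge.trans inf_le_left
  have h7 := card_mul_relIndex hF
  rw [h6, card_sup_of_inf_eq_bot (.inl (hD.trans (h.le_norm h1))) (eq_bot_iff.2
    (t.q.1.inf h.toSt ▸ inf_le_inf_left _ (zpowers_le.2 hu))), Nat.card_zpowers,
    orderOf_eq_two (h.sq (hU hu)) u1] at h7
  have h8 : F ≤ D := fun x hx => by_contra fun h8 => by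
    have h9 : ∀ y ∈ F, y ∈ U → y ∈ zpowers u := fun y hy h9 => by
      obtain ⟨c, hc, v, hv, rfl⟩ := (mem_sup_norm_right (hD.trans (h.le_norm h1))).1 (hF hy)
      have : c ∈ U ⊓ D := ⟨(mul_mem_cancel_right (zpowers_le.2 hu hv)).1 h9, hc⟩
      rw [t.p.1.inf h.toSt, mem_bot] at this
      rwa [this, one_mul]
    push Not at e
    have h10 : x ∈ U := by_contra fun e' => h8 (e x hx e')
    have h11 : F ≤ zpowers u := fun y hy => h9 y hy (by_contra fun e' => h8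
      ((mul_mem_cancel_right (e y hy e')).1 (e _ (mul_mem hx hy) fun e'' =>
        e' ((mul_mem_cancel_left h10).1 e''))))
    have h12 := card_le h11
    rw [Nat.card_zpowers, orderOf_eq_two (h.sq (hU hu)) u1] at h12
    have := h.rank t.p
    omega
  rw [eq_of_le_of_card_le h8 (by omega), conj_eq_of_mem_norm (h4 hg)]
  exact inf_le_left

theorem O_le (hd : d ∈ D) (d1 : d ≠ 1) : O 𝐂[d] ≤ 𝐍(E) := by
  have hU := t.p.wle
  have h1 := h.normO (t.p.cle hd)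
  exact le_of_cent_prod (odd_O _) (h.two hU) (hU.trans h1) (le_norm_of_le
    ((t.le_th h hd (commutator_le_left' (hU.trans h1)) 
      (le_norm_commutator h1 (h.le_norm hU)) le_sup_left).trans
      ((hE d (t.p.cle hd) d1).ge.trans inf_le_left)))
    ((le_inf inf_le_right (inf_le_left.trans (W4.O_le _))).trans (t.symm.cent_le h ho hn hE hd d1))

theorem not_le (h0 : E ≠ ⊥) (h1 : 𝐂(D) ≤ 𝐍(E)) : False := by
  refine t.pf _ (h.norm_ne h0 fun e => ?_) hn fun d hd d1 => ?_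
  · exact Nat.not_even_iff_odd.2 ho (even_iff_two_dvd.2 ((dvd_card_of_isPGroup (h.two (t.p.cle))
      t.p.1.1).trans (card_dvd (e ▸ le_top))))
  have hA := t.p.cle hd
  obtain ⟨𝓛, F⟩ := h.fam _ (h.cent1_ne d1) (h.le_cent1 hA)
  refine F.le (h.le_cent1 hA) (t.O_le h ho hn hE hd d1) (inf_le_right.trans hn) fun L hL => ?_
  obtain ⟨W, k, l⟩ := F.cp L hL
  rcases t.cases' (pr_of1 l hA d1) with ⟨-, e⟩ | ⟨-, e⟩
  · exact (le_cent_symm (e.trans inf_le_right)).trans h1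
  · exact (le_inf (le_cent_symm (e.trans inf_le_right)) l.le).trans
      (t.symm.cent_le h ho hn hE hd d1)

theorem eq_bot : E = ⊥ := by_contra fun h0 => by
  have hU := t.p.wle
  have hD := t.p.cle
  have hS := h.le_cent hU
  obtain ⟨𝓛, F⟩ := h.fam _ (h.cent_ne t.q.1.1) hS
  have h1 : O 𝐂(U) ≤ 𝐍(E) := gen1 (h.abelem hD) (h.rank t.p) (odd_O _)
    (hD.trans (hS.trans (O_norm _))) fun d hd d1 =>
      (inf_le_inf_right _ (W4.O_le _)).trans (t.symm.cent_le h ho hn hE hd d1)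
  have h2 : ∀ L W k, Cp A 𝐂(U) L W k → W ≤ D := fun L W k l =>
    ((t.cases' (pr_of l hU t.q.1.1 le_rfl)).resolve_left fun e => l.toPC.linI.not_le h.toSt
      (e.1.trans (le_inf hU (le_cent_symm l.le)))).1
  obtain ⟨L, hL, h3⟩ : ∃ L ∈ 𝓛, ¬ L ≤ 𝐍(E) := by
    by_contra! e
    exact t.symm.not_le h ho hn hE h0 (F.le hS h1 (inf_le_right.trans hn) e)
  obtain ⟨W, k, l⟩ := F.cp L hL
  have h4 := (l.dich _ h1 (inf_le_right.trans hn) fun w hw w1 =>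
    t.symm.cent_le h ho hn hE (h2 _ _ _ l hw) w1).resolve_left h3
  have h5 : ∀ d ∈ D, d ≠ 1 → E ⊓ 𝐂[d] = O 𝐂[d] := fun d hd d1 => by
    have h5 := h.normO (hD hd)
    have h6 : A ≤ 𝐍(O 𝐂[d] ⊓ 𝐂(U)) := le_norm_inf h5 (le_norm_of_le hS)
    have h7 : Odd ♯(O 𝐂[d] ⊓ 𝐂(U)) := odd_of_le (odd_O _) inf_le_left
    refine (hE d (hD hd) d1).trans (le_antisymm th_le (t.le_th h hd le_rfl h5
      (le_thC (h.two hU) le_rfl (odd_O _) (hU.trans h5) (F.le_O d (hD hd) _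
        ((le_inf inf_le_left (le_inf inf_le_right (inf_le_left.trans (W4.O_le _)))).trans
          (O_inf_le inf_le_right)) fun K hK => ?_))))
    by_cases e : K = L
    · exact e ▸ le_CM.2 ⟨inf_le_right.trans (O_norm _), h4 _ inf_le_right h7 h6⟩
    obtain ⟨V, j, l'⟩ := F.cp K hK
    obtain ⟨w, hw, w1⟩ := exists_mem_ne_one (l'.toPC.linI.ne_bot h.toSt)
    exact (h3 ((le_inf l.le (le_cent1_iff.2 ((F.comm K hK L hL e).1 (l'.wle' hw)))).trans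
      (t.symm.cent_le h ho hn hE (h2 _ _ _ l' hw) w1))).elim
  refine t.not_le h ho hn hE h0 fun g hg => mem_norm_of_conj_le (conj_le_iff_le_inv_conj.2
    (gen1 (h.abelem hD) (h.rank t.p) ho (hD.trans ((le_norm_self A).trans hn))
      fun d hd d1 => ?_))
  rw [← conj_le_iff_le_inv_conj, h5 d hd d1, conj_eq_of_mem_norm (O_norm _ (cent_le_cent1 hd hg))]
  exact (h5 d hd d1).ge.trans inf_le_left

end TF

namespace Su

variable (h : Su A)
include h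

omit h in
theorem lam_conj (hn : n ∈ 𝐍(A)) : n •ᶜ lam A W C ≤ lam A (n •ᶜ W) (n •ᶜ C) :=
  (conj_ncl _ _ _).trans (ncl_mono _ ((conj_ncl _ _ _).trans (by
    rw [conj_eq_of_mem_norm hn, cent_conj])))

omit h in
theorem lam_le (p : Mx A W C) : lam A W C ≤ ncl A 𝐂(C) :=
  ncl_le (p.wle.trans (le_ncl _ _)) (le_norm_self _)

theorem ncl_cent_le (hC : C ≤ A) : ncl A 𝐂(C) ≤ 𝐂(C) := ncl_le (h.le_cent hC) (le_norm_self _)

theorem lam_ne (p : Mx A W C) : 𝐍(lam A W C) ≠ ⊤ := by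
  obtain ⟨k, l⟩ := p.1.lin
  exact h.norm_ne (ne_bot_of_le_ne_bot (l.ne_bot h.toSt) (le_ncl _ _)) fun e =>
    h.cent_ne p.1.1 (eq_top_iff.2 (e.ge.trans ((lam_le p).trans (h.ncl_cent_le p.cle))))

section

variable (hE : ∀ a ∈ A, a ≠ 1 → th A (O 𝐂[a]) = ⊥)
include hE

theorem comm_le (p : Mx A W C) (ha : a ∈ A) (a1 : a ≠ 1) : ⁅O 𝐂[a], W⁆ ≤ 𝐂(C) := by
  have h1 := h.normO ha
  have h2 := le_norm_commutator h1 (h.le_norm p.wle)
  have h3 := commutator_le_left' (p.wle.trans h1)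
  rw [← OO.commutator_eq_bot_iff, eq_bot_iff, ← hE a ha a1]
  refine le_inf ((commutator_le_left' (p.cle.trans h2)).trans h3)
    (le_iInf₂ fun C' ⟨W', q⟩ => le_trans ?_ le_sup_left)
  rcases h.tri p q.1 with e | e
  · exact commutator_mono h3 e
  · exact (commutator_le_left' (p.cle.trans h2)).trans (commutator_mono le_rfl e.2)

theorem norm_lam (p : Mx A W C) (hc : c ∈ C) (c1 : c ≠ 1) : ncl A 𝐂[c] ≤ 𝐍(lam A W C) ∧
    ∀ Y ≤ 𝐂[c], Odd ♯Y → A ≤ 𝐍(Y) → Y ≤ 𝐍(lam A W C) := by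
  have hA := p.cle hc
  have hS := h.le_cent1 hA
  obtain ⟨𝓛, F⟩ := h.fam _ (h.cent1_ne c1) hS
  obtain ⟨L, hL, e, hW⟩ := p.pu' h.toSt hS F (zpowers_le.2 hA) (by simpa using c1)
    (cent_zpowers c).ge (cent_le_cent1 hc)
  obtain ⟨V, k, l⟩ := F.cp L hL
  have h1 : ncl A 𝐂(C) ≤ 𝐍(L ⊔ O 𝐂[c]) := (ncl_mono _ (cent_le_cent1 hc)).trans l.normA
  have h2 := h.comm_le hE p hA c1
  have h3 := commG (odd_O _) (h.two p.wle) (p.wle.trans (h.normO hA))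
  have h4 : ⁅O 𝐂[c], W⁆ ≤ lam A W C := h3 ▸ commutator_le_of_norm ((h3 ▸
    commutator_le_of_norm (h2.trans (norm_ncl _ _))
      (p.wle.trans (le_ncl _ _))).trans (norm_ncl _ _)) (le_ncl _ _)
  have h5 : O 𝐂[c] ≤ 𝐍(lam A W C) := fun y hy => mem_norm_of_conj_le
    (conj_le_iff_le_inv_conj.2 ((closure_le _).2 (by
      rintro _ ⟨x, hx, w, hw, rfl⟩
      rw [SetLike.mem_coe, mem_conj, inv_inv, show y * (x * w * x⁻¹) * y⁻¹ =
        x * (⁅x⁻¹ * y * x, w⁆ * w) * x⁻¹ by simp only [commutatorElement_def]; group]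
      exact conj_mem_of_norm (norm_ncl _ _ hx) (mul_mem (h4 (commutator_mem_commutator
        (conj_mem_of_norm' (O_norm _ (cent_le_cent1 hc (h.ncl_cent_le p.cle hx))) hy) hw))
        (le_ncl _ _ hw)))))
  obtain ⟨w, hw, h7⟩ := SetLike.not_le_iff_exists.1 (p.1.not_le h.toSt)
  have h6 : lam A W C = T2 (L ⊔ O 𝐂[c]) := le_antisymm
    (ncl_le (le_T2 hW (h.two p.wle)) (le_norm_T2 h1))
    ((T2_mono (sup_le_sup_right (l.gen _ ((l.toPC.le_nclI h.toSt (le_cent_symm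
      (e.ge.trans inf_le_right))).trans (norm_ncl _ _)) w ⟨p.wle hw, le_ncl _ _ hw⟩
      fun e' => h7 (e.le ⟨p.wle hw, e'⟩)) _)).trans (T2_le_of_odd (odd_O _) h5))
  rw [h6]
  exact ⟨le_norm_T2 l.normA, fun Y h7 h8 h9 => le_norm_T2 (l.normO Y h7 h8 h9)⟩

theorem norm_lam' (p : Mx A W C) (ho : Odd ♯Y) (hn : A ≤ 𝐍(Y)) : Y ≤ 𝐍(lam A W C) :=
  gen1 (h.abelem p.cle) (h.rank p) ho (p.cle.trans hn) fun _ hc c1 =>
    (h.norm_lam hE p hc c1).2 _ inf_le_right (odd_of_le ho inf_le_left)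
      (le_norm_inf hn (le_norm_of_le (h.le_cent1 (p.cle hc))))

theorem not_tf' (t : TF A U D) : False := by
  have h1 : 𝐍(A) ≤ 𝐍(lam A U D) := fun n hn => mem_norm_of_conj_le ((lam_conj hn).trans (by
    rw [conj_eq_of_mem_norm (t.norm hn), conj_eq_of_mem_norm (t.norm' hn)]))
  refine t.pf _ (h.lam_ne t.p) h1 fun d hd d1 => ?_
  obtain ⟨𝓛, F⟩ := h.fam _ (h.cent1_ne d1) (h.le_cent1 (t.p.cle hd))
  exact F.fratt.trans (sup_le (h.norm_lam hE t.p hd d1).1 (inf_le_right.trans h1))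

theorem se_of_bot (h1 : ∀ W C W' C', Mx A W C → Mx A W' C' → C ⊓ C' ≠ ⊥) :
    ∃ M : Subgroup G, DSE A M := by
  by_cases h0 : ∃ W C, Mx A W C
  · obtain ⟨W, C, p⟩ := h0
    set E := sSup {X | ∃ W C, Mx A W C ∧ X = lam A W C} with hE'
    have h2 : ∀ W C, Mx A W C → lam A W C ≤ E := fun W C p => le_sSup ⟨W, C, p, rfl⟩
    have h3 : 𝐍(A) ≤ 𝐍(E) := fun n hn => mem_norm_of_conj_le (conj_le_iff_le_inv_conj.2 (sSup_le (by
      rintro _ ⟨W, C, p, rfl⟩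
      exact conj_le_iff_le_inv_conj.1 ((lam_conj hn).trans (h2 _ _ (p.conj hn))))))
    have h4 : ∀ W C W' C', Mx A W C → Mx A W' C' → ncl A 𝐂(C') ≤ 𝐍(lam A W C) :=
      fun W C W' C' p q => by
        obtain ⟨c, hc, c1⟩ := exists_mem_ne_one (h1 _ _ _ _ p q)
        exact (ncl_mono _ (cent_le_cent1 hc.2)).trans (h.norm_lam hE p hc.1 c1).1
    refine ⟨𝐍(E), h.dse (h.norm_ne ?_ fun e => h.lam_ne p (eq_top_iff.2 (e.ge.trans (sSup_le ?_))))
      h3 fun a ha a1 => ?_⟩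
    · obtain ⟨k, l⟩ := p.1.lin
      exact ne_bot_of_le_ne_bot (l.ne_bot h.toSt) ((le_ncl _ _).trans (h2 W C p))
    · rintro _ ⟨W', C', q, rfl⟩
      exact (lam_le q).trans (h4 _ _ _ _ p q)
    obtain ⟨𝓛, F⟩ := h.fam _ (h.cent1_ne a1) (h.le_cent1 ha)
    refine F.le (h.le_cent1 ha) (le_norm_sSup ?_) (inf_le_right.trans h3) fun L hL => ?_
    · rintro y hy _ ⟨W', C', q, rfl⟩
      exact ⟨W', C', q, conj_eq_of_mem_norm (h.norm_lam' hE q (odd_O _) (h.normO ha) hy)⟩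
    obtain ⟨V, k, l⟩ := F.cp L hL
    obtain ⟨W', C', q, h5⟩ := (pr_of1 l ha a1).exists_mx
    refine le_norm_sSup ?_
    rintro y hy _ ⟨W'', C'', r, rfl⟩
    exact ⟨W'', C'', r, conj_eq_of_mem_norm (h4 _ _ _ _ r q
      (l.toPC.le_nclI h.toSt (le_cent_symm (h5.trans inf_le_right)) hy))⟩
  refine ⟨𝐍(A), h.dse (h.norm_ne h.ne_bot fun e => h.nab ⟨⟨fun x y =>
    h.comm (e.ge (mem_top x)) (e.ge (mem_top y))⟩⟩) le_rfl fun a ha a1 => ?_⟩
  obtain ⟨𝓛, F⟩ := h.fam _ (h.cent1_ne a1) (h.le_cent1 ha)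
  refine F.le (h.le_cent1 ha) ((h.le_th le_rfl (odd_O _) (h.normO ha)
    fun W C p => (h0 ⟨W, C, p⟩).elim).trans ((hE a ha a1).le.trans bot_le)) inf_le_right
    fun L hL => ?_
  obtain ⟨V, k, l⟩ := F.cp L hL
  obtain ⟨W, C, p, -⟩ := (pr_of1 l ha a1).exists_mx
  exact (h0 ⟨W, C, p⟩).elim

end

theorem not_tf (t : TF A U D) : False := by
  obtain ⟨E, ho, hn, hE⟩ := h.exists_compl
  exact h.not_tf' (fun a ha a1 => by rw [← hE a ha a1, t.eq_bot h ho hn hE, bot_inf_eq]) t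

theorem exists_se (h1 : ∀ W C W' C', Mx A W C → Mx A W' C' → C ⊓ C' ≠ ⊥) :
    ∃ M : Subgroup G, DSE A M := by
  obtain ⟨E, ho, hn, hE⟩ := h.exists_compl
  by_cases h0 : E = ⊥
  · exact h.se_of_bot (fun a ha a1 => by rw [← hE a ha a1, h0, bot_inf_eq]) h1
  have h2 : ∀ B ≤ A, 2 < ♯B → 𝐂(B) ≤ 𝐍(E) := fun B hB h2 g hg =>
    mem_norm_of_conj_le (conj_le_iff_le_inv_conj.2 (gen1 (h.abelem hB) h2 ho
      (hB.trans ((le_norm_self A).trans hn)) fun b hb b1 => by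
        rw [← conj_le_iff_le_inv_conj, hE b (hB hb) b1, conj_eq_of_mem_norm (h.th_normal (hB hb) b1
          (fun W C W' C' p q => ne_bot_of_le_ne_bot (h1 _ _ _ _ p q) (inf_le_inf_right _ le_sup_right))
          (cent_le_cent1 hb hg)), ← hE b (hB hb) b1]
        exact inf_le_left))
  refine ⟨𝐍(E), h.dse (h.norm_ne h0 fun e => Nat.not_even_iff_odd.2 ho (even_iff_two_dvd.2
    ((dvd_card_of_isPGroup (h.two le_rfl) h.ne_bot).trans (card_dvd (e ▸ le_top))))) hn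
    fun a ha a1 => ?_⟩
  obtain ⟨𝓛, F⟩ := h.fam _ (h.cent1_ne a1) (h.le_cent1 ha)
  refine F.le (h.le_cent1 ha) (genH h.elem h.ne_bot (odd_O _) (h.normO ha)
    fun B hB h3 => inf_le_right.trans (h2 B hB ?_)) (inf_le_right.trans hn) fun L hL => ?_
  · have := card_mul_relIndex hB
    have := h.big
    rw [h3] at *
    omega
  obtain ⟨V, k, l⟩ := F.cp L hL
  obtain ⟨W, C, p, h4⟩ := (pr_of1 l ha a1).exists_mx
  exact (le_cent_symm (h4.trans inf_le_right)).trans (h2 C p.cle (h.rank p))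

end Su

end Cfsg.Agent.I2.Ex
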