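import Cfsg.Agent.Lib.I2.EXc

/-!
# Packages EX1 and EX2 of plan S4030
-/

set_option autoImplicit false
set_option linter.unusedSectionVars false

namespace Cfsg.Agent.I2.Ex

open Subgroup Cfsg.Agent.OO Cfsg.Agent.GW Cfsg.Agent.Coprime Cfsg.Agent.SZ Cfsg.Agent.W4
open Cfsg.Agent.R4 (SC MinSC InD PC SCl abelem_sq)
open Cfsg.Agent.R4.Ex (NS ns_of)
open scoped commutatorElement Pointwise

universe u

variable {G : Type u} [Group G] [Finite G] {A B C C' D E H K L L' M N U V W W' X Y Z : Subgroup G}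
  {a b c d g j k m n w x y : G} {𝓛 : Set (Subgroup G)}

theorem st_of (kf2 : KF2.{u}) (hG : MC G) (hA : SC A) (h8 : 8 ≤ ♯A) : St A :=
  ⟨hG, hA, h8, fun H h0 h1 => by
    obtain ⟨T, hT, h2⟩ := exists_syl_ge h1 (abelem_isPGroup hA.elem)
    exact kf2 G A H T hG.cov (hG.ky.mono (card_top (G := G) ▸ card_lt_of_lt (lt_top_iff_ne_top.2 h0)))
      hT h2 hA.elem (hA.scl hT.isPGroup h2 H)⟩

theorem sc_of_norm (hA : SC A) (hX : X ≤ A) (hn : 𝐍(A) ≤ 𝐍(X)) : SC X := by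
  obtain ⟨S, hS, hle⟩ := exists_syl_ge (M := ⊤) le_top (abelem_isPGroup hA.elem)
  refine ⟨⟨ab_of_le (abelem_ab hA.elem) hX, fun x hx => hA.elem.2 x (hX hx)⟩,
    fun T hT h1 a ha g hg => ?_⟩
  obtain ⟨x, -, h2⟩ := hS.exists_conj_le le_top hT
  obtain ⟨n, h3, e⟩ := (hA.ctl hS hle X (hX.trans hle) x (mem_top x)
    ((conj_mono x h1).trans h2)).conj_eq
  obtain ⟨m, h4, e'⟩ := (hA.ctl hS hle).elt (hle (hX ha)) (mem_top (x * g))
    (by simpa [mul_assoc] using h2 (conj_mem_conj (g := x) hg))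
  have h5 := conj_mem_of_norm (hn h4.2) ha
  rw [← e', ← conj_eq_of_mem_norm (hn h3.2), ← e, mem_conj] at h5
  simpa [mul_assoc] using h5

theorem irr_of (hA : MinSC A) : IrrN A := fun X hX hn => hA.min X (sc_of_norm hA.toSC hX hn) hX

theorem norm_le_of_sc (hA : SC A) (hT : IsPGroup 2 V) (h : A ≤ V) : 𝐍(V) ≤ 𝐍(A) := fun g hg =>
  mem_norm_of_conj_mem fun x hx => hA.cl V hT h x hx g (conj_mem_of_norm hg (h hx))

/-- the component of `C(C)` belonging to a minimal pair -/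
theorem Mx.exists_cp (h : St A) (p : Mx A W C) : ∃ L V k, Cp A 𝐂(C) L V k ∧ A ⊓ 𝐂(L) = C ∧
    W ≤ L ⊔ O 𝐂(C) ∧ 𝐍(A) ⊓ 𝐍(C) ≤ 𝐍(O 𝐂(C)) ⊓ 𝐍(A) ⊓ 𝐍(L ⊔ O 𝐂(C)) := by
  have hA := h.le_cent p.cle
  obtain ⟨𝓛, F⟩ := h.fam _ (h.cent_ne p.1.1) hA
  obtain ⟨L, hL, e, e0⟩ := p.pu' h hA F p.cle p.1.1 le_rfl le_rfl
  obtain ⟨V, k, l⟩ := F.cp L hL
  refine ⟨L, V, k, l, e, e0, fun g hg => ?_⟩
  have h1 := norm_le_norm_cent C hg.2
  have h3 := le_norm_O le_rfl h1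
  obtain ⟨L', hL', e', h4⟩ := p.pu h hA F p.cle p.1.1 le_rfl (conj_le_of_mem_norm h1 l.le)
    (l.toPC.conj hg.1) (by
      rw [cent_conj, ← conj_eq_of_mem_norm hg.1, ← conj_inf, e, conj_eq_of_mem_norm hg.2])
  obtain rfl : L = L' := by_contra fun h5 => l.toPC.linI.not_le h
    ((le_inf l.toPC.linI.wle (l.wle'.trans (F.comm L hL L' hL' h5).1)).trans (e'.trans e.symm).le)
  exact ⟨⟨h3, hg.1⟩, mem_norm_of_conj_le (by
    rw [conj_sup, conj_eq_of_mem_norm h3]; exact sup_le h4 le_sup_right)⟩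

theorem Mx.lt (h : St A) (hi : IrrN A) (h8 : ¬ Exc A) (p : Mx A W C) : ♯W < ♯C := by
  by_contra! hle
  obtain ⟨L, V, k, c, e0, -, hN⟩ := p.exists_cp h
  have l : Lin A V C k := e0 ▸ c.toPC.linI
  replace hle : ♯C ≤ ♯V := by
    obtain ⟨k', l'⟩ := p.1.lin
    have h1 := l.card h
    rw [← l'.card h] at h1
    exact Nat.eq_of_mul_eq_mul_right (card_pos' C) h1 ▸ hle
  replace p : Mx A V C := ⟨⟨p.1.1, L, k, c.toPC, e0⟩, p.2⟩
  have ti : ∀ n ∈ 𝐍(A), n •ᶜ C ≠ C → n •ᶜ C ⊓ C = ⊥ := fun n hn e => by_contra fun e' =>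
    (p.tri0 h (p.1.conj hn) e').elim (fun h1 => e (eq_of_le_of_card_le h1 (card_conj n C).le).symm)
      fun h1 => e' (by rw [← eq_of_le_of_card_le h1.2 ((card_conj n C).le.trans hle), l.inf h])
  have an : An A V C := c.two.elim
    (fun e => l.anti' h ti hi p.1.1 (e ▸ le_norm_inf inf_le_left (hN.trans inf_le_right)))
    fun e => l.anti h ti (ns_of h.ab fun g hg => l.two_cent h ti hi p.1.1
      (fun g hg h2 a ha => e0 ▸ ⟨A.mul_mem (conj_mem_of_norm hg.1 ha) (A.inv_mem ha),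
        (e g (hN hg) h2).1 a ha⟩) (fun g hg h2 => (e g (hN hg) h2).2) hg) p.1.1
  obtain ⟨n, hn, h2⟩ := l.exists_le h ti hi p.1.1
  by_cases h3 : 16 ≤ ♯A
  · exact l.ti_false h ti an h3 p.1.1 hn fun e =>
      p.1.1 (eq_bot_iff.2 (l.inf h ▸ le_inf (e.ge.trans h2) le_rfl))
  have h4 : ♯A = 8 := by
    obtain ⟨i, hi⟩ := (h.two le_rfl).exists_card_eq
    have := h.big
    rw [hi] at this h3 ⊢
    obtain rfl : i = 3 := le_antisymm
      (Nat.le_of_lt_succ ((Nat.pow_lt_pow_iff_right one_lt_two).1 (by omega)))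
      ((Nat.pow_le_pow_iff_right one_lt_two).1 (by omega))
    rfl
  have h5 : ♯C ≤ 2 := by
    have := l.card h
    have := l.four
    nlinarith
  refine h8 ⟨h4, l.cen h ti an hi (le_antisymm h5 (Nat.le_of_dvd (card_pos' C)
    (dvd_card_of_isPGroup (h.two l.cle) p.1.1))), fun a ha a1 => ?_⟩
  obtain ⟨m, hm, h6⟩ := l.cover0 h ti hi p.1.1 ha a1
  have h7 : ♯(zpowers a) = 2 := by rw [Nat.card_zpowers, orderOf_eq_two (h.sq ha) a1]
  have e := eq_of_le_of_card_le (zpowers_le.2 h6) (by rwa [card_conj, h7])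
  obtain ⟨𝓛, F⟩ := h.fam _ (h.cent1_ne a1) (h.le_cent1 ha)
  obtain ⟨L, hL, e', -⟩ := (p.conj hm).pu' h (h.le_cent1 ha) F (zpowers_le.2 ha) (by simpa using a1)
    (cent_zpowers a).ge (cent_le_cent1 h6)
  obtain ⟨V, j, c⟩ := F.cp L hL
  refine ⟨L, V, j, c, e'.trans e.symm, fun g hg => ?_⟩
  obtain ⟨L', hL', h9⟩ := F.perm g hg L hL
  obtain rfl : L' = L := by_contra fun h10 => by
    obtain ⟨V', j', c'⟩ := F.cp L' hL'
    have := card_le ((le_inf c'.toPC.linI.wle (c'.wle'.trans (F.comm L' hL' L hL h10).1)).trans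
      (e'.trans e.symm).le)
    have := c'.four
    omega
  exact conj_eq_self_iff.1 h9

theorem exists_dse (h : St A) (h1 : ∀ {W C : Subgroup G}, Mx A W C → ♯W < ♯C) :
    ∃ M, DSE A M := by
  have h2 : ∀ W C W' C', Mx A W C → Mx A W' C' → C ⊓ C' ≠ ⊥ := fun W C W' C' p q e => by
    obtain ⟨k, l⟩ := p.1.lin
    obtain ⟨k', l'⟩ := q.1.lin
    have h2 := card_le (sup_le l.cle l'.cle)
    rw [card_sup_of_inf_eq_bot (.inl (l.cle.trans (h.le_norm l'.cle))) e] at h2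
    have := l.card h
    have := l'.card h
    have := h1 p
    have := h1 q
    nlinarith
  refine Su.exists_se ⟨h, fun {W C W' C'} p q => ?_, fun p => ?_⟩ h2
  · obtain ⟨W'', C'', r, h3⟩ := q.exists_mx
    exact p.tri0 h q (ne_bot_of_le_ne_bot (h2 _ _ _ _ r p) (inf_le_inf_right _ h3))
  · exact p.1.lin.elim fun _ l => l.four.trans (h1 p)

/-- `N(A)` is irreducible on `A` if there is an embedded subgroup -/
theorem not_dse (h : DSE A M) (hX : X ≤ A) (h0 : X ≠ ⊥) (h1 : ¬ A ≤ X) (hn : 𝐍(A) ≤ 𝐍(X)) :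
    False := by
  obtain ⟨x, hx, x1⟩ := exists_mem_ne_one h0
  obtain ⟨a, ha, h2⟩ := SetLike.not_le_iff_exists.1 h1
  obtain ⟨g, hg, e⟩ := h.trans (hX hx) ha x1 (by rintro rfl; exact h2 (one_mem _))
  exact h2 (e ▸ conj_mem_of_norm (hn hg) hx)

theorem sc_sup (hA : SC A) (hB : SC B) (h1 : Cen A) (h2 : Cen B) (hc : B ≤ 𝐂(A)) :
    SC (A ⊔ B) ∧ ∀ M, 𝐍(A ⊔ B) ≤ M → 𝐂(B) ≤ M → 𝐍(B) ≤ M := by
  have := Fact.mk Nat.prime_two
  have hE := abelem_sup hA.elem hB.elem (le_cent_symm hc)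
  have k1 : ∀ (C T : Subgroup G) (g : G), SC C → IsPGroup 2 T → C ≤ T → g •ᶜ C ≤ T → g ∈ 𝐍(C) :=
    fun C T g hC hT e1 e2 => mem_norm_of_conj_mem fun x hx => hC.cl T hT e1 x hx g (e2 (conj_mem_conj hx))
  have k2 : ∀ (T : Subgroup G) (g : G), IsPGroup 2 T → A ⊔ B ≤ T → g •ᶜ (A ⊔ B) ≤ T →
      g ∈ 𝐍(A) ⊓ 𝐍(B) := fun T g hT e1 e2 =>
    ⟨k1 A T g hA hT (le_sup_left.trans e1) ((conj_mono g le_sup_left).trans e2),
      k1 B T g hB hT (le_sup_right.trans e1) ((conj_mono g le_sup_right).trans e2)⟩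
  have k3 : ∀ S, Syl 2 S ⊤ → A ⊔ B ≤ S → S ≤ 𝐂(A) ∧ S ≤ 𝐂(B) := fun S hS e =>
    ⟨fun s hs => h1 s (hA.le_norm hS.isPGroup (le_sup_left.trans e) hs) (two_of_mem hS.isPGroup hs),
      fun s hs => h2 s (hB.le_norm hS.isPGroup (le_sup_right.trans e) hs)
        (two_of_mem hS.isPGroup hs)⟩
  refine ⟨⟨hE, fun T hT e x hx g hg => ?_⟩, fun M e1 e2 => ?_⟩
  · obtain ⟨S, hS, hle⟩ := exists_syl_ge le_top hT
    have h3 := le_cent_sup (k3 S hS (e.trans hle)).1 (k3 S hS (e.trans hle)).2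
    obtain ⟨c, hc, h4⟩ := ((hS.conj_of_mem (mem_top g)).mono (cent1_conj g x ▸ conj_mono g
      (h3.trans (cent_le_cent1 hx))) le_top).exists_conj_le (le_cent1_iff.2 (h3 (hle hg)))
      (abelem_isPGroup hE)
    have h5 := k2 S (g⁻¹ * c) hS.isPGroup (e.trans hle) (by
      rw [← conj_conj, ← le_conj_iff_inv_conj_le]; exact h4)
    have h6 := conj_mem_of_norm' (mem_norm_sup h5.1 h5.2) hx
    rwa [show (g⁻¹ * c)⁻¹ * x * (g⁻¹ * c) = c⁻¹ * (g * x * g⁻¹) * c⁻¹⁻¹ by group,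
      mem_cent1_iff_conj.1 (inv_mem hc)] at h6
  · obtain ⟨S, hS, hle⟩ := exists_syl_ge le_top (abelem_isPGroup hE)
    refine ((hS.mono (k3 S hS hle).2 le_top).frattini ⟨cent_le_norm B, norm_le_norm_cent B⟩).sup_eq.ge.trans
      (sup_le e2 fun g hg => e1 ?_)
    have h5 := k2 S g hS.isPGroup hle (conj_le_of_mem_norm hg.2 hle)
    exact mem_norm_sup h5.1 h5.2

theorem false_of_two (h : St (U ⊔ D)) (u4 : 4 ≤ ♯U) (d4 : 4 ≤ ♯D)
    (h0 : U ⊓ D = ⊥) (hU : 𝐍(U ⊔ D) ≤ 𝐍(U)) (hD : 𝐍(U ⊔ D) ≤ 𝐍(D))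
    (pU : ∀ M : Subgroup G, M ≠ ⊤ → 𝐍(U ⊔ D) ≤ M → (∀ d ∈ U, d ≠ 1 → 𝐂[d] ≤ M) → False)
    (pD : ∀ M : Subgroup G, M ≠ ⊤ → 𝐍(U ⊔ D) ≤ M → (∀ d ∈ D, d ≠ 1 → 𝐂[d] ≤ M) → False) :
    False := by
  have u0 : U ≠ ⊥ := by rintro rfl; simp at u4
  have d0 : D ≠ ⊥ := by rintro rfl; simp at d4
  have h1 : ∀ {W C : Subgroup G}, Pr (U ⊔ D) W C → W ≤ U ∧ D ≤ C ∨ W ≤ D ∧ U ≤ C := fun p => by
    obtain ⟨j, l⟩ := p.lin
    rcases l.dich h le_sup_left (hU l.kn) with e | e <;>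
      rcases l.dich h le_sup_right (hD l.kn) with e' | e'
    · exact (l.ne_bot h (eq_bot_iff.2 (h0 ▸ le_inf e e'))).elim
    · exact .inl ⟨e, e'⟩
    · exact .inr ⟨e', e⟩
    · exact (l.not_le h (l.wle.trans (sup_le e e'))).elim
  have h2 : Su (U ⊔ D) := ⟨h, fun p q => by
    rcases h1 p.1 with e | e <;> rcases h1 q with e' | e'
    · exact p.tri0 h q (ne_bot_of_le_ne_bot d0 (le_inf e'.2 e.2))
    · exact .inr ⟨e'.1.trans e.2, e.1.trans e'.2⟩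
    · exact .inr ⟨e'.1.trans e.2, e.1.trans e'.2⟩
    · exact p.tri0 h q (ne_bot_of_le_ne_bot u0 (le_inf e'.2 e.2)),
    fun p => by
      rcases h1 p.1 with e | e <;> exact lt_of_lt_of_le (by omega) (card_le e.2)⟩
  have k0 : ∀ {X Y C C' : Subgroup G}, X ≤ C' → Y ≤ C → C ≤ X ⊔ Y → X ⊔ Y ≤ U ⊔ D →
      C ⊓ C' = ⊥ → C = Y := fun {X Y C C'} e1 e2 e3 e4 e5 => le_antisymm (fun c hc => by
    obtain ⟨x, hx, y, hy, rfl⟩ := (mem_sup_norm_right ((le_sup_left.trans e4).trans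
      (h.le_norm (le_sup_right.trans e4)))).1 (e3 hc)
    have : x ∈ C ⊓ C' := ⟨(mul_mem_cancel_right (e2 hy)).1 hc, e1 hx⟩
    rw [e5, mem_bot] at this
    rwa [this, one_mul]) e2
  have k1 : ∀ {X Y W : Subgroup G}, W ≤ X → X ≤ W ⊔ Y → X ≤ U ⊔ D → Y ≤ U ⊔ D → X ⊓ Y = ⊥ →
      W = X := fun {X Y W} e1 e2 e3 e4 e5 => le_antisymm e1 fun c hc => by
    obtain ⟨x, hx, y, hy, rfl⟩ := (mem_sup_norm_right ((e1.trans e3).trans (h.le_norm e4))).1 (e2 hc)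
    have : y ∈ X ⊓ Y := ⟨(mul_mem_cancel_left (e1 hx)).1 hc, hy⟩
    rw [e5, mem_bot] at this
    rwa [this, mul_one]
  have t : ∀ {W C W' C' : Subgroup G}, Mx (U ⊔ D) W C → Mx (U ⊔ D) W' C' → C ⊓ C' = ⊥ →
      W ≤ U → D ≤ C → W' ≤ D → U ≤ C' → False := fun {W C W' C'} p q e e1 e2 e3 e4 => by
    obtain rfl : C = D := k0 e4 e2 p.cle le_rfl e
    obtain rfl : C' = U := k0 e2 e4 (q.cle.trans (sup_comm _ _).le) (sup_comm _ _).le
      ((inf_comm _ _).trans e)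
    obtain rfl : W = C' := k1 e1 (le_sup_left.trans p.1.sup) le_sup_left le_sup_right h0
    obtain rfl : W' = C := k1 e3 (le_sup_right.trans q.1.sup) le_sup_right le_sup_left e
    exact h2.not_tf ⟨p, q, h1, hU, hD, pD, pU⟩
  obtain ⟨M, h3⟩ := h2.exists_se fun W C W' C' p q e' => by
    rcases h1 p.1 with e | e <;> rcases h1 q.1 with e'' | e''
    · exact d0 (eq_bot_iff.2 (e' ▸ le_inf e.2 e''.2))
    · exact t p q e' e.1 e.2 e''.1 e''.2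
    · exact t q p ((inf_comm _ _).trans e') e''.1 e''.2 e.1 e.2
    · exact u0 (eq_bot_iff.2 (e' ▸ le_inf e.2 e''.2))
  exact not_dse h3 le_sup_left u0
    (fun e => d0 (eq_bot_iff.2 (h0 ▸ le_inf (le_sup_right.trans e) le_rfl))) hU

end Cfsg.Agent.I2.Ex

namespace Cfsg.Agent.I2

open Subgroup Cfsg.Agent.OO Ex
open Cfsg.Agent.R4 (SC)

universe u

/-- package EX1 -/
theorem ex1 (kf2 : KF2.{u}) : EX1.{u} := fun G _ _ A hG hA h8 => or_iff_not_imp_right.2 fun h0 =>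
  have h := st_of kf2 hG hA.toSC h8
  exists_dse h fun p => p.lt h (irr_of hA) h0

/-- package EX2 -/
theorem ex2 (kf2 : KF2.{u}) : EX2.{u} := fun G _ _ A B hG hA hB a4 b4 cA cB h0 hc => by
  obtain ⟨h1, h3⟩ := sc_sup hA hB cA cB hc
  obtain ⟨-, h4⟩ := sc_sup hB hA cB cA (le_cent_symm hc)
  rw [sup_comm] at h4
  have k : ∀ X Y : Subgroup G, SC X → SC Y → 4 ≤ ♯X → 4 ≤ ♯Y → Cen X → Y ≤ 𝐂(X) → X ⊓ Y = ⊥ →
      (∀ M, 𝐍(A ⊔ B) ≤ M → 𝐂(X) ≤ M → 𝐍(X) ≤ M) → ∀ M : Subgroup G, M ≠ ⊤ → 𝐍(A ⊔ B) ≤ M →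
      (∀ d ∈ X, d ≠ 1 → 𝐂[d] ≤ M) → False := fun X Y hX hY x4 y4 cX e1 e2 e3 M h6 h7 h8 => by
    obtain ⟨d, hd, d1⟩ := exists_mem_ne_one (show X ≠ ⊥ by rintro rfl; simp at x4)
    exact De.false_of_sc ⟨hG, hX, x4, h6, e3 M h7 ((cent_le_cent1 hd).trans (h8 d hd d1)), h8⟩ cX
      hY e1 e2 (by rintro rfl; simp at y4)
  refine false_of_two (st_of kf2 hG h1 ?_) a4 b4 h0
    (norm_le_of_sc hA (abelem_isPGroup h1.elem) le_sup_left)
    (norm_le_of_sc hB (abelem_isPGroup h1.elem) le_sup_right) (k A B hA hB a4 b4 cA hc h0 h4)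
    (k B A hB hA b4 a4 cB (le_cent_symm hc) (inf_comm A B ▸ h0) h3)
  rw [card_sup_of_inf_eq_bot (.inr (le_norm_of_le_cent hc)) h0]
  nlinarith

end Cfsg.Agent.I2
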