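import Cfsg.Agent.Lib.R4.KFDefs

/-!
# Interfaces for the classification of the simple groups with irrational 2-elements (plan S4030)
-/

set_option autoImplicit false

namespace Cfsg.Agent.I2

open Subgroup Cfsg.Agent.OO Cfsg.Agent.Coprime Cfsg.Agent.SZ Cfsg.Agent.GW Cfsg.Agent.W4
open Cfsg.Agent.R4 (SC MinSC InD IsSz SzF PC SCl)
open scoped commutatorElement Pointwise

universe u

/-- the 2-elements are irrational -/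
def Irr (G : Type u) [Group G] : Prop := ∀ x : G, PiElt {2} x → 𝐍(zpowers x) ≤ 𝐂[x]

/-- `f` is a central extension by a 2-group, and the 2-elements of the source are irrational -/
structure Cv {Γ G : Type u} [Group Γ] [Group G] (f : Γ →* G) : Prop where
  surj : Function.Surjective f
  cen : f.ker ≤ center Γ
  two : IsPGroup 2 f.ker
  irr : Irr Γ

/-- the class of groups in the induction -/
def Cov (G : Type u) [Group G] : Prop :=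
  ∃ (Γ : Type u) (_ : Group Γ) (_ : Finite Γ) (f : Γ →* G), Cv f

/-- the images of the involutions of the cover -/
def Lf {Γ G : Type u} [Group Γ] [Group G] (f : Γ →* G) (x : G) : Prop := ∃ a, a * a = 1 ∧ f a = x

/-- the known simple groups -/
def Kn (G : Type u) [Group G] : Prop := R1.AStar G ∨ IsSz G

/-- the classification for groups of order less than `n` -/
def KY (n : ℕ) : Prop := ∀ (X : Type u) [Group X] [Finite X], Nat.card X < n → IsSimpleGroup X →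
  ¬ IsMulCommutative X → Cov X → Kn X

section

variable {G : Type u} [Group G]

theorem KY.mono {m n : ℕ} (h : KY.{u} n) (hle : m ≤ n) : KY.{u} m :=
  fun X _ _ e => h X (e.trans_le hle)

/-- the properties of the set `D = Lf f` -/
structure DS (D : G → Prop) : Prop where
  one : D 1
  sq : ∀ {x : G}, D x → x * x = 1
  conj : ∀ {x : G}, D x → ∀ g, D (g * x * g⁻¹)
  mul : ∀ {T : Subgroup G} {x y : G}, IsPGroup 2 T → x ∈ T → y ∈ T → D x → D y → D (x * y)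
  om : ∀ {T : Subgroup G} {t g : G}, IsPGroup 2 T → t * t = 1 → t ∈ T → g * t * g⁻¹ ∈ T →
    D (g * t * g⁻¹ * t)
  pp : ∀ {Q : Subgroup G} {g : G}, IsPGroup 2 Q → g ∈ 𝐍(Q) → Odd (orderOf g) →
    (∀ x ∈ Q, D x → g ∈ 𝐂[x]) → g ∈ 𝐂(Q)

variable (G) in
/-- elements of odd order which centralize the involutions of a 2-group centralize it -/
def PP : Prop := ∀ (Q : Subgroup G) (g : G), IsPGroup 2 Q → g ∈ 𝐍(Q) → Odd (orderOf g) →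
  (∀ x ∈ Q, x * x = 1 → g ∈ 𝐂[x]) → g ∈ 𝐂(Q)

variable (G) in
/-- a minimal counterexample -/
structure MC : Prop where
  simple : IsSimpleGroup G
  nab : ¬ IsMulCommutative G
  cov : Cov G
  ky : KY.{u} (Nat.card G)

/-- a strongly closed subgroup containing the elements of `D` of the 2-groups above it -/
structure Big (D : G → Prop) (V : Subgroup G) : Prop extends SC V where
  top : ∀ T : Subgroup G, IsPGroup 2 T → V ≤ T → ∀ x ∈ T, D x → x ∈ V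

/-- `N(A) / C(A)` has odd order -/
def Cen (A : Subgroup G) : Prop := ∀ g ∈ 𝐍(A), PiElt {2} g → g ∈ 𝐂(A)

/-- every nontrivial strongly closed subgroup of `V` meets `B` -/
def Uq (V B : Subgroup G) : Prop := ∀ C ≤ V, SC C → B ⊓ C = ⊥ → C = ⊥

/-- the conjugates of the involutions of `A` fix exactly one point of `G / M` -/
structure DSE (A M : Subgroup G) : Prop extends MC G, SC A where
  four : 4 ≤ ♯A
  ne : M ≠ ⊤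
  norm : 𝐍(A) ≤ M
  cent : ∀ a ∈ A, a ≠ 1 → 𝐂[a] ≤ M

/-- a maximal embedded subgroup -/
structure DN (A M : Subgroup G) : Prop extends DSE A M where
  eight : 8 ≤ ♯A
  coatom : IsCoatom M
  normO : M ≤ 𝐍(A ⊔ O M)
  ic : ∀ t ∈ 𝐍(A), t * t = 1 → t ∈ 𝐂(A)

/-- the strongly embedded case with a nonabelian Sylow 2-subgroup -/
structure DZ (A M S : Subgroup G) : Prop extends DN A M where
  inv : ∀ t : G, t * t = 1 → InD A t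
  syl : Syl 2 S ⊤
  le : A ≤ S
  cen : Cen A
  card : ♯S = ♯A ^ 2
  nabS : ¬ Ab S

/-- the facts on a known simple subgroup `L` with Sylow 2-subgroup `T` and `W = Ω₁(T)` -/
structure SF (L T W : Subgroup G) (k : G) : Prop where
  smp : Smp L
  nab : ¬ Ab L
  syl : Syl 2 T L
  mem : ∀ w, w ∈ W ↔ w ∈ T ∧ w * w = 1
  cent : T ≤ 𝐂(W)
  sq : ∀ t ∈ T, t * t ∈ W
  der_le : der T ≤ W
  four : 4 ≤ ♯W
  k_mem : k ∈ L
  k_norm : k ∈ 𝐍(T)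
  odd : Odd (orderOf k)
  cyc : ∀ v ∈ W, ∀ w ∈ W, v ≠ 1 → w ≠ 1 → ∃ j : ℕ, k ^ j * v * (k ^ j)⁻¹ = w
  cw : ∀ x ∈ 𝐍(L) ⊓ 𝐂(W), PiElt {2} x → x ∈ T ⊔ 𝐂(L)

/-- the facts on `L = L₂(2 ^ n)` and `L = Sz(2 ^ n)` -/
structure ZF (L T W : Subgroup G) (k : G) (n : ℕ) : Prop extends SF L T W k where
  cardW : ♯W = 2 ^ n
  ord : orderOf k + 1 = ♯W
  norm : L ⊓ 𝐍(T) = T ⊔ zpowers k
  cc : ∀ x ∈ T, x ≠ 1 → L ⊓ 𝐂[x] ≤ T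
  ti : ∀ g ∈ L, ∀ x ∈ T, x ≠ 1 → g * x * g⁻¹ ∈ T → g ∈ 𝐍(T)
  max : ∀ B : Subgroup G, T ≤ B → B ≤ L → B ≤ 𝐍(T) ∨ B = L
  centW : 𝐍(L) ⊓ 𝐂(W) ≤ T ⊔ 𝐂(L)
  index : 𝐍(T).relIndex L = ♯T + 1
  real : ∀ x ∈ L, Odd (orderOf x) → ∃ g ∈ L, g * g = 1 ∧ g * x * g⁻¹ = x⁻¹
  le_cent : ∀ Y ≤ 𝐍(L), Odd ♯Y → W ≤ 𝐍(Y) → Y ≤ 𝐂(L)
  hyp : ∃ t : L, BSW.HypC (T.subgroupOf L) t ∧ (BSW.Kt (T.subgroupOf L) t).map L.subtype = zpowers k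
  type : (T = W ∧ R1.AStar L) ∨ SzF L T W k n

/-- `L` is a lift of a component of `H / O(H)` moved by `A` -/
structure Cp (A H L W : Subgroup G) (k : G) : Prop extends PC A L W k where
  le : L ≤ H
  normA : ncl A H ≤ 𝐍(L ⊔ O H)
  normO : ∀ Y ≤ H, Odd ♯Y → A ≤ 𝐍(Y) → Y ≤ 𝐍(L ⊔ O H)
  odd : ∀ Y ≤ L ⊔ O H, Odd ♯Y → L ≤ 𝐍(Y) → Y ≤ O H
  two : A ⊓ (L ⊔ O H) = W ∨ ∀ g ∈ 𝐍(O H) ⊓ 𝐍(A) ⊓ 𝐍(L ⊔ O H), PiElt {2} g →
    (∀ a ∈ A, g * a * g⁻¹ * a⁻¹ ∈ 𝐂(L)) ∧ ∃ w ∈ W, w ≠ 1 ∧ g ∈ 𝐂[w]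
  dich : ∀ M : Subgroup G, O H ≤ M → H ⊓ 𝐍(A) ≤ M → (∀ w ∈ W, w ≠ 1 → H ⊓ 𝐂[w] ≤ M) →
    L ≤ M ∨ ∀ Y ≤ H, Odd ♯Y → A ≤ 𝐍(Y) → ⁅Y, L⁆ ≤ O H
  kind : ∃ Z : Subgroup G, O H ≤ Z ∧ Z ⊴ L ⊔ O H ∧ 𝐍(O H) ⊓ 𝐍(L ⊔ O H) ≤ 𝐍(Z) ∧ ⁅Z, L⁆ ≤ O H ∧
    IsPGroup 2 (Z ⁒ O H) ∧ ∃ T, SF (L ⁒ Z) T (W ⁒ Z) (coset Z k) ∧ ♯(W ⁒ Z) = ♯W ∧
      ((∃ n, SzF (L ⁒ Z) T (W ⁒ Z) (coset Z k) n) ∨
        Z = O H ∧ T = W ⁒ Z ∧ R1.AStar (L ⁒ Z) ∧ A ⊓ (L ⊔ O H) = W)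

/-- `𝓛` is a system of lifts of the components of `H / O(H)` moved by `A` -/
structure Fam (A H : Subgroup G) (𝓛 : Set (Subgroup G)) : Prop where
  cp : ∀ L ∈ 𝓛, ∃ W k, Cp A H L W k
  comm : ∀ L ∈ 𝓛, ∀ L' ∈ 𝓛, L ≠ L' → A ⊓ (L ⊔ O H) ≤ 𝐂(L') ∧ ⁅L, L'⁆ ≤ O H
  ncl_le : ncl A H ≤ O H ⊔ A ⊔ sSup 𝓛
  fratt : H ≤ ncl A H ⊔ H ⊓ 𝐍(A)
  perm : ∀ h ∈ H, ∀ L ∈ 𝓛, ∃ L' ∈ 𝓛, h •ᶜ (L ⊔ O H) = L' ⊔ O H
  a0 : ∀ a ∈ A, (∀ L ∈ 𝓛, a ∈ 𝐂(L)) → ∀ h ∈ H, h * a * h⁻¹ ∈ O H ⊔ A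
  odd_mem : ∀ x ∈ ncl A H ⊔ O H, Odd (orderOf x) → (∀ L ∈ 𝓛, x ∈ CM (O H) L) → x ∈ O H
  le_O : ∀ a ∈ A, ∀ X ≤ O (H ⊓ 𝐂[a]), (∀ L ∈ 𝓛, X ≤ CM (O H) L) → X ≤ O H

/-- the action of a proper subgroup `H` on the conjugates of an embedded subgroup `M` -/
structure K1F (A M H N : Subgroup G) (L T W : Subgroup (Coset N)) (k : Coset N) (n : ℕ) : Prop
    extends ZF L T W k n where
  normal : N ⊴ H
  le : N ≤ M
  core : ∀ X : Subgroup G, X ⊴ H → X ≤ M → X ≤ N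
  free : ∀ t ∈ N, InD A t → t = 1
  normalL : L ⊴ H ⁒ N
  centL : H ⁒ N ⊓ 𝐂(L) = ⊥
  stab : (H ⊓ M) ⁒ N = H ⁒ N ⊓ 𝐍(T)
  idx : M.relIndex H = ♯T + 1
  inD : ∀ w ∈ L, w * w = 1 → ∃ t ∈ H, InD A t ∧ coset N t = w
  fix : ∀ g ∈ H, g ∉ M → ∀ x ∈ H ⊓ M ⊓ g •ᶜ M, coset N x ∈ T → x ∈ N
  trans : ∀ g ∈ H, g ∉ M → ∀ g' ∈ H, g' ∉ M → ∃ x ∈ H ⊓ M, coset N x ∈ T ∧ g'⁻¹ * x * g ∈ M

/-- the exceptional configuration of rank three -/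
structure Exc (A : Subgroup G) : Prop where
  card : ♯A = 8
  cen : Cen A
  cp : ∀ a ∈ A, a ≠ 1 → ∃ L W k, Cp A 𝐂[a] L W k ∧ A ⊓ 𝐂(L) = zpowers a ∧ 𝐂[a] ≤ 𝐍(L ⊔ O 𝐂[a])

/-- the local hypothesis of package EO -/
structure EH {Γ : Type u} [Group Γ] (f : Γ →* G) (B Y : Subgroup G) : Prop extends Cv f where
  normal : B.Normal
  elem : IsElementaryAbelian 2 B
  eight : 8 ≤ ♯B
  inv : ∀ t : G, t * t = 1 → t ∈ B
  lf : ∀ b ∈ B, Lf f b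
  twoC : IsPGroup 2 𝐂(B)
  odd : Odd ♯Y
  trans : ∀ a ∈ B, ∀ b ∈ B, a ≠ 1 → b ≠ 1 → ∃ y ∈ Y, y * a * y⁻¹ = b

end

/-- the facts on the known simple groups -/
def KF1 : Prop := ∀ (G : Type u) [Group G] [Finite G] (L T : Subgroup G), Smp L → ¬ Ab L → Kn L →
  Syl 2 T L → ∃ W k, SF L T W k ∧ ((∃ n, ZF L T W k n) ∨ T = W ∧ R1.AStar L ∧
    ∀ M : Subgroup G, L ⊓ 𝐍(T) ≤ M → (∀ w ∈ T, w ≠ 1 → L ⊓ 𝐂[w] ≤ M) → L ≤ M)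

/-- the structure of groups with a strongly closed elementary abelian subgroup -/
def KF2 : Prop := ∀ (G : Type u) [Group G] [Finite G] (A H T : Subgroup G), Cov G →
  KY.{u} (♯H + 1) → Syl 2 T H → A ≤ T → IsElementaryAbelian 2 A → SCl H T A → ∃ 𝓛, Fam A H 𝓛

/-- proper subgroups containing `A` -/
def KF3 : Prop := ∀ (G : Type u) [Group G] [Finite G] (A M H V : Subgroup G), DSE A M → H ≠ ⊤ →
  V ≤ H ⊓ M → IsElementaryAbelian 2 V → 4 ≤ ♯V → (∀ v ∈ V, InD A v) → ¬ H ≤ M →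
  ∃ N L T W k n, K1F A M H N L T W k n

def EX1 : Prop := ∀ (G : Type u) [Group G] [Finite G] (A : Subgroup G), MC G → MinSC A → 8 ≤ ♯A →
  (∃ M, DSE A M) ∨ Exc A

def EX2 : Prop := ∀ (G : Type u) [Group G] [Finite G] (A B : Subgroup G), MC G → SC A → SC B →
  4 ≤ ♯A → 4 ≤ ♯B → Cen A → Cen B → A ⊓ B = ⊥ → B ≤ 𝐂(A) → False

def EX3 : Prop := ∀ (G : Type u) [Group G] [Finite G] (D : G → Prop) (V B : Subgroup G), MC G →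
  DS D → Big D V → 8 ≤ ♯V → SC B → ♯B = 4 → B ≤ V → Uq V B → False

def EX8 : Prop := ∀ (G : Type u) [Group G] [Finite G] (D : G → Prop) (V B : Subgroup G), MC G →
  DS D → Big D V → SC B → Exc B → B ≤ V → Uq V B → R1.Ab2 G

def DE1 : Prop := ∀ (G : Type u) [Group G] [Finite G] (D : G → Prop) (A M : Subgroup G), DS D →
  DSE A M → 8 ≤ ♯A → IsCoatom M → DN A M

def KI : Prop := ∀ (G : Type u) [Group G] [Finite G] (D : G → Prop) (A M : Subgroup G), DS D →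
  DN A M → ∀ t : G, t * t = 1 → InD A t

def EOa : Prop := ∀ (Γ G : Type u) [Group Γ] [Finite Γ] [Group G] [Finite G] (f : Γ →* G)
  (B Y : Subgroup G), EH f B Y → Ab 𝐂(B) → Odd 𝐂(B).index

def EOc : Prop := ∀ (Γ G : Type u) [Group Γ] [Finite Γ] [Group G] [Finite G] (f : Γ →* G)
  (B Y : Subgroup G), EH f B Y → ¬ Ab 𝐂(B) → Odd 𝐂(B).index ∧ ♯𝐂(B) = ♯B ^ 2

def SE3 : Prop := ∀ (G : Type u) [Group G] [Finite G] (A M S : Subgroup G), DZ A M S → M ≤ 𝐍(A)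

def SZ2 : Prop := ∀ (G : Type u) [Group G] [Finite G] (A M S : Subgroup G), DZ A M S → M ≤ 𝐍(A) →
  IsSz G

end Cfsg.Agent.I2
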