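import Cfsg.Agent.Lib.I2.KFa
import Cfsg.Agent.Lib.SEA.Walter
import Cfsg.Agent.Lib.JR.Main

/-!
# The facts on the known simple groups
-/

set_option autoImplicit false

namespace Cfsg.Agent.I2

open Subgroup Cfsg.Agent.OO Cfsg.Agent.Coprime Cfsg.Agent.GW

universe u

/-- package KF1 -/
theorem kf1 : KF1.{u} := fun G _ _ L T hL hn hK hT => by
  rcases hK with hA | hS
  swap
  · obtain ⟨W, k, n, f⟩ := R4.kf1_sz hS hT
    exact ⟨W, k, Kf.sf_of_szf f, .inl ⟨n, Kf.zf_of_szf f⟩⟩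
  have h := Wal.sf (Wal.solSE JR.jr) hL hn (fun P hP h2 => BSW.comm_of_mul_self fun x hx =>
    congrArg Subtype.val (W3.astar_sq hA (x := ⟨x, hP hx⟩) (isPGroup_zpowers_iff.2 (by
      have := Fact.mk Nat.prime_two
      have := (piGrp_singleton h2).piElt hx
      rwa [PiElt, ← Subgroup.orderOf_coe]))))
    (fun X _ _ _ => SEA.walter JR.jr X) hT
  by_cases cc : ∀ w ∈ T, w ≠ 1 → L ⊓ 𝐂[w] ≤ T
  · obtain ⟨k, n, f⟩ := Kf.exists_zf hL hn hA hT h cc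
    exact ⟨T, k, f.toSF, .inl ⟨n, f⟩⟩
  · obtain ⟨k, f⟩ := Kf.exists_sf_of_wal hL hn hT h
    exact ⟨T, k, f, .inr ⟨rfl, hA, fun M h1 h2 => (h.dich M h1 h2).resolve_right cc⟩⟩

end Cfsg.Agent.I2
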