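import Cfsg.Agent.Lib.I2.KF2d
import Cfsg.Agent.Lib.I2.KF1

/-!
# Package KF2
-/

namespace Cfsg.Agent.I2

universe u

/-- package KF2 -/
theorem kf2 : KF2.{u} := Kf.kf2_of kf1

end Cfsg.Agent.I2
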