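import Cfsg.Agent.Lib.I2.KFa
import Cfsg.Agent.Lib.I2.Cov

/-!
# Strongly closed elementary abelian subgroups of groups with trivial odd core
-/

set_option autoImplicit false
set_option linter.unusedSectionVars false

namespace Cfsg.Agent.I2.Kf

open Subgroup Cfsg.Agent.OO Cfsg.Agent.Coprime Cfsg.Agent.SZ Cfsg.Agent.GW Cfsg.Agent.W4
open Cfsg.Agent.Wal hiding SF
open Cfsg.Agent.R4 (SCl SzF piElt_two_of_sq CM_Zc_le smp_quo cmp_Zc_le cmp_cent_sol mem_Op_of)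
open scoped commutatorElement Pointwise

universe u

variable {G : Type u} [Group G] [Finite G] {A K L N S T W X Y Z : Subgroup G} {a g k l v w x : G}

/-- the two kinds of known simple groups -/
def KK (L T W : Subgroup G) (k : G) : Prop :=
  SF L T W k ∧ ((∃ n, ZF L T W k n) ∨ T = W ∧ R1.AStar L ∧
    ∀ M : Subgroup G, L ⊓ 𝐍(T) ≤ M → (∀ w ∈ T, w ≠ 1 → L ⊓ 𝐂[w] ≤ M) → L ≤ M)

theorem KK.sf (h : KK L T W k) : SF L T W k := h.1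

theorem KK.type (h : KK L T W k) : (T = W ∧ R1.AStar L) ∨ ∃ n, SzF L T W k n := by
  rcases h.2 with ⟨n, h⟩ | h
  exacts [h.type.imp_right fun e => ⟨n, e⟩, .inl ⟨h.1, h.2.1⟩]

theorem exists_kk (kf1 : KF1.{u}) (hc : Cov L) {n : ℕ} (ky : KY.{u} n) (hn : ♯L < n) (hL : Smp L)
    (ha : ¬ Ab L) (hT : Syl 2 T L) : ∃ W k, KK L T W k :=
  kf1 G L T hL ha (ky L hn (hL.isSimpleGroup fun e => ha (e ▸ ab_bot)) ha hc) hT

theorem cmp_cov (hc : Cov G) (hO : O X = ⊥) (hK : Cmp X K) : Cov (K ⁒ Zc K) :=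
  hc.quo_Zc hK.der_eq ((Op_isPGroup 2 X).to_le (cmp_Zc_le hO hK))

/-- the quotient of a component by its center is a known simple group -/
theorem cmp_kk (kf1 : KF1.{u}) (hc : Cov G) (ky : KY.{u} (♯X + 1)) (hO : O X = ⊥) (hK : Cmp X K)
    (hS : Syl 2 S K) : ∃ W k, KK (K ⁒ Zc K) (S ⁒ Zc K) W k :=
  exists_kk kf1 (cmp_cov hc hO hK) ky (Nat.lt_succ_of_le ((card_quo_le _ _).trans (card_le hK.le)))
    (smp_quo (Zc_normal K) fun _ hM _ => (Core.le_centralizer_or_eq_of_isQuasisimple hK.2 hM.le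
      hM.norm).imp (le_inf hM.le) Eq.ge)
    (fun e => hK.not_ab (ab_of_le (Zc_ab K) (hK.der_eq.ge.trans ((ab_quo_iff (Zc_normal K).norm).1 e))))
    (hS.quo (Zc_normal K).norm)

/-- `A` is strongly closed in the Sylow 2-subgroup `T` of `X`, and `O(X) = 1` -/
structure B2 (X T A : Subgroup G) : Prop where
  O_eq : O X = ⊥
  syl : Syl 2 T X
  le : A ≤ T
  elem : IsElementaryAbelian 2 A
  scl : SCl X T A
  sf : ∀ K, Cmp X K → ∃ W k, SF (K ⁒ Zc K) ((T ⊓ K) ⁒ Zc K) W k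

namespace B2

variable (h : B2 X T A)
include h

theorem leX : A ≤ X := h.le.trans h.syl.le

theorem sq (ha : a ∈ A) : a * a = 1 := by rw [← pow_two, h.elem.2 a ha]

theorem T_norm : T ≤ 𝐍(A) := le_norm_iff.2 fun t ht a ha =>
  h.scl a ha t (h.syl.le ht) (T.mul_mem (T.mul_mem ht (h.le ha)) (T.inv_mem ht))

theorem eq_bot (hN : Core.SubnormalIn N X) (ho : Odd ♯N) : N = ⊥ :=
  eq_bot_iff.2 (h.O_eq ▸ hN.le_piCoreOf fun _ _ hp e => ho.not_two_dvd_nat (e ▸ hp))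

theorem Op_le : Op 2 X ≤ T := Op_le_syl h.syl

section

variable (hK : Cmp X K)
include hK

theorem Zc_normal' : Zc K ⊴ T ⊓ K :=
  (Zc_normal K).mono (le_inf ((cmp_Zc_le h.O_eq hK).trans h.Op_le) (Zc_le K)) inf_le_right

theorem exists_k : ∃ k ∈ K ⊓ 𝐍(T ⊓ K), (∀ l ∈ T ⊓ K, l * l ∈ Zc K → ⁅k, l⁆ ∈ Zc K → l ∈ Zc K) ∧
    ∃ t ∈ T ⊓ K, t * t ∈ Zc K ∧ t ∉ Zc K := by
  obtain ⟨W, k, hF⟩ := h.sf K hK
  have hn := (Zc_normal K).norm
  obtain ⟨k, hk, -, rfl⟩ := mem_quo.1 hF.k_mem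
  refine ⟨k, ⟨hk, (coset_mem_quo_iff (hn hk) (le_norm_of_le (h.Zc_normal' hK).le)).1
    (quo_norm_eq (h.Zc_normal' hK) ▸ hF.k_norm)⟩, fun l hl l2 e => ?_, ?_⟩
  · refine (coset_eq_one_iff (hn hl.2)).1 (hF.fpf ((hF.mem _).2 ⟨coset_mem_quo _ hl, ?_⟩) ?_)
    · rw [← coset_mul (hn hl.2) (hn hl.2), coset_eq_one l2]
    · rw [← commutatorElement_eq_one_iff_mul_comm, ← coset_commutator (hn hk) (hn hl.2), coset_eq_one e]
  · obtain ⟨w, hw, w1, -⟩ := hF.exists_ne 1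
    obtain ⟨t, ht, -, rfl⟩ := mem_quo.1 (hF.W_le hw)
    refine ⟨t, ht, (coset_eq_one_iff (hn (K.mul_mem ht.2 ht.2))).1 ?_, fun e => w1 (coset_eq_one e)⟩
    rw [coset_mul (hn ht.2) (hn ht.2), hF.sqW hw]

theorem le_norm : A ≤ 𝐍(K) := fun a ha => conj_eq_self_iff.1 (by_contra fun hne => by
  have hc := (hK.conj (h.leX ha)).cent hK hne
  obtain ⟨k, hk, h1, t, ht, t2, h2⟩ := h.exists_k hK
  have h3 : a * t⁻¹ * a⁻¹ * t ∈ A := by
    simpa [mul_assoc] using A.mul_mem ha (conj_mem_of_norm' (h.T_norm ht.1) (A.inv_mem ha))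
  have h4 := mem_cent_iff.1 (hc (conj_mem_conj (K.inv_mem ht.2))) k hk.1
  have h5 : k * (a * t⁻¹ * a⁻¹ * t) * k⁻¹ = a * t⁻¹ * a⁻¹ * (k * t * k⁻¹) := by
    rw [← mul_assoc k, h4]; group
  have h6 := h.scl _ h3 k (hK.le hk.1) (h5 ▸ T.mul_mem (T.mul_mem (T.mul_mem (h.le ha) (T.inv_mem ht.1))
    (T.inv_mem (h.le ha))) (conj_mem_of_norm hk.2 ht).1)
  have h7 : t⁻¹ * (k * t * k⁻¹) ∈ A := by
    rw [h5] at h6
    simpa [mul_assoc] using A.mul_mem (A.inv_mem h3) h6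
  have h8 : t⁻¹ * (k * t * k⁻¹) ∈ K := K.mul_mem (K.inv_mem ht.2) (conj_mem_of_norm hk.2 ht).2
  have h9 := hc (conj_mem_conj h8)
  rw [mem_cent_iff_conj.1 (abelem_le_cent h.elem ha) _ h7] at h9
  refine h2 (h1 t ht t2 ?_)
  simpa [commutatorElement_def, mul_assoc] using (Zc_normal K).conj_mem ht.2 ⟨h8, h9⟩)

theorem split (ha : a ∈ A) : ∃ l ∈ T ⊓ K, l * l ∈ Zc K ∧ l⁻¹ * a ∈ 𝐂(K) := by
  obtain ⟨W, k, hF⟩ := h.sf K hK
  have hn := (Zc_normal K).norm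
  have h1 := h.le_norm hK ha
  have h2 := norm_le_norm_Zc K h1
  obtain ⟨k, hk, -, rfl⟩ := mem_quo.1 hF.k_mem
  have hk' : k ∈ 𝐍(T ⊓ K) := (coset_mem_quo_iff (hn hk) (le_norm_of_le (h.Zc_normal' hK).le)).1
    (quo_norm_eq (h.Zc_normal' hK) ▸ hF.k_norm)
  have h4 : coset (Zc K) a ∈ 𝐂(W) := hF.cent_of (V := (T ⊓ K ⊓ A) ⁒ Zc K) (fun w hw' => by
      obtain ⟨w, hw, e, rfl⟩ := mem_quo.1 hw'
      exact (hF.mem _).2 ⟨coset_mem_quo _ hw.1, by rw [← coset_mul e e, h.sq hw.2, coset_one]⟩)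
    (coset_mem_norm _ (h.scl.norm_inf inf_le_left ⟨hK.le hk, hk'⟩))
    (quo_cent_le _ _ (coset_mem_quo _ (cent_anti inf_le_right (abelem_le_cent h.elem ha))))
    fun w hw => by
      obtain ⟨t, ht, e, rfl⟩ := mem_quo.1 (hF.W_le hw)
      rw [← coset_commutator h2 e]
      refine coset_mem_quo _ ⟨(T ⊓ K).mul_mem (conj_mem_of_norm
        (mem_norm_inf (le_norm_self T (h.le ha)) h1) ht) ((T ⊓ K).inv_mem ht), ?_⟩
      simpa [commutatorElement_def, mul_assoc] using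
        A.mul_mem ha (conj_mem_of_norm (h.T_norm ht.1) (A.inv_mem ha))
  obtain ⟨w, hw, e⟩ := hF.inv_split (coset_mem_norm _ h1) h4
    (by rw [← coset_mul h2 h2, h.sq ha, coset_one])
  obtain ⟨l, hl, -, rfl⟩ := mem_quo.1 (hF.W_le hw)
  have h3 := mul_mem (inv_mem (hn hl.2)) h2
  refine ⟨l, hl, (coset_eq_one_iff (hn (K.mul_mem hl.2 hl.2))).1 ?_, CM_Zc_le hK.der_eq ⟨h3,
    (coset_mem_cent_iff h3 hn).1 (by rwa [coset_mul (inv_mem (hn hl.2)) h2, coset_inv])⟩⟩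
  rw [coset_mul (hn hl.2) (hn hl.2), hF.sqW hw]

theorem normA : K ⊓ 𝐍(T ⊓ K) ≤ 𝐍(A) := le_norm_iff.2 fun g hg a ha => by
  obtain ⟨l, hl, -, e⟩ := h.split hK ha
  refine h.scl a ha g (hK.le hg.1) ?_
  rw [show g * a * g⁻¹ = g * l * (l⁻¹ * a * g⁻¹) by group, ← mem_cent_iff.1 e _ (K.inv_mem hg.1),
    ← mul_assoc]
  exact T.mul_mem (conj_mem_of_norm hg.2 hl).1 (T.mul_mem (T.inv_mem hl.1) (h.le ha))

theorem exists_w (hm : ¬ A ≤ 𝐂(K)) : ∃ w ∈ A ⊓ K, w ∉ 𝐂(K) := by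
  obtain ⟨a, ha, h1⟩ := SetLike.not_le_iff_exists.1 hm
  obtain ⟨l, hl, l2, e⟩ := h.split hK ha
  obtain ⟨k, hk, h2, -⟩ := h.exists_k hK
  have h3 : ⁅k, a⁆ = ⁅k, l⁆ := by
    rw [commutatorElement_def, commutatorElement_def, mul_assoc, mul_assoc, ← mul_assoc a,
      R4.SF.conj_eq e (K.inv_mem hk.1)]
    group
  have h4 : ⁅k, l⁆ ∈ K := K.mul_mem (K.mul_mem (K.mul_mem hk.1 hl.2) (K.inv_mem hk.1)) (K.inv_mem hl.2)
  refine ⟨_, ⟨h3 ▸ A.mul_mem (conj_mem_of_norm (h.normA hK hk) ha) (A.inv_mem ha), h4⟩, fun e' => h1 ?_⟩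
  simpa using mul_mem (h2 l hl l2 ⟨h4, e'⟩).2 e

theorem perm (hm : ¬ A ≤ 𝐂(K)) (hx : x ∈ X) : ¬ A ≤ 𝐂(x •ᶜ K) := fun e => by
  have := Fact.mk Nat.prime_two
  obtain ⟨w, hw, h1⟩ := h.exists_w hK hm
  obtain ⟨y, hy, h2⟩ := (syl_inf_of_subnormal h.syl (hK.conj hx).1).exists_conj_le
    (zpowers_le.2 (conj_mem_conj hw.2)) (isPGroup_zpowers_iff.2 (piElt_two_of_sq (conj_sq (h.sq hw.1) x)))
  have h3 := e (h.scl w hw.1 (y * x) (X.mul_mem ((hK.conj hx).le hy) hx) (by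
    simpa [mul_assoc] using (h2 (conj_mem_conj (mem_zpowers _))).1))
  have h4 := conj_mem_of_norm' (norm_le_norm_cent _ (le_norm_self _ hy)) h3
  rw [cent_conj, mem_conj] at h4
  exact h1 (by simpa [mul_assoc] using h4)

theorem ncl_norm : ncl A X ≤ 𝐍(K) := (closure_le _).2 fun _ ⟨x, hx, a, ha, e⟩ => by
  have := h.le_norm (hK.conj (X.inv_mem hx)) ha
  rw [norm_conj, mem_conj, inv_inv] at this
  exact e ▸ this

theorem ncl_cent (hc : A ≤ 𝐂(K)) : ncl A X ≤ 𝐂(K) := (closure_le _).2 fun _ ⟨x, hx, a, ha, e⟩ => by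
  have := (by_contra fun e => h.perm (hK.conj (X.inv_mem hx)) e hx (by simpa using hc) :
    A ≤ 𝐂(x⁻¹ •ᶜ K)) ha
  rw [cent_conj, mem_conj, inv_inv] at this
  exact e ▸ this

theorem normO (hm : ¬ A ≤ 𝐂(K)) (hY : Y ≤ X) (ho : Odd ♯Y) (hn : A ≤ 𝐍(Y)) : Y ≤ 𝐍(K) := fun y hy => by
  obtain ⟨w, hw, w1⟩ := h.exists_w hK hm
  have w2 := h.sq hw.1
  by_contra e
  have h0 := (hK.conj (hY hy)).cent hK (conj_eq_self_iff.not.2 e) (conj_mem_conj hw.2)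
  have h1 := mem_cent_iff.1 h0 w hw.2
  have h2 : w * (y * w * y⁻¹) = 1 := eq_one_of_odd_of_sq (odd_of_mem ho (by
    have := mul_mem (conj_mem_of_norm (hn hw.1) hy) (inv_mem hy)
    rwa [inv_eq w2, mul_assoc, mul_assoc, ← mul_assoc y] at this)) (by
      rw [(show Commute _ _ from h1.symm).mul_mul_mul_comm, w2, conj_sq w2, one_mul])
  exact w1 (eq_inv_of_mul_eq_one_left h2 ▸ inv_mem h0)

end

theorem mem_Op (hg : g ∈ ncl A X) (h2 : ∀ K, Cmp X K → ¬ A ≤ 𝐂(K) → g ∈ 𝐂(K)) : g ∈ Op 2 X := by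
  have := Fact.mk Nat.prime_two
  have hQ := Op_normal 2 X
  have hB : A ⊓ Op 2 X ⊴ X := ⟨inf_le_left.trans h.leX, le_norm_iff.2 fun x hx a ha =>
    ⟨h.scl a ha.1 x hx (h.Op_le (hQ.conj_mem hx ha.2)), hQ.conj_mem hx ha.2⟩⟩
  have h3 : X ≤ 𝐍(𝐂(A ⊓ Op 2 X) ⊓ CM (A ⊓ Op 2 X) (Op 2 X)) :=
    le_norm_inf (le_norm_cent hB.norm) (le_norm_CM hB.norm hQ.norm)
  have h4 := ncl_le (le_inf (le_cent_mono (abelem_le_cent h.elem) le_rfl inf_le_left) (le_CM.2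
    ⟨h.leX.trans hB.norm, commutator_le_inf' (h.Op_le.trans h.T_norm) (h.leX.trans hQ.norm)⟩)) h3 hg
  refine le_Op (normalIn_inf_of_norm (le_norm_inf (le_norm_cent (lay_normal X).norm) h3))
    (Transfer.isPGroup_of_forall_coprime_eq_one fun y hy hc => ?_) ⟨ncl_le h.leX (le_norm_self X) hg,
      le_cent_symm (sSup_le fun K hK => le_cent_symm (zpowers_le.2 ?_)) (mem_zpowers g), h4⟩
  · have h5 : (♯(Op 2 X)).Coprime ♯(zpowers y) :=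
      (coprime_card_of_isPGroup (by rwa [Nat.card_zpowers]) (Op_isPGroup 2 X)).symm
    exact mem_bot.1 ((inf_eq_bot_of_coprime_card h5).le ⟨mem_Op_of h.O_eq hy.1 (stable_factor_cent
      (zpowers_le.2 hy.2.2.1) (hB.mono inf_le_right hQ.le)
      (commutator_comm _ (Op 2 X) ▸ (le_CM.1 (zpowers_le.2 hy.2.2.2)).2) h5 (mem_zpowers y))
      fun K hK => cent_anti (le_sSup hK) hy.2.1, mem_zpowers y⟩)
  · by_cases e : A ≤ 𝐂(K)
    exacts [h.ncl_cent hK e hg, h2 K hK e]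

theorem le_O (ha : a ∈ A) (hY : Y ≤ O (X ⊓ 𝐂[a])) (h2 : ∀ K, Cmp X K → ¬ A ≤ 𝐂(K) → Y ≤ 𝐂(K)) :
    Y = ⊥ := by
  have := Fact.mk Nat.prime_two
  have hQ := Op_normal 2 X
  have hO : O (X ⊓ 𝐂[a]) ⊴ X ⊓ 𝐂[a] := Opi_normal _ _
  have h1 := cop (odd_O (X ⊓ 𝐂[a])) (Op_isPGroup 2 X)
  have h3 : O (X ⊓ 𝐂[a]) ≤ 𝐂(Op 2 X) := thompson_AxB (P := zpowers a)
    (isPGroup_zpowers_iff.2 (piElt_two_of_sq (h.sq ha))) (Nat.coprime_two_right.2 (odd_O _))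
    (le_cent_symm (cent_zpowers a ▸ hO.le.trans inf_le_right)) (Op_isPGroup 2 X)
    (zpowers_le.2 (hQ.norm (h.leX ha))) (hO.le.trans (inf_le_left.trans hQ.norm)) (by
      rw [cent_zpowers]
      exact le_cent_of_coprime ((inf_le_inf_right _ hQ.le).trans hO.norm) (hO.le.trans
        (le_norm_inf (inf_le_left.trans hQ.norm) (inf_le_right.trans (le_norm_self _))))
        (coprime_card_mono h1.symm inf_le_left le_rfl))
  refine eq_bot_iff.2 fun y hy => (inf_eq_bot_of_coprime_card h1).le ⟨hY hy,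
    mem_Op_of h.O_eq (hO.le (hY hy)).1 (h3 (hY hy)) fun K hK => ?_⟩
  by_cases e : A ≤ 𝐂(K)
  · have h4 : K ≤ X ⊓ 𝐂[a] := le_inf hK.le (le_cent1_iff.2 (e ha))
    exact le_cent_symm (cmp_cent_sol ⟨hK.1.of_le h4 inf_le_left, hK.2⟩ hO (sol_of_odd (odd_O _))) (hY hy)
  · exact h2 K hK e hy

end B2

end Cfsg.Agent.I2.Kf
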