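import Cfsg.Agent.Lib.I2.KF2b

/-!
# The action of a strongly closed subgroup on a component of `H / O(H)`
-/

set_option autoImplicit false
set_option linter.unusedSectionVars false

namespace Cfsg.Agent.I2.Kf

open Subgroup Cfsg.Agent.OO Cfsg.Agent.Coprime Cfsg.Agent.SZ Cfsg.Agent.GW Cfsg.Agent.W4
open Cfsg.Agent.Wal hiding SF
open Cfsg.Agent.R4 (SCl SzF piElt_two_of_sq smp_quo mem_norm_preZ preZ_normal coset_cent_iff)
open scoped commutatorElement Pointwise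

universe u

variable {G : Type u} [Group G] [Finite G] {A H L N T W Y : Subgroup G} {a g k w x : G}

/-- the hypotheses of `KF2` -/
structure K2H (A H T : Subgroup G) : Prop where
  kf1 : KF1.{u}
  cov : Cov G
  ky : KY.{u} (♯H + 1)
  syl : Syl 2 T H
  le : A ≤ T
  elem : IsElementaryAbelian 2 A
  scl : SCl H T A

/-- the complement `W` of the centralizer of the component `K` in `A` -/
structure Pre (A H T : Subgroup G) (K : Subgroup (Coset (O H))) (W : Subgroup G) (k : G) : Prop where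
  kk : KK (quoPre (O H) K ⁒ quoPre (O H) (Zc K)) ((T ⊓ quoPre (O H) K) ⁒ quoPre (O H) (Zc K))
    (W ⁒ quoPre (O H) (Zc K)) (coset (quoPre (O H) (Zc K)) k)
  wle : W ≤ A ⊓ quoPre (O H) K
  inf : quoPre (O H) (Zc K) ⊓ W = ⊥
  sup : A ≤ W ⊔ A ⊓ quoPre (O H) 𝐂(K)
  kmem : k ∈ quoPre (O H) K
  kW : k ∈ 𝐍(W)

namespace K2H

variable (h : K2H A H T)
include h

theorem leH : A ≤ H := h.le.trans h.syl.le

theorem leN : A ≤ 𝐍(O H) := h.leH.trans (O_norm H)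

theorem sq (ha : a ∈ A) : a * a = 1 := by rw [← pow_two, h.elem.2 a ha]

theorem two : IsPGroup 2 A := h.syl.isPGroup.to_le h.le

theorem b2 : B2 (H ⁒ O H) (T ⁒ O H) (A ⁒ O H) :=
  ⟨O_quo H, h.syl.quo (O_norm H), quo_mono _ h.le, abelem_quo h.elem _,
    h.scl.quo h.syl h.le (Opi_normal _ H), fun _ hK =>
      (cmp_kk h.kf1 (h.cov.coset (odd_O H)) (h.ky.mono (Nat.succ_le_succ (card_quo_le _ _)))
        (O_quo H) hK (syl_inf_of_subnormal (h.syl.quo (O_norm H)) hK.1)).imp fun _ e => e.imp fun _ e => e.sf⟩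

variable {K : Subgroup (Coset (O H))} (hK : Cmp (H ⁒ O H) K)
include hK

omit h in
theorem pre_le : quoPre (O H) K ≤ H := quoPre_le_of_le (Opi_normal _ H) hK.le

theorem syl_pre : Syl 2 (T ⊓ quoPre (O H) K) (quoPre (O H) K) := by
  have := Fact.mk Nat.prime_two
  refine (hall_of_quo_of_compl (normalIn_quoPre K) (Op'_piGrp 2 H) inf_le_right
    (h.syl.piGrp.of_le inf_le_left) ?_).syl
  rw [inf_quoPre_quo, quo_quoPre]
  exact (syl_inf_of_subnormal h.b2.syl hK.1).hall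

theorem norm_pre : A ≤ 𝐍(O H) ⊓ 𝐍(quoPre (O H) K) :=
  le_inf h.leN (le_norm_quoPre h.leN (h.b2.le_norm hK))

omit hK in
theorem mem_W {Z : Subgroup G} {V : Subgroup (Coset Z)} {k : Coset Z}
    (hF : SF (quoPre (O H) K ⁒ Z) ((T ⊓ quoPre (O H) K) ⁒ Z) V k) (hZ : Z ⊴ quoPre (O H) K)
    (ha : a ∈ A ⊓ quoPre (O H) K) : coset Z a ∈ V :=
  (hF.mem _).2 ⟨coset_mem_quo _ ⟨h.le ha.1, ha.2⟩, by
    rw [← coset_mul (hZ.norm ha.2) (hZ.norm ha.2), h.sq ha.1, coset_one]⟩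

theorem split {V : Subgroup (Coset (quoPre (O H) (Zc K)))} {k : Coset (quoPre (O H) (Zc K))}
    (hF : SF (quoPre (O H) K ⁒ _) ((T ⊓ quoPre (O H) K) ⁒ _) V k) (ha : a ∈ A) :
    ∃ w ∈ V, w⁻¹ * coset _ a ∈ 𝐂(quoPre (O H) K ⁒ quoPre (O H) (Zc K)) := by
  have h1 := h.norm_pre hK ha
  have hZ := preZ_normal K
  have hN := quoPre_le_norm K
  obtain ⟨l, hl', l2, e⟩ := h.b2.split hK (coset_mem_quo _ ha)
  rw [← inf_quoPre_quo] at hl'
  obtain ⟨l, hl, -, rfl⟩ := mem_quo.1 hl'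
  have h2 := hZ.norm hl.2
  refine ⟨coset _ l, (hF.mem _).2 ⟨coset_mem_quo _ hl, ?_⟩, ?_⟩
  · rw [← coset_mul h2 h2]
    exact coset_eq_one (mem_quoPre.2 ⟨mul_mem (hN hl.2) (hN hl.2), by
      rwa [coset_mul (hN hl.2) (hN hl.2)]⟩)
  · rw [← coset_inv, ← coset_mul (inv_mem h2) (mem_norm_preZ h1), coset_cent_iff hK.der_eq
      (mul_mem (inv_mem ⟨hN hl.2, le_normalizer hl.2⟩) h1), coset_mul (inv_mem (hN hl.2)) h1.1,
      coset_inv]
    exact e

theorem lift_norm (h0 : g ∈ quoPre (O H) K) (e : coset (quoPre (O H) (Zc K)) g ∈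
    𝐍((T ⊓ quoPre (O H) K) ⁒ quoPre (O H) (Zc K))) :
    ∃ x ∈ H ⊓ 𝐍(A), coset (O H) x = coset (O H) g := by
  have hb := h.b2
  have hZ := preZ_normal K
  have hN := quoPre_le_norm K
  have h1 : coset (O H) g ∈ 𝐍(T ⁒ O H ⊓ K) := by
    have := coset_mem_norm (O H) (zpowers_le.1 (le_norm_sup_of_quo (zpowers_le.2 (hZ.norm h0))
      (inf_le_right.trans hZ.norm) (by rw [quo_zpowers (hZ.norm h0), zpowers_le]; exact e)))
    rwa [quo_sup (inf_le_right.trans hN) (quoPre_le_norm _), inf_quoPre_quo, quo_quoPre,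
      sup_eq_left.2 (hb.Zc_normal' hK).le] at this
  exact exists_norm_lift (O_norm H) (odd_O H) h.leH h.two (pre_le hK h0)
    (hb.normA hK ⟨(mem_quoPre.1 h0).2, h1⟩)

theorem cov_pre : Cov (quoPre (O H) K ⁒ quoPre (O H) (Zc K)) := by
  obtain ⟨e⟩ := nonempty_quo_quo_equiv (le_quoPre (Zc K)) (quoPre_le_norm K) (preZ_normal K).norm
  rw [quo_quoPre, quo_quoPre] at e
  exact (cmp_cov (h.cov.coset (odd_O H)) (O_quo H) hK).congr e

theorem exists_pre (hm : ¬ A ⁒ O H ≤ 𝐂(K)) : ∃ W k, Pre A H T K W k := by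
  have hb := h.b2
  have hZ := preZ_normal K
  have hN := quoPre_le_norm K
  have hO : O H ≤ quoPre (O H) (Zc K) := le_quoPre _
  obtain ⟨V, k, hk⟩ := exists_kk h.kf1 (h.cov_pre hK) h.ky
    (Nat.lt_succ_of_le ((card_quo_le _ _).trans (card_le (pre_le hK))))
    (smp_quo hZ fun M hM e => (Core.le_centralizer_or_eq_of_isQuasisimple hK.2
      (quo_quoPre K ▸ (hM.quo (O H)).le) (quo_quoPre K ▸ (hM.quo (O H)).norm)).imp
        (fun e' => (quo_le_iff_le_quoPre (hM.le.trans hN)).1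
          (le_inf (quo_quoPre K ▸ (hM.quo (O H)).le) e'))
        fun e' => (quo_le_quo_iff hN (hO.trans e)).1 (by rw [e', quo_quoPre]))
    (fun e => hK.not_ab (ab_of_le (Zc_ab K) (by
      have := quo_mono (O H) ((ab_quo_iff hZ.norm).1 e)
      rwa [quo_der hN, quo_quoPre, quo_quoPre, hK.der_eq] at this)))
    ((h.syl_pre hK).quo hZ.norm)
  have hF := hk.sf
  obtain ⟨k0, h0, -, rfl⟩ := mem_quo.1 hF.k_mem
  obtain ⟨k1, h2, e1⟩ := h.lift_norm hK h0 hF.k_norm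
  have h3 : k1 ∈ quoPre (O H) K := mem_quoPre.2 ⟨O_norm H h2.1, e1 ▸ (mem_quoPre.1 h0).2⟩
  obtain ⟨k, ⟨h4, h5⟩, -, h6, e2⟩ := exists_piElt_coset_eq (H := quoPre (O H) K ⊓ 𝐍(A))
    (((coset_eq_iff (hZ.norm h3) (hZ.norm h0)).2 (hO ((coset_eq_iff (hN h3) (hN h0)).1 e1))) ▸
      coset_mem_quo _ ⟨h3, h2.2⟩) ((isPiNum_compl_singleton Nat.prime_two).2 hF.odd.not_two_dvd_nat)
  rw [← e2] at hk hF
  have hco : (♯A).Coprime ♯(zpowers k) := (piGrp_singleton h.two).coprime (piGrp_zpowers.2 h6)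
  have hC : A ⊓ 𝐂(zpowers k) = A ⊓ quoPre (O H) 𝐂(K) := by
    refine le_antisymm (fun a ha => ⟨ha.1, mem_quoPre.2 ⟨h.leN ha.1, ?g1⟩⟩) fun a ha => mem_inf.2 ⟨ha.1, ?g2⟩
    case g1 =>
      obtain ⟨w, hw, e⟩ := h.split hK hF ha.1
      have h7 := mem_norm_preZ (h.norm_pre hK ha.1)
      have h8 := mem_cent_iff.1 e _ hF.k_mem
      rw [mul_assoc, ← coset_mul h7 (hZ.norm h4), ← mem_cent_iff.1 ha.2 k (mem_zpowers k),
        coset_mul (hZ.norm h4) h7, ← mul_assoc, ← mul_assoc, mul_left_inj] at h8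
      rw [hF.fpf (inv_mem hw) h8, one_mul] at e
      exact (coset_cent_iff hK.der_eq (h.norm_pre hK ha.1)).1 e
    case g2 =>
      rw [cent_zpowers, mem_cent1, ← commutatorElement_eq_one_iff_mul_comm]
      refine mem_bot.1 ((inf_eq_bot_odd h.two (odd_O H)).le ⟨?_, ?_⟩)
      · simpa [commutatorElement_def, mul_assoc] using
          A.mul_mem ha.1 (conj_mem_of_norm h5 (A.inv_mem ha.1))
      · exact (mem_quoPre_cent hN).1 (by rw [quo_quoPre]; exact ha.2) |>.2 k h4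
  have hW : ⁅A, zpowers k⁆ ≤ A ⊓ quoPre (O H) K := le_inf (commutator_le_left' (zpowers_le.2 h5))
    (commutator_le_of_norm ((h.norm_pre hK).trans inf_le_right) (zpowers_le.2 h4))
  have h7 : quoPre (O H) (Zc K) ⊓ ⁅A, zpowers k⁆ = ⊥ := eq_bot_iff.2 fun w hw =>
    (coprime_abel_cent_TI (zpowers_le.2 h5) hco h.elem.1).le
      ⟨hw.2, (hC.ge ⟨(hW hw.2).1, quoPre_mono (Zc_le_cent K) hw.1⟩).2⟩
  have h8 := coprime_cent_prod (zpowers_le.2 h5) hco (.inl (sol_of_ab h.elem.1))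
  have h9 := zpowers_le.1 (le_norm_commutator_right A (zpowers k))
  refine ⟨_, k, ?_, hW, h7, hC ▸ h8.ge, h4, h9⟩
  rwa [hF.eq_W (V := ⁅A, zpowers k⁆ ⁒ _) (fun w hw' => by
    obtain ⟨w, hw, -, rfl⟩ := mem_quo.1 hw'
    exact h.mem_W hF hZ (hW hw)) (quo_ne_bot ((hW.trans inf_le_right).trans hZ.norm) fun e => hm ?_)
    (coset_mem_norm _ h9)]
  rw [inf_eq_right.2 e] at h7
  rw [h7, hC, bot_sup_eq] at h8
  exact (quo_le_iff_le_quoPre h.leN).2 (h8.ge.trans inf_le_right)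

end K2H

end Cfsg.Agent.I2.Kf
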