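import Cfsg.Agent.Lib.I2.KF2
import Cfsg.Agent.Lib.I2.DE0

/-!
# The action of a proper subgroup on the conjugates of an embedded subgroup
-/

set_option autoImplicit false

namespace Cfsg.Agent.I2

open Subgroup Cfsg.Agent.OO Cfsg.Agent.Coprime Cfsg.Agent.SZ Cfsg.Agent.GW Cfsg.Agent.W4
open Cfsg.Agent.R4 (DB InD kf3_third piElt_two elem_sq preZ_normal)
open scoped commutatorElement Pointwise

universe u

variable {G : Type u} [Group G] [Finite G] {X B E H M N S L T W : Subgroup G} {e g k : G} {n : ℕ}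

namespace Kf

theorem K2H.exists_cmp (h : K2H E H S) (n1 : N ⊴ H) (n2 : N ≤ M)
    (n3 : ∀ X, X ⊴ H → X ≤ M → X ≤ N) (n4 : N ⊓ E = ⊥) (hO : O H ≤ M) (h0 : E ≠ ⊥)
    (hF : Fit (H ⁒ N) = ⊥) : ∃ L, Wal.Cmp (H ⁒ N) L ∧ ¬ L ≤ (H ⊓ M) ⁒ N ∧ Cov L := by
  have := Fact.mk Nat.prime_two
  have hb := h.b2
  have o1 : O H ⊴ H := Opi_normal _ H
  have o2 : O H ⊴ H ⊓ M := o1.mono (le_inf o1.le hO) inf_le_left
  have r1 := quoPre_normal o1 (Op_normal 2 (H ⁒ O H))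
  have r2 : quoPre (O H) (Op 2 (H ⁒ O H)) ≤ N := (quo_eq_bot_iff (r1.le.trans n1.norm)).1
    (by_contra fun e => Fit_inf_ne_bot (r1.quo N) (sol_quo (sol_quoPre (sol_of_odd (odd_O H))
      (sol_of_isPGroup (Op_isPGroup 2 _))) N) e (by rw [hF, bot_inf_eq]))
  obtain ⟨K, hK, hM⟩ : ∃ K, Wal.Cmp (H ⁒ O H) K ∧ ¬ K ≤ (H ⊓ M) ⁒ O H := by
    by_contra! hc
    have k1 := n3 _ (quoPre_normal o1 (Wal.lay_normal _))
      ((quoPre_le_of_le o2 (sSup_le hc)).trans inf_le_right)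
    refine h0 (eq_bot_iff.2 fun a ha => n4.le ⟨r2 (mem_quoPre.2 ⟨h.leN ha, hb.mem_Op
      (le_ncl _ _ (coset_mem_quo _ ha)) fun K hK e => ?_⟩), ha⟩)
    obtain ⟨w, hw, w1⟩ := hb.exists_w hK e
    obtain ⟨b, hb', b1, rfl⟩ := mem_quo.1 hw.1
    rw [mem_bot.1 (n4.le ⟨k1 (mem_quoPre.2 ⟨b1, le_sSup (s := {K | Wal.Cmp _ K}) hK hw.2⟩), hb'⟩),
      coset_one] at w1
    exact absurd (one_mem _) w1
  have k1 := K2H.pre_le hK
  have hZ := preZ_normal K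
  have k2 := (n1.inf_right k1).quo (O H)
  rw [quo_quoPre] at k2
  have k3 : ¬ quoPre (O H) K ≤ M := fun e =>
    hM ((quoPre_le_iff o2).1 (le_inf k1 e))
  have k4 : N ⊓ quoPre (O H) K = quoPre (O H) (Zc K) ⊓ quoPre (O H) K := le_antisymm
    (le_inf ((quo_le_iff_le_quoPre (inf_le_right.trans (quoPre_le_norm K))).1 (le_inf k2.le
      ((Core.le_centralizer_or_eq_of_isQuasisimple hK.2 k2.le k2.norm).resolve_right fun e =>
        hM (e.ge.trans (quo_mono _ (le_inf (inf_le_right.trans k1) (inf_le_left.trans n2)))))))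
      inf_le_right)
    (inf_le_inf_right _ ((quoPre_mono (R4.cmp_Zc_le hb.O_eq hK)).trans r2))
  obtain ⟨e1⟩ := nonempty_quo_quo_equiv (le_quoPre (Zc K)) (quoPre_le_norm K) hZ.norm
  rw [quo_quoPre, quo_quoPre] at e1
  obtain ⟨e2⟩ := nonempty_quo_equiv (k1.trans n1.norm) hZ.norm k4
  have k5 : ¬ quoPre (O H) K ⁒ N ≤ (H ⊓ M) ⁒ N := fun e => k3
    (((quo_le_quo_iff (k1.trans n1.norm) (le_inf n1.le n2)).1 e).trans inf_le_right)
  have := (nontrivial_iff_ne_bot _).2 fun e : quoPre (O H) K ⁒ N = ⊥ => k5 (e.le.trans bot_le)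
  refine ⟨quoPre (O H) K ⁒ N, ⟨?_, Core.isQuasisimple_of_surjective hK.2
    (f := (e1.trans e2.symm).toMonoidHom.comp (quoOnto (Zc_normal K).norm))
    ((e1.trans e2.symm).surjective.comp (quoOnto_surjective _))⟩, k5, (h.cov_pre hK).congr e2.symm⟩
  have k6 : Core.SubnormalIn (quoPre (O H) K) (quoPre (O H) (H ⁒ O H)) := (hK.1.comap _).map _
  rw [quoPre_quo o1] at k6
  exact (k6.subgroupOf _).map _

theorem eq_of_sf (h : DB X B E S) (hL : Wal.Cmp X L) (hB : ¬ L ≤ B) (f : SF L (S ⊓ L) W k) : W = E ∧ L ⊴ X := by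
  have hE := h.le.trans h.syl.le
  have nc : ∀ e ∈ E, e ∈ 𝐂(L) → e = 1 := fun e he hc => by_contra fun e1 =>
    hB ((le_inf hL.le (le_cent1_iff.2 hc)).trans (h.cent he e1))
  have ws : ∀ w ∈ W, w ∈ S ⊓ L := fun w hw => ((f.mem w).1 hw).1
  have kk : ∀ j : ℕ, k ^ j ∈ L := fun j => pow_mem f.k_mem j
  have key : ∀ w ∈ W, w ≠ 1 → ∀ c ∈ S ⊓ 𝐂(L), w * c ∈ E → W ≤ E ∧ c = 1 := fun w hw w1 c hc e => by
    obtain ⟨v, hv, v1, v2⟩ := kf3_third (show 2 < ♯W by have := f.four; omega) w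
    obtain ⟨j, rfl⟩ := f.cyc w hw v hv w1 v1
    have h1 := h.scl _ e _ (hL.le (kk j))
    rw [show k ^ j * (w * c) * (k ^ j)⁻¹ = k ^ j * w * (k ^ j)⁻¹ * (k ^ j * c * (k ^ j)⁻¹) by group,
      mem_cent_iff.1 hc.2 _ (kk j), mul_inv_cancel_right] at h1
    have h2 := mul_mem (h1 (mul_mem (ws _ hv).1 hc.1)) (inv_mem e)
    rw [mul_inv_rev, mul_assoc, mul_inv_cancel_left] at h2
    have h3 : W ≤ E := fun u hu => by
      by_cases u1 : u = 1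
      · exact u1 ▸ one_mem _
      obtain ⟨i, rfl⟩ := f.cyc _ (mul_mem hv (inv_mem hw)) u hu (mul_inv_eq_one.not.2 v2) u1
      exact h.scl _ h2 _ (hL.le (kk i)) (ws _ hu).1
    exact ⟨h3, nc c ((mul_mem_cancel_left (h3 hw)).1 e) hc.2⟩
  obtain ⟨w, hw, w1, -⟩ := kf3_third (show 2 < ♯W by have := f.four; omega) 1
  have k1 : ∀ a ∈ E, a ≠ 1 → W ≤ E ∧ a ∈ W := fun a ha a1 => by
    have h1 : a ∈ 𝐍(L) := by_contra fun e => w1 (by
      simpa using (key w hw w1 (a * w⁻¹ * a⁻¹) ⟨S.mul_mem (S.mul_mem (h.le ha) (S.inv_mem (ws w hw).1))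
        (S.inv_mem (h.le ha)), (hL.conj (hE ha)).cent hL (mt conj_eq_self_iff.1 e)
          (conj_mem_conj (inv_mem (ws w hw).2))⟩ (by
        rw [← mul_assoc, ← mul_assoc]
        exact mul_mem (conj_mem_of_norm (h.norm (ws w hw).1) ha) (inv_mem ha))).2)
    obtain ⟨l, h5, hc⟩ := f.inv_split h1 (f.cent_of (V := S ⊓ L ⊓ E)
      (fun v hv => (f.mem v).2 ⟨hv.1, elem_sq h.elem hv.2⟩)
      (h.scl.norm_inf inf_le_left ⟨hL.le f.k_mem, f.k_norm⟩)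
      (cent_anti inf_le_right (abelem_le_cent h.elem ha)) fun v hv => ⟨(S ⊓ L).mul_mem
        (conj_mem_of_norm (mem_norm_inf (le_norm_self S (h.le ha)) h1) (ws v hv))
        ((S ⊓ L).inv_mem (ws v hv)), by
          simpa [commutatorElement_def, mul_assoc] using
            E.mul_mem ha (conj_mem_of_norm (h.norm (ws v hv).1) (E.inv_mem ha))⟩) (elem_sq h.elem ha)
    have h4 := ws l h5
    obtain ⟨h6, h7⟩ := key l h5 (fun e => a1 (nc a ha (by simpa [e] using hc))) _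
      ⟨S.mul_mem (S.inv_mem h4.1) (h.le ha), hc⟩ (by simpa using ha)
    exact ⟨h6, inv_mul_eq_one.1 h7 ▸ h5⟩
  obtain ⟨e, he, e1⟩ := h.exists_ne
  have k2 := (ws e (k1 e he e1).2).2
  refine ⟨le_antisymm (k1 e he e1).1 fun a ha => (em (a = 1)).elim (fun e => e ▸ one_mem _)
    fun a1 => (k1 a ha a1).2, hL.le, fun g hg => by_contra fun hn => ?_⟩
  have k3 := (le_inf (hL.conj hg).le (((hL.conj hg).cent hL (mt conj_eq_self_iff.1 hn)).trans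
    (cent_le_cent1 k2))).trans (h.cent he e1)
  exact hB (conj_le_conj_iff.1 (k3.trans (conj_eq_of_mem
    (h.mem e he e1 g hg (k3 (conj_mem_conj k2)))).ge))

theorem db_main (h : DB X B E S) (kf1 : KF1.{u}) (ky : KY.{u} (♯X + 1)) (hL : Wal.Cmp X L)
    (hB : ¬ L ≤ B) (hc : Cov L) :
    ∃ k n, ZF L (S ⊓ L) E k n ∧ L ⊴ X ∧ X ⊓ 𝐂(L) = ⊥ ∧ X ⊓ B = X ⊓ 𝐍(S ⊓ L) := by
  obtain ⟨e, he, e1⟩ := h.exists_ne
  have smp : Smp L := fun N hN => (Core.le_centralizer_or_eq_of_isQuasisimple hL.2 hN.1 hN.2).imp_left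
    fun e => eq_bot_iff.2 (h.fit ▸ ((Core.subnormalIn_of_le_normalizer hN.1 hN.2).trans
      hL.1).le_fittingOf (nil_of_ab (ab_of_le_Zc (le_inf hN.1 e))))
  have hT := Wal.syl_inf_of_subnormal h.syl hL.1
  obtain ⟨W, k, f, hf⟩ := exists_kk kf1 hc ky (Nat.lt_succ_of_le (card_le hL.le)) smp hL.not_ab hT
  obtain ⟨rfl, hN⟩ := eq_of_sf h hL hB f
  have e2 := ((f.mem e).1 he).1
  have k1 : X ⊓ 𝐍(S ⊓ L) ≤ B := fun g hg => h.mem e he e1 g hg.1 (h.EB (conj_mem_of_norm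
    (f.mem_norm_W hg.2) he))
  have k2 : S ⊓ L ≤ B ⊓ L := le_inf ((le_inf (hT.le.trans hL.le) le_normalizer).trans k1) inf_le_right
  rcases hf with ⟨n, f⟩ | ⟨e, -, f⟩
  swap
  · exact absurd (f B ((inf_le_inf_right _ hL.le).trans k1) fun w hw w1 =>
      (inf_le_inf_right _ hL.le).trans (h.cent (e.le hw) w1)) hB
  refine ⟨k, n, f, hN, h.core _ hN.cent ((inf_le_inf_left _ (cent_le_cent1 e2.2)).trans
    (h.cent he e1)), le_antisymm (le_inf inf_le_left ?_) (le_inf inf_le_left k1)⟩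
  exact (le_norm_inf (inf_le_right.trans le_normalizer) (inf_le_left.trans hN.2)).trans
    ((hT.mono k2 inf_le_right).norm_le_norm_of_normal ((f.max _ k2 inf_le_right).resolve_right
      fun e => hB (e.ge.trans inf_le_left)))

theorem kf3_of (kf1 : KF1.{u}) : KF3.{u} := fun G _ _ A M H V h hH hV he h4 hD hM => by
  set N := sSup {X : Subgroup G | X ⊴ H ∧ X ≤ M} with hNd
  have n1 : N ⊴ H := ⟨sSup_le fun X hX => hX.1.1, le_norm_sSup fun g hg X hX => by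
    rwa [hX.1.conj_eq hg]⟩
  have n2 : N ≤ M := sSup_le fun X hX => hX.2
  have n3 : ∀ X, X ⊴ H → X ≤ M → X ≤ N := fun X h1 h2 => le_sSup ⟨h1, h2⟩
  have n4 : ∀ t ∈ N, InD A t → t = 1 := fun t ht hd => by_contra fun t1 =>
    hM fun g hg => h.mem (n2 ht) hd t1 (n2 (n1.conj_mem hg ht))
  obtain ⟨S, hS, s1⟩ := exists_syl_ge (hV.trans inf_le_left) (abelem_isPGroup he)
  obtain ⟨c, -, S', hS', s2, s3⟩ := h.toSC.exists_conj le_top le_top hS.isPGroup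
  set E := S ⊓ c⁻¹ •ᶜ A with hE
  have me : ∀ t, t ∈ E ↔ t ∈ S ∧ InD A t := fun t => and_congr_right fun ht =>
    ⟨fun e => ⟨c, by simpa using mem_conj.1 e⟩, fun e => mem_conj.2 (by
      simpa using h.toSC.mem_of_two hS'.isPGroup s2 (s3 (conj_mem_conj ht)) (e.conj c))⟩
  have el : IsElementaryAbelian 2 E :=
    PGrp.isElementaryAbelian_of_le (PGrp.isElementaryAbelian_map h.elem _) inf_le_right
  have hVE : V ≤ E := fun v hv => (me v).2 ⟨s1 hv, hD v hv⟩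
  obtain ⟨v, hv, v1, -⟩ := kf3_third (show 2 < ♯V by omega) 1
  have hEM : E ≤ H ⊓ M := le_inf (inf_le_left.trans hS.le) (((Ab.le_cent el.1).trans
    (cent_le_cent1 (hVE hv))).trans (h.cent_le (hV hv).2 (hD v hv) v1))
  have hSN := hS.le.trans n1.2
  have hEN := inf_le_left.trans hSN (a := E)
  have mm : ∀ g ∈ H, coset N g ∈ (H ⊓ M) ⁒ N ↔ g ∈ M := fun g hg =>
    (coset_mem_quo_iff (n1.2 hg) (le_inf n1.1 n2)).trans (and_iff_right hg)
  have db : DB (H ⁒ N) ((H ⊓ M) ⁒ N) (E ⁒ N) (S ⁒ N) := by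
    refine ⟨hS.quo n1.2, quo_mono N inf_le_left, abelem_quo el N, ?_, fun z hz w hw e => ?_,
      fun e => hM fun g hg => (mm g hg).1 (e (coset_mem_quo N hg)), fun Y y1 y2 => ?_,
      quo_mono N hEM, fun z hz z1 w hw e => ?_⟩
    · rw [card_quo_of_inf_eq_bot hEN (eq_bot_iff.2 fun t ht => n4 t ht.1 ((me t).1 ht.2).2)]
      exact lt_of_lt_of_le (by omega) (card_le hVE)
    · obtain ⟨a, ha, rfl⟩ := (mem_quo_of_le hEN).1 hz
      obtain ⟨g, hg, rfl⟩ := (mem_quo_of_le n1.2).1 hw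
      have k0 := ((me a).1 ha).2.conj g
      rw [← coset_conj (n1.2 hg) (hEN ha)] at e ⊢
      have k1 : g * a * g⁻¹ ∈ S ⊔ N := quoPre_quo_eq_sup hSN ▸ mem_quoPre.2
        ⟨n1.2 (H.mul_mem (H.mul_mem hg (hEM ha).1) (H.inv_mem hg)), e⟩
      obtain ⟨y, hy, k2⟩ := (hS.mono le_sup_left (sup_le hS.le n1.1)).exists_conj_le (zpowers_le.2 k1)
        (isPGroup_zpowers_iff.2 (piElt_two (h.toSC.sqD k0)))
      have k3 := coset_mem_quo N ((me _).2 ⟨k2 (conj_mem_conj (mem_zpowers _)), k0.conj y⟩)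
      have k4 := sup_le hSN le_normalizer
      rw [coset_conj (k4 hy) (k4 k1)] at k3
      refine (mem_norm_iff.1 (quo_le_norm N (A := S) (le_norm_iff.2 fun s hs t ht => (me _).2
        ⟨S.mul_mem (S.mul_mem hs ht.1) (S.inv_mem hs), ((me t).1 ht).2.conj s⟩) ?_) _).2 k3
      exact quo_sup_self hSN ▸ coset_mem_quo N hy
    · exact quoPre_eq_iff.1 (le_antisymm (n3 _ (quoPre_normal n1 y1) ((quoPre_le_of_le
        (n1.mono (le_inf n1.1 n2) inf_le_left) y2).trans inf_le_right)) (le_quoPre Y))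
    · obtain ⟨a, ha, rfl⟩ := (mem_quo_of_le hEN).1 hz
      obtain ⟨g, hg, rfl⟩ := (mem_quo_of_le n1.2).1 hw
      rw [← coset_conj (n1.2 hg) (hEN ha),
        mm _ (H.mul_mem (H.mul_mem hg (hEM ha).1) (H.inv_mem hg))] at e
      exact (mm g hg).2 (h.mem (hEM ha).2 ((me a).1 ha).2 (fun e => z1 (by simp [e])) e)
  have ky : KY.{u} (♯H + 1) :=
    h.ky.mono (Nat.succ_le_of_lt (Subgroup.card_top (G := G) ▸ card_lt hH.lt_top))
  have h2 : K2H E H S := ⟨kf1, h.cov, ky, hS, inf_le_left, el,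
    fun a ha g _ e => (me _).2 ⟨e, ((me a).1 ha).2.conj g⟩⟩
  obtain ⟨L, l4, l5, l6⟩ := h2.exists_cmp n1 n2 n3
    (eq_bot_iff.2 fun t ht => n4 t ht.1 ((me t).1 ht.2).2)
    (gen1 he (by omega) (odd_O H) ((hV.trans inf_le_left).trans (O_norm H)) fun c hc c1 =>
      inf_le_right.trans (h.cent_le (hV hc).2 (hD c hc) c1))
    (fun e => v1 (mem_bot.1 (e.le (hVE hv)))) db.fit
  obtain ⟨k, n, f, l1, l2, l3⟩ :=
    db_main db kf1 (ky.mono (Nat.succ_le_succ (card_quo_le H N))) l4 l5 l6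
  rw [inf_eq_right.2 (quo_mono N inf_le_left)] at l3
  set T := S ⁒ N ⊓ L with hT
  have fr := f.syl.frattini l1
  have mt : ∀ g ∈ H, g ∉ M → ∃ l ∈ L, l ∉ 𝐍(T) ∧ ∃ b ∈ H ⁒ N ⊓ 𝐍(T), l * b = coset N g :=
    fun g hg g1 => by
      obtain ⟨l, hl, b, hb, e⟩ := fr.mem_iff.1 (coset_mem_quo N hg)
      exact ⟨l, hl, fun e' => g1 ((mm g hg).1 (l3 ▸ e ▸ mul_mem (mem_inf.2 ⟨l1.1 hl, e'⟩) hb)), b, hb, e⟩
  refine ⟨N, L, T, _, k, n, f, n1, n2, n3, n4, l1, l2, l3, ?_, fun w hw w2 => ?_,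
    fun g hg g1 x hx x2 => ?_, fun g hg g1 g' hg' g2 => ?_⟩
  · rw [← inf_relIndex_left, ← relIndex_quo (n1.mono (le_inf n1.1 n2) inf_le_left) n1.2, l3,
      fr.relIndex_eq, ← inf_relIndex_right, inf_right_comm, inf_eq_right.2 l1.1, inf_relIndex_left,
      f.index]
  · obtain ⟨l, hl, e⟩ := f.syl.exists_conj_le (zpowers_le.2 hw) (isPGroup_zpowers_iff.2 (piElt_two w2))
    obtain ⟨a, ha, e1⟩ := (mem_quo_of_le hEN).1 ((f.mem _).2
      ⟨e (conj_mem_conj (mem_zpowers w)), conj_sq w2 l⟩)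
    obtain ⟨g, hg, rfl⟩ := (mem_quo_of_le n1.2).1 (l1.1 hl)
    refine ⟨g⁻¹ * a * g⁻¹⁻¹, H.mul_mem (H.mul_mem (H.inv_mem hg) (hEM ha).1) (H.inv_mem (H.inv_mem hg)),
      ((me a).1 ha).2.conj _, ?_⟩
    rw [coset_conj (inv_mem (n1.2 hg)) (hEN ha), e1, coset_inv]
    group
  · obtain ⟨l, hl, k1, b, hb, e⟩ := mt g hg g1
    have k2 := (l3.le (coset_mem_quo N (⟨H.mul_mem (H.mul_mem (H.inv_mem hg) hx.1.1) hg,
      mem_conj.1 hx.2⟩ : g⁻¹ * x * g ∈ H ⊓ M))).2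
    rw [coset_mul (n1.2 (H.mul_mem (H.inv_mem hg) hx.1.1)) (n1.2 hg),
      coset_mul (n1.2 (H.inv_mem hg)) (n1.2 hx.1.1), coset_inv, ← e] at k2
    refine (coset_eq_one_iff (n1.2 hx.1.1)).1 (by_contra fun x1 => k1 ?_)
    simpa using inv_mem (f.ti l⁻¹ (inv_mem hl) _ x2 x1 (f.syl.mem_of_mem_norm
      (L.mul_mem (L.mul_mem (L.inv_mem hl) x2.2) (L.inv_mem (L.inv_mem hl)))
      (by simpa [mul_assoc] using (𝐍(T)).mul_mem ((𝐍(T)).mul_mem hb.2 k2) ((𝐍(T)).inv_mem hb.2))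
      ((f.syl.piGrp.piElt x2).conj _)))
  · obtain ⟨l, hl, k1, b, hb, e⟩ := mt g hg g1
    obtain ⟨l', hl', k2, b', hb', e'⟩ := mt g' hg' g2
    obtain ⟨z, hz, k3⟩ := f.trans hl hl' k1 k2
    obtain ⟨x, hx, rfl⟩ := (mem_quo_of_le (inf_le_left.trans n1.2)).1
      (l3.ge ⟨l1.1 hz.2, le_normalizer hz⟩)
    refine ⟨x, hx, hz, (mm _ (H.mul_mem (H.mul_mem (H.inv_mem hg') hx.1) hg)).1 (l3.ge ⟨coset_mem_quo N
      (H.mul_mem (H.mul_mem (H.inv_mem hg') hx.1) hg), ?_⟩)⟩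
    rw [coset_mul (n1.2 (H.mul_mem (H.inv_mem hg') hx.1)) (n1.2 hg),
      coset_mul (n1.2 (H.inv_mem hg')) (n1.2 hx.1), coset_inv, ← e, ← e']
    simpa [mul_assoc] using Subgroup.mul_mem _ (Subgroup.mul_mem _ (Subgroup.inv_mem _ (mem_inf.1 hb').2) k3)
      (mem_inf.1 hb).2

end Kf

/-- package KF3 -/
theorem kf3 : KF3.{u} := Kf.kf3_of kf1

end Cfsg.Agent.I2
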