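import Cfsg.Agent.Lib.I2.Hyp
import Cfsg.Agent.Lib.R4.KF3
import Cfsg.Agent.Lib.R4.KF2
import Cfsg.Agent.Lib.R4.KFL3
import Cfsg.Agent.Lib.SE.K1

/-!
# Consequences of the facts on the known simple groups
-/

set_option autoImplicit false
set_option linter.unusedSectionVars false

namespace Cfsg.Agent.I2

open Subgroup Cfsg.Agent.OO Cfsg.Agent.Coprime Cfsg.Agent.SZ Cfsg.Agent.GW Cfsg.Agent.W4
open Cfsg.Agent.R4 (SzF piElt_two_of_sq)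
open scoped commutatorElement Pointwise

universe u

variable {G : Type u} [Group G] [Finite G] {K L S T V W Y Z : Subgroup G} {a g k l v w x : G} {n : ℕ}

namespace SF

variable (h : SF L T W k)
include h

theorem W_le : W ≤ T := fun w hw => ((h.mem w).1 hw).1

theorem W_le' : W ≤ L := h.W_le.trans h.syl.le

theorem sqW (hw : w ∈ W) : w * w = 1 := ((h.mem w).1 hw).2

theorem elem : IsElementaryAbelian 2 W :=
  ⟨ab_iff_le_cent.2 (h.W_le.trans h.cent), fun w hw => by rw [pow_two, h.sqW hw]⟩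

theorem eq_one (h1 : x ∈ L) (h2 : x ∈ 𝐂(L)) : x = 1 :=
  mem_bot.1 (((h.smp _ (Zc_normal L)).resolve_right fun e =>
    h.nab (ab_iff_le_cent.2 (e.ge.trans inf_le_right))).le ⟨h1, h2⟩)

theorem exists_ne (v : G) : ∃ w ∈ W, w ≠ 1 ∧ w ≠ v :=
  R4.kf3_third (by have := h.four; omega) v

theorem fpf (hv : v ∈ W) (e : k * v = v * k) : v = 1 := by_contra fun v1 => by
  obtain ⟨w, hw, w1, h1⟩ := h.exists_ne v
  obtain ⟨j, rfl⟩ := h.cyc v hv w hw v1 w1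
  exact h1 (by rw [((show Commute k v from e).pow_left j).eq, mul_inv_cancel_right])

theorem mem_norm_W (hg : g ∈ 𝐍(T)) : g ∈ 𝐍(W) := mem_norm_of_conj_mem fun _ hw =>
  (h.mem _).2 ⟨conj_mem_of_norm hg (h.W_le hw), conj_sq (h.sqW hw) g⟩

theorem eq_W (hV : V ≤ W) (h0 : V ≠ ⊥) (hk : k ∈ 𝐍(V)) : V = W := le_antisymm hV fun w hw => by
  obtain ⟨v, hv, v1⟩ := exists_mem_ne_one h0
  by_cases w1 : w = 1
  · exact w1 ▸ one_mem _
  obtain ⟨j, rfl⟩ := h.cyc v (hV hv) w hw v1 w1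
  exact conj_mem_of_norm (pow_mem hk j) hv

theorem pow_eq_one (hl : l ∈ L) (hc : l⁻¹ * x ∈ 𝐂(L)) {m : ℕ} (e : x ^ m = 1) : l ^ m = 1 := by
  refine h.eq_one (pow_mem hl m) ?_
  rw [← mul_inv_cancel_left l x, (show Commute l (l⁻¹ * x) from mem_cent_iff.1 hc l hl).mul_pow,
    mul_eq_one_iff_eq_inv] at e
  exact e ▸ inv_mem (pow_mem hc m)

theorem split (hx : x ∈ T ⊔ 𝐂(L)) : ∃ l ∈ T, l⁻¹ * x ∈ 𝐂(L) := by
  obtain ⟨l, hl, c, hc, rfl⟩ :=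
    (mem_sup_norm_left ((cent_anti h.syl.le).trans (cent_le_norm T))).1 hx
  exact ⟨l, hl, by simpa using hc⟩

/-- an element acting trivially on a `k`-invariant `V` and on `W / V` centralizes `W` -/
theorem cent_of (hV : V ≤ W) (hk : k ∈ 𝐍(V)) (ha : a ∈ 𝐂(V)) (hc : ∀ w ∈ W, ⁅a, w⁆ ∈ V) :
    a ∈ 𝐂(W) := by
  by_cases h0 : V = ⊥
  · exact mem_cent_iff.2 fun w hw =>
      (commutatorElement_eq_one_iff_mul_comm.1 (mem_bot.1 (h0 ▸ hc w hw))).symm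
  · exact h.eq_W hV h0 hk ▸ ha

/-- involutions normalizing `L` and centralizing `W` act like elements of `W` -/
theorem inv_split (h1 : a ∈ 𝐍(L)) (h2 : a ∈ 𝐂(W)) (a2 : a * a = 1) : ∃ w ∈ W, w⁻¹ * a ∈ 𝐂(L) := by
  obtain ⟨l, hl, hc⟩ := h.split (h.cw a ⟨h1, h2⟩ (piElt_two_of_sq a2))
  exact ⟨l, (h.mem l).2 ⟨hl, by
    rw [← pow_two, h.pow_eq_one (h.syl.le hl) hc (by rw [pow_two, a2])]⟩, hc⟩

theorem exists_conj_W (hw : w ∈ L) (w2 : w * w = 1) : ∃ l ∈ L, l * w * l⁻¹ ∈ W := by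
  have := Fact.mk Nat.prime_two
  obtain ⟨l, hl, e⟩ := h.syl.exists_conj_le (zpowers_le.2 hw)
    (isPGroup_zpowers_iff.2 (piElt_two_of_sq w2))
  exact ⟨l, hl, (h.mem _).2 ⟨e (conj_mem_conj (mem_zpowers w)), conj_sq w2 l⟩⟩

/-- odd subgroups normalized by `W` centralize `L`, if `T` is a CC-subgroup -/
theorem le_cent_of (cc : ∀ x ∈ T, x ≠ 1 → L ⊓ 𝐂[x] ≤ T) (cW : 𝐍(L) ⊓ 𝐂(W) ≤ T ⊔ 𝐂(L))
    (ho : Odd ♯Y) (h1 : Y ≤ 𝐍(L)) (h2 : W ≤ 𝐍(Y)) : Y ≤ 𝐂(L) := fun y hy => by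
  have h3 : Y ⊓ L ≤ ⊥ := gen1 h.elem (by have := h.four; omega) (odd_of_le ho inf_le_left)
    (le_norm_inf h2 (le_norm_of_le h.W_le')) fun w hw w1 => by
      rw [← inf_eq_bot_odd h.syl.isPGroup ho]
      exact le_inf ((inf_le_inf_right _ inf_le_right).trans (cc w (h.W_le hw) w1))
        (inf_le_left.trans inf_le_left)
  have h4 : Y ≤ 𝐂(W) := commutator_eq_bot_iff.1 (eq_bot_iff.2 (le_trans (le_inf
    (commutator_le_left' h2) ((commutator_mono le_rfl h.W_le').trans (commutator_le_right' h1))) h3))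
  obtain ⟨t, ht, hc⟩ := h.split (cW ⟨h1 hy, h4 hy⟩)
  have := Fact.mk Nat.prime_two
  rwa [(h.syl.piGrp.piElt ht).eq_one (((odd_iff.1 ho).piElt hy).of_dvd (orderOf_dvd_of_pow_eq_one
    (h.pow_eq_one (h.syl.le ht) hc (pow_orderOf_eq_one y)))), inv_one, one_mul] at hc

end SF

theorem ZF.trans (f : ZF L T W k n) {l m : G} (hl : l ∈ L) (hm : m ∈ L) (h1 : l ∉ 𝐍(T))
    (h2 : m ∉ 𝐍(T)) : ∃ x ∈ T, m⁻¹ * x * l ∈ 𝐍(T) := by
  obtain ⟨t, hC, -⟩ := f.hyp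
  have e : ∀ z : L, z ∈ 𝐍(T.subgroupOf L) ↔ (z : G) ∈ 𝐍(T) := fun z => by
    rw [← subgroupOf_normalizer_eq f.syl.le]; rfl
  obtain ⟨x, hx, a, ha, y, hy, e1⟩ := hC.bruhat (g := ⟨l, hl⟩) (mt (e _).1 h1)
  obtain ⟨x', hx', a', ha', y', hy', e2⟩ := hC.bruhat (g := ⟨m, hm⟩) (mt (e _).1 h2)
  refine ⟨(x' * x⁻¹ : L), mem_subgroupOf.1 (mul_mem hx' (inv_mem hx)),
    (e ((⟨m, hm⟩ : L)⁻¹ * (x' * x⁻¹) * ⟨l, hl⟩)).1 ?_⟩
  rw [e1, e2, show (x' * t * a' * y')⁻¹ * (x' * x⁻¹) * (x * t * a * y) = y'⁻¹ * a'⁻¹ * a * y by group]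
  exact mul_mem (mul_mem (mul_mem (inv_mem (le_normalizer hy')) (inv_mem (BSW.mem_Kt.1 ha').1))
    (BSW.mem_Kt.1 ha).1) (le_normalizer hy)

namespace Kf

theorem sf_of_szf (f : SzF L T W k n) : SF L T W k :=
  ⟨f.smp, f.nab, f.syl, f.mem, f.cent, f.sq, f.der_le, f.four, f.k_mem, f.k_norm, f.odd_k, f.cyc,
    fun _ hx _ => f.centW hx⟩

theorem zf_of_szf (f : SzF L T W k n) : ZF L T W k n :=
  ⟨sf_of_szf f, f.cardW, f.ord, f.norm, f.cc, f.ti, f.max, f.centW, f.cardT ▸ f.index,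
    fun x hx ho => f.real x hx ho fun e => f.not_three (e.trans (orderOf_dvd_natCard _ hx)),
    fun _ h1 ho h2 => f.le_cent ho h1 h2, f.hyp, .inr f⟩

section

open BSW

variable {H : Type u} [Group H] [Finite H] {S : Subgroup H} {t r : H} {F : Type} [Field F]
  {a k : F → H} (fr : Frame S t a k) (hC : HypC S t)
include fr hC

theorem fr_max (hr : r ∈ S) (e : t * a 1 * t = r * t * r⁻¹) {B : Subgroup H} (h1 : S ≤ B)
    (h2 : ¬ B ≤ 𝐍(S)) : B = ⊤ := by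
  obtain ⟨g, hg, hg'⟩ := SetLike.not_le_iff_exists.1 h2
  obtain ⟨x, hx, j, hj, y, hy, rfl⟩ := hC.bruhat hg'
  obtain ⟨c, c0, rfl⟩ := fr.k_surj j hj
  have h3 : t * k c ∈ B := by
    rwa [B.mul_mem_cancel_right (h1 hy), mul_assoc, B.mul_mem_cancel_left (h1 hx)] at hg
  have h4 : ∀ d, d ≠ 0 → t * a d * t ∈ B → t * (k d * k d) ∈ B := fun d d0 e' => by
    have hr : (k d)⁻¹ * r * (k d)⁻¹⁻¹ ∈ B := h1 (hC.K_conj_mem (inv_mem (fr.k_mem d)) hr)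
    have h5 : t * a d * t = (k d)⁻¹ * r * (k d)⁻¹⁻¹ * (t * (k d * k d)) *
        ((k d)⁻¹ * r * (k d)⁻¹⁻¹)⁻¹ := by
      rw [← mul_one d, ← fr.k_conj d d0, mul_one]
      calc _ = t * k d * a 1 * ((k d)⁻¹ * t) := by group
        _ = (k d)⁻¹ * (t * a 1 * t) * k d := by
          rw [← hC.t_mul (fr.k_mem d)]
          nth_rw 1 [hC.t_mul (fr.k_mem d)]
          group
        _ = (k d)⁻¹ * r * k d * ((k d)⁻¹ * t * k d) * ((k d)⁻¹ * r⁻¹ * k d) := by rw [e]; group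
        _ = _ := by rw [← hC.t_mul (fr.k_mem d)]; group
    rwa [h5, B.mul_mem_cancel_right (inv_mem hr), B.mul_mem_cancel_left hr] at e'
  have ht : t ∈ B := by
    have := h4 1 one_ne_zero (by
      rw [← mul_inv_cancel₀ c0, ← fr.k_conj c c0]
      convert mul_mem (mul_mem h3 (h1 (fr.a_mem c⁻¹))) h3 using 1
      nth_rw 2 [hC.t_mul hj]
      group)
    rwa [fr.k_one hC, mul_one, mul_one] at this
  have hK : ∀ j ∈ Kt S t, j ∈ B := fun j hj => by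
    obtain ⟨i, hi, rfl⟩ := hC.exists_sqrt hj
    obtain ⟨d, d0, rfl⟩ := fr.k_surj i hi
    rw [← B.mul_mem_cancel_left ht]
    exact h4 d d0 (mul_mem (mul_mem ht (h1 (fr.a_mem d))) ht)
  refine eq_top_iff.2 fun g _ => ?_
  by_cases hg : g ∈ 𝐍(S)
  · obtain ⟨j, hj, y, hy, rfl⟩ := hC.decomp hg
    exact mul_mem (hK j hj) (h1 hy)
  · obtain ⟨x, hx, j, hj, y, hy, rfl⟩ := hC.bruhat hg
    exact mul_mem (mul_mem (mul_mem (h1 hx) ht) (hK j hj)) (h1 hy)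

theorem fr_gen : ∃ x ∈ Kt S t, zpowers x = Kt S t ∧ ∀ c, c ≠ 0 → ∃ j : ℕ, x ^ j = k c := by
  have := fr.finite
  obtain ⟨x, hx⟩ : IsCyclic Fˣ := inferInstance
  have h3 : ∀ j : ℕ, k x ^ j = k (x ^ j) := fun j => by
    induction j with
    | zero => simp [fr.k_one hC]
    | succ j ih => rw [pow_succ, ih, pow_succ, fr.k_mul hC (by simp) x.ne_zero]
  have h4 : ∀ c, c ≠ 0 → ∃ j : ℕ, k x ^ j = k c := fun c c0 => by
    obtain ⟨j, hj⟩ := mem_powers_iff_mem_zpowers.2 (hx (Units.mk0 c c0))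
    exact ⟨j, by rw [h3, ← Units.val_pow_eq_pow_val, show x ^ j = _ from hj]; rfl⟩
  refine ⟨k x, fr.k_mem x, le_antisymm (zpowers_le.2 (fr.k_mem x)) fun j hj => ?_, h4⟩
  obtain ⟨c, c0, rfl⟩ := fr.k_surj j hj
  obtain ⟨j, e⟩ := h4 c c0
  exact e ▸ pow_mem (mem_zpowers _) j

end

theorem cw_of_ab (hL : Smp L) (hn : ¬ Ab L) (hT : Syl 2 T L) (ha : Ab T) (h0 : T ≠ ⊥)
    (hx : x ∈ 𝐍(L) ⊓ 𝐂(T)) (x2 : PiElt {2} x) : x ∈ T ⊔ 𝐂(L) := by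
  have := Fact.mk Nat.prime_two
  obtain ⟨l, hl, c, hc, rfl⟩ := (mem_sup_norm_left (cent_le_norm L)).1 (R4.mem_sup_cent_of_ab hL
    ((dvd_card_of_isPGroup hT.isPGroup h0).trans (card_dvd_of_le hT.le)) hT ha hx.1 x2 hx.2)
  have e := pow_orderOf_eq_one (l * c)
  rw [(show Commute l c from mem_cent_iff.1 hc l hl).mul_pow, mul_eq_one_iff_eq_inv] at e
  have h1 : l ^ orderOf (l * c) = 1 := mem_bot.1 (((hL _ (Zc_normal L)).resolve_right fun e =>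
    hn (ab_iff_le_cent.2 (e.ge.trans inf_le_right))).le ⟨L.pow_mem hl _, by
      rw [e]; exact (𝐂(L)).inv_mem ((𝐂(L)).pow_mem hc _)⟩)
  exact mul_mem_sup (hT.mem_of_mem_norm hl (cent_le_norm T ((mul_mem_cancel_right
    (cent_anti hT.le hc)).1 hx.2)) (x2.of_dvd (orderOf_dvd_of_pow_eq_one h1))) hc

theorem sf_of_wal (hL : Smp L) (hn : ¬ Ab L) (hT : Syl 2 T L) (h : Wal.SF L T) (hk : k ∈ L ⊓ 𝐍(T))
    (ho : Odd (orderOf k))
    (cyc : ∀ v ∈ T, ∀ w ∈ T, v ≠ 1 → w ≠ 1 → ∃ j : ℕ, k ^ j * v * (k ^ j)⁻¹ = w) : SF L T T k := by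
  have ha : Ab T := BSW.comm_of_mul_self h.sq
  have h2 := h.four
  refine ⟨hL, hn, hT, fun w => ⟨fun hw => ⟨hw, h.sq w hw⟩, fun hw => hw.1⟩, ha.le_cent,
    fun t ht => mul_mem ht ht, der_le T, ?_, hk.1, hk.2, ho, cyc, fun x hx x2 =>
      cw_of_ab hL hn hT ha (fun e => by rw [e, card_bot] at h2; omega) hx x2⟩
  have := Fact.mk Nat.prime_two
  obtain ⟨n, hn⟩ := hT.isPGroup.exists_card_eq
  rw [hn] at h2 ⊢
  exact Nat.pow_le_pow_right two_pos (show 2 ≤ n from (Nat.pow_lt_pow_iff_right one_lt_two).1 h2)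

theorem exists_sf_of_wal (hL : Smp L) (hn : ¬ Ab L) (hT : Syl 2 T L) (h : Wal.SF L T) :
    ∃ k, SF L T T k := by
  have := Fact.mk Nat.prime_two
  obtain ⟨k, hk, t, ht⟩ := h.cyc
  have h1 : constt {2} k ∈ 𝐂(T) := Ab.le_cent (BSW.comm_of_mul_self h.sq)
    (hT.mem_of_mem_norm (constt_mem _ hk.1) (constt_mem _ hk.2) (piElt_constt _ k))
  refine ⟨_, sf_of_wal hL hn hT h (constt_mem {2}ᶜ hk) (Nat.not_even_iff_odd.1 fun e =>
    (isPiNum_compl_singleton Nat.prime_two).1 (piElt_constt _ k) e.two_dvd)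
      fun v hv w hw v1 w1 => ?_⟩
  obtain ⟨g, hg, rfl⟩ := ht v hv v1
  obtain ⟨g', hg', rfl⟩ := ht w hw w1
  obtain ⟨j, hj⟩ := mem_powers_iff_mem_zpowers.2 (mul_mem hg' (inv_mem hg))
  refine ⟨j, ?_⟩
  rw [← mem_cent_iff_conj.1 (pow_mem h1 j) _ hv, ← mul_assoc, ← mul_assoc, mul_assoc _ _ (_ ^ j)⁻¹,
    ← mul_inv_rev, ← (commute_constt_constt _ _ k).mul_pow, constt_compl_mul_constt,
    show k ^ j = _ from hj]
  group

/-- the groups `L₂(2 ^ n)` -/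
theorem exists_zf (hL : Smp L) (hn : ¬ Ab L) (hA : R1.AStar L) (hT : Syl 2 T L) (h : Wal.SF L T)
    (cc : ∀ w ∈ T, w ≠ 1 → L ⊓ 𝐂[w] ≤ T) : ∃ k n, ZF L T T k n := by
  have := Fact.mk Nat.prime_two
  have hs := hL.isSimpleGroup fun e => hn (e ▸ ab_bot)
  have hle := hT.le
  have ha : Ab T := BSW.comm_of_mul_self h.sq
  have ha' : Ab (T.subgroupOf L) := ab_iff.2 fun a h1 b h2 => Subtype.ext (ab_iff.1 ha a h1 b h2)
  obtain ⟨t, hC⟩ := Wal.hypC_of_cc hn (Wal.syl_subgroupOf hT) ha' fun w hw w1 x hx =>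
    cc w hw (fun e => w1 (Subtype.ext e)) ⟨x.2, mem_cent1.2 (congrArg Subtype.val (mem_cent1.1 hx))⟩
  obtain ⟨m, hm, a, k, fr, r, hr, e⟩ := hC.exists_frame
  obtain ⟨x, hx, hK, hx'⟩ := fr_gen fr hC
  have hN : ∀ y : L, y ∈ 𝐍(T.subgroupOf L) ↔ (y : G) ∈ 𝐍(T) := fun y => by
    rw [← subgroupOf_normalizer_eq hle]; rfl
  have ha' : ∀ w ∈ T, ∃ c, (a c : G) = w := fun w hw =>
    (fr.a_surj ⟨w, hle hw⟩ hw (Subtype.ext (h.sq w hw))).imp fun _ e => congrArg Subtype.val e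
  have cF := GaloisField.card 2 m (by omega)
  have cW : ♯T = 2 ^ m := cF ▸ (Nat.card_congr (Equiv.ofBijective (fun c => (⟨a c, fr.a_mem c⟩ : T))
    ⟨fun _ _ e => fr.a_inj (Subtype.ext (congrArg Subtype.val e :)),
      fun w => (ha' w w.2).imp fun _ e => Subtype.ext e⟩)).symm
  have ord : orderOf (x : G) + 1 = ♯T := by
    rw [Subgroup.orderOf_coe, ← Nat.card_zpowers, hK, fr.card_K, cF, cW,
      Nat.sub_add_cancel Nat.one_le_two_pow]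
  have sf : SF L T T x := sf_of_wal hL hn hT h ⟨x.2, (hN x).1 hx.1⟩ (Nat.not_even_iff_odd.1
    (Nat.even_add_one.1 (by rw [ord, cW]; exact even_two.pow_of_ne_zero (by omega))))
    fun p hp q hq p1 q1 => by
      obtain ⟨c, rfl⟩ := ha' p hp
      obtain ⟨d, rfl⟩ := ha' q hq
      have c0 : c ≠ 0 := fun e => p1 (by rw [e, fr.a_zero]; rfl)
      have d0 : d ≠ 0 := fun e => q1 (by rw [e, fr.a_zero]; rfl)
      obtain ⟨j, hj⟩ := hx' _ (div_ne_zero d0 c0)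
      have := fr.k_conj _ (div_ne_zero d0 c0) c
      rw [← hj, div_mul_cancel₀ _ c0] at this
      exact ⟨j, congrArg Subtype.val this⟩
  have cen : 𝐍(L) ⊓ 𝐂(T) ≤ T ⊔ 𝐂(L) := fun y hy => by
    obtain ⟨w, hw, e⟩ := Wal.rigid hL hn hT ha cc hy.1 hy.2
    simpa using mul_mem_sup hw e
  refine ⟨x, m, sf, cW, ord, le_antisymm (fun y hy => ?_) (le_inf (sup_le hle (zpowers_le.2 x.2))
    (sup_le le_normalizer (zpowers_le.2 sf.k_norm))), cc,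
    fun g hg y hy y1 e => (hN ⟨g, hg⟩).1 (hC.ti (x := ⟨y, hle hy⟩) hy
      (fun e => y1 (congrArg Subtype.val e)) e),
    fun B h1 h2 => or_iff_not_imp_left.2 fun h4 => le_antisymm h2 (subgroupOf_eq_top.1
      (fr_max fr hC hr e (fun y hy => h1 hy) fun e => h4 fun y hy => (hN ⟨y, h2 hy⟩).1 (e hy))),
    cen, ?_, fun y hy _ => ?_, fun Y h1 ho h2 => sf.le_cent_of cc cen ho h1 h2,
    ⟨t, hC, by rw [← hK, MonoidHom.map_zpowers]; rfl⟩, .inl ⟨rfl, hA⟩⟩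
  · obtain ⟨z, hz, j, hj, e⟩ := hC.decomp' ((hN ⟨y, hy.1⟩).2 hy.2)
    obtain ⟨i, rfl⟩ := hK.ge hj
    rw [show y = z * x ^ i from congrArg Subtype.val e]
    exact mul_mem_sup hz ⟨i, rfl⟩
  · rw [relIndex, subgroupOf_normalizer_eq hle, hC.index_norm, Core.card_subgroupOf_of_le hle, add_comm]
  · obtain ⟨m, -, -, -, ⟨e⟩⟩ := hC.main fun x hx j hj =>
      Subtype.ext (ab_iff.1 ha _ hx _ (hC.K_conj_mem hj hx))
    obtain ⟨g, e1, e2⟩ := SE.real_SL2 ((e.trans BSW.pslEquiv) ⟨y, hy⟩)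
    obtain ⟨g, rfl⟩ := (e.trans BSW.pslEquiv).surjective g
    exact ⟨g, g.2, congrArg Subtype.val ((e.trans BSW.pslEquiv).injective
      (by rw [map_mul, e1, map_one]) : g * g = 1), congrArg Subtype.val ((e.trans BSW.pslEquiv).injective
      (by rw [map_mul, map_mul, map_inv, e2, map_inv]) : g * ⟨y, hy⟩ * g⁻¹ = ⟨y, hy⟩⁻¹)⟩

end Kf

end Cfsg.Agent.I2
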