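import Cfsg.Agent.Lib.I2.Main
import Cfsg.Agent.Lib.I2.EOa

/-!
# Package KI, case A: the order of a Sylow 2-subgroup by package EO
-/

set_option autoImplicit false

namespace Cfsg.Agent.I2

open Subgroup Cfsg.Agent.OO Cfsg.Agent.Coprime Cfsg.Agent.SZ Cfsg.Agent.GW Cfsg.Agent.W4
open Cfsg.Agent.R4 (abelem_sq two_elt exists_third)
open scoped commutatorElement Pointwise

universe u

variable {G : Type u} [Group G] [Finite G]

omit [Finite G] in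
theorem Ke.abelem {X : Subgroup G} (h : ∀ x ∈ X, x * x = 1) : IsElementaryAbelian 2 X :=
  ⟨ab_iff.2 fun x hx y hy => by
    rw [← GW.inv_eq (h _ (X.mul_mem hx hy)), mul_inv_rev, GW.inv_eq (h x hx), GW.inv_eq (h y hy)],
    fun x hx => (pow_two x).trans (h x hx)⟩

theorem Ke.caseA (eoc : EOc.{u}) (hG : Cov G) {A S V : Subgroup G} (hA : IsElementaryAbelian 2 A)
    (h8 : 8 ≤ ♯A) (hS : Syl 2 S ⊤) (hAV : A ≤ V) (hV : ∀ v, v ∈ V ↔ v ∈ S ∧ v * v = 1)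
    (hc : S ≤ 𝐂(A)) (hsq : ∀ y ∈ S, y * y ∈ A)
    (tr : ∀ a ∈ A, ∀ b ∈ A, a ≠ 1 → b ≠ 1 → ∃ k ∈ 𝐍(A) ⊓ 𝐍(S), k * a * k⁻¹ = b)
    (nab : ∃ x ∈ S ⊓ 𝐂(V), ∃ y ∈ S ⊓ 𝐂(V), x * y ≠ y * x) : ♯S = ♯V * ♯A := by
  obtain ⟨Γ, _, _, f, hf⟩ := hG
  have hVS : V ≤ S := fun v hv => ((hV v).1 hv).1
  have hSA : S ≤ 𝐍(A) := le_norm_of_le_cent hc
  have hnV : 𝐍(S) ≤ 𝐍(V) := fun g hg => mem_norm_of_conj_le (conj_le_iff.2 fun v hv =>
    (hV _).2 ⟨conj_mem_of_norm hg (hVS hv), conj_sq ((hV v).1 hv).2 g⟩)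
  obtain ⟨Y, y1, y2⟩ := (hS.mono (le_inf hSA le_normalizer) le_top).hall.exists_sdprod inf_le_right
  have y3 : ¬ 2 ∣ ♯Y := (piGrp_compl_singleton Nat.prime_two).1 y2.piGrp
  have y4 : Odd ♯Y := Nat.odd_iff.2 (Nat.two_dvd_ne_zero.1 y3)
  have y5 : Y ≤ 𝐍(A) := y2.le.trans inf_le_left
  have y6 : ∀ a ∈ A, ∀ b ∈ A, a ≠ 1 → b ≠ 1 → ∃ y ∈ Y, y * a * y⁻¹ = b := fun a ha b hb a1 b1 => by
    obtain ⟨k, hk, e⟩ := tr a ha b hb a1 b1
    obtain ⟨y, hy, s, hs, rfl⟩ := y1.mem_iff'.1 hk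
    refine ⟨y, hy, ?_⟩
    rw [← e, mul_assoc y s, ← mem_cent_iff.1 (hc hs) a ha]
    group
  obtain ⟨W, w1, w2⟩ := Maschke_abelem (p := 2) (V := S ⁒ A) (U := V ⁒ A) (H := Y ⁒ A)
    (Ke.abelem fun z hz => by
      obtain ⟨x, hx, hn, rfl⟩ := mem_quo.1 hz
      rw [← coset_mul hn hn, coset_eq_one (hsq x hx)])
    (fun e => y3 (e.trans (card_quo_dvd _ _))) (quo_mono A hVS) (quo_le_norm A y1.le_norm)
    (quo_le_norm A (y1.le_norm.trans hnV))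
  have hn : A ⊴ V := ⟨hAV, hVS.trans hSA⟩
  have s1 : V ⊔ quoPre A W = S := by
    rw [← quoPre_quo hn, ← quoPre_sup, w1.sup_eq, quoPre_quo ⟨hAV.trans hVS, hSA⟩]
  have s2 : V ⊓ quoPre A W = A := by rw [← quoPre_quo hn, ← quoPre_inf, w1.inf_eq, quoPre_bot]
  have s3 : Y ≤ 𝐍(quoPre A W) := le_norm_quoPre y5 w2
  have s4 := le_quoPre W
  generalize quoPre A W = T at s1 s2 s3 s4
  have t1 : T ≤ S := s1 ▸ le_sup_right
  have t2 := hS.isPGroup.to_le t1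
  have t3 : T ≤ 𝐍(V) := t1.trans (le_normalizer.trans hnV)
  have t4 : Syl 2 T (T ⊔ Y) := ⟨le_sup_left, t2, fun e => y3 (by
    have := card_sup_of_inf_eq_bot (.inr s3) (inf_eq_bot_odd t2 y4)
    rw [← card_mul_relIndex (le_sup_left : T ≤ T ⊔ Y)] at this
    exact Nat.eq_of_mul_eq_mul_left (card_pos' T) this ▸ e)⟩
  have t5 : A ≤ T ⊔ Y := s4.trans le_sup_left
  have t6 : ∀ a ∈ A, Lf f a := fun a ha => by
    by_cases a1 : a = 1
    · exact a1 ▸ hf.ds.one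
    obtain ⟨b, hb, b1, ab⟩ := exists_third (W := A) (by omega) a
    obtain ⟨g, -, e⟩ := tr b hb _ (mul_mem ha (inv_mem hb)) b1 fun e => ab (mul_inv_eq_one.1 e).symm
    simpa [e] using hf.ds.om (g := g) (abelem_isPGroup hA) (abelem_sq hA hb) hb
      (e ▸ mul_mem ha (inv_mem hb))
  have : (A.subgroupOf (T ⊔ Y)).Normal := NormalIn.subgroupOf ⟨t5, sup_le (t1.trans hSA) y5⟩
  have e1 := Core.card_subgroupOf_of_le t5
  have k := (eo_glue eoa eoc (hf.sub (T ⊔ Y)) (B := A.subgroupOf _) (Y := Y.subgroupOf _)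
    (S := T.subgroupOf _) (abelem_congr (subgroupOfEquivOfLe t5).symm hA) (e1 ▸ h8) (fun t e => by
      have e' : (t : G) * t = 1 := congrArg Subtype.val e
      have := t4.mem_of_mem_norm t.2 (sup_le le_normalizer s3 t.2) (isPGroup_zpowers_iff.1 (two_elt e'))
      exact s2.le ⟨(hV _).2 ⟨t1 this, e'⟩, this⟩) (fun b hb => (t6 b hb).sub)
    ((Core.card_subgroupOf_of_le (le_sup_right : Y ≤ T ⊔ Y)).symm ▸ y4) (fun a ha b hb a1 b1 =>
      let ⟨y, hy, e⟩ := y6 a ha b hb (fun e => a1 (Subtype.ext e)) fun e => b1 (Subtype.ext e)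
      ⟨⟨y, mem_sup_right hy⟩, hy, Subtype.ext e⟩)
    ⟨le_top, isPGroup_subgroupOf t2 _, by rw [relIndex_top_right]; exact t4.2.2⟩).2
  obtain ⟨x, hx, y, hy, xy⟩ := nab
  have hVV := abelem_le_cent (Ke.abelem fun v hv => ((hV v).1 hv).2)
  obtain ⟨v, hv, a, ha, rfl⟩ := (mem_sup_norm_left t3).1 (s1.ge hx.1)
  obtain ⟨w, hw, b, hb, rfl⟩ := (mem_sup_norm_left t3).1 (s1.ge hy.1)
  rcases k with k | k
  · have k1 : a * b = b * a :=
      congrArg Subtype.val (ab_iff.1 k ⟨a, mem_sup_left ha⟩ ha ⟨b, mem_sup_left hb⟩ hb)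
    have k2 := mem_cent_iff.1 ((mul_mem_cancel_left (hVV hv)).1 hx.2) w hw
    have k3 := mem_cent_iff.1 ((mul_mem_cancel_left (hVV hw)).1 hy.2) v hv
    have k4 := mem_cent_iff.1 (hVV hv) w hw
    refine (xy ?_).elim
    rw [show v * a * (w * b) = v * (a * w) * b by group, ← k2,
      show w * b * (v * a) = w * (b * v) * a by group, ← k3,
      show v * (w * a) * b = v * w * (a * b) by group, ← k4, k1]
    group
  rw [e1, Core.card_subgroupOf_of_le (le_sup_left : T ≤ T ⊔ Y)] at k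
  have := card_sup_mul_card_inf (.inr t3)
  rw [s1, s2, k, pow_two, ← mul_assoc] at this
  exact Nat.eq_of_mul_eq_mul_right (card_pos' A) this

end Cfsg.Agent.I2
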