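import Cfsg.Agent.Lib.I2.KIh
import Cfsg.Agent.Lib.I2.KIe

/-!
# Package KI: all involutions are conjugate into `A`
-/

set_option autoImplicit false

namespace Cfsg.Agent.I2

universe u

theorem ki (kf3 : KF3.{u}) (eoc : EOc.{u}) : KI.{u} :=
  Ki.ki_of kf3 fun _ _ _ _ _ _ hG => Ke.caseA eoc hG

end Cfsg.Agent.I2
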