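import Cfsg.Agent.Lib.I2.DE1
import Cfsg.Agent.Lib.R4.DE1
import Cfsg.Agent.Lib.SE.Act

/-!
# Package KI, part a: fixed points of the involutions outside `D` and the degree
-/

set_option autoImplicit false

namespace Cfsg.Agent.I2.Ki

open Subgroup Cfsg.Agent.OO Cfsg.Agent.Coprime Cfsg.Agent.SZ Cfsg.Agent.GW Cfsg.Agent.W4
open Cfsg.Agent.R4 (SC InD SzF exists_third Nk Nk_normal Nk_le conj_mem_Nk Dn conj_mem_Dn
  ncard_eq_mul ncard_conj two_elt)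
open Cfsg.Agent.R4.DM (A_le_cent mul_sq dI_uniq)
open scoped commutatorElement Pointwise

universe u

variable {G : Type u} [Group G] [Finite G] {A H M N Q S T X : Subgroup G} {a b c d e g r s t x y z : G}

/-- the involutions outside `D` which centralize `A` -/
structure II (A : Subgroup G) (s : G) : Prop where
  cent : s ∈ 𝐂(A)
  sq : s * s = 1
  notD : ¬ InD A s

omit [Finite G] in
theorem II.le (hs : II A s) : A ≤ 𝐂[s] := A_le_cent hs.cent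

omit [Finite G] in
theorem II.ne (hs : II A s) : s ≠ 1 := fun e => hs.notD (e ▸ .one)

omit [Finite G] in
theorem II.notMem (hs : II A s) : s ∉ A := fun e => hs.notD (.of_mem e)

omit [Finite G] in
theorem II.conj (hs : II A s) (hg : g ∈ 𝐍(A)) : II A (g * s * g⁻¹) :=
  ⟨conj_mem_of_norm (norm_le_norm_cent _ hg) hs.cent, conj_sq hs.sq g, fun e => hs.notD e.of_conj⟩

theorem II.mul (hs : II A s) (h : DSE A M) (ha : a ∈ A) : II A (s * a) :=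
  ⟨mul_mem hs.cent (abelem_le_cent h.elem ha), mul_sq hs.sq (h.toSC.sq ha) (hs.le ha),
    h.not_inD_mul hs.notD (.of_mem ha) (hs.le ha)⟩

theorem II.big (hs : II A s) (h : DN A M) : ¬ 𝐂[s] ≤ M := h.toDSE.big h.ic hs.cent hs.sq hs.notD

section

variable {L T W : Subgroup (Coset N)} {k : Coset N} {m : ℕ} (f : K1F A M H N L T W k m)
include f

omit [Finite G] in
theorem eq_Nk : N = Nk M H :=
  le_antisymm (fun _ hy => ⟨f.normal.le hy, fun _ hc => f.le (f.normal.conj_mem hc hy)⟩)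
    (f.core _ (Nk_normal M H) (Nk_le M H))

omit [Finite G] in
theorem inf_bot : N ⊓ A = ⊥ := eq_bot_iff.2 fun _ ht => f.free _ ht.1 (.of_mem ht.2)

omit [Finite G] in
theorem W_le : W ≤ T := fun w hw => ((f.mem w).1 hw).1

theorem not_le : ¬ H ≤ M := fun e => by
  have h1 := f.idx
  rw [relIndex_eq_one.2 e] at h1
  have h2 := f.four
  have h3 := card_le_of_le (W_le f)
  omega

theorem W_eq (h : DSE A M) (hA : A ≤ H) : W = A ⁒ N := by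
  have hn := f.normal.norm
  have h1 : A ⁒ N ≤ W := fun w hw => by
    obtain ⟨a, ha, a1, rfl⟩ := mem_quo.1 hw
    have h2 : coset N a * coset N a = 1 := by rw [← coset_mul a1 a1, h.toSC.sq ha, coset_one]
    by_cases e : a = 1
    · rw [e, coset_one]; exact one_mem _
    obtain ⟨w, hw, w1⟩ := exists_mem_ne_one (H := W) fun e => by simpa [e] using f.four
    obtain ⟨t, ht, h3, rfl⟩ := f.inD w (f.syl.le (W_le f hw)) ((f.mem w).1 hw).2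
    obtain ⟨g, hg, e'⟩ := h.conj_in (not_le f) ⟨hA ha, h.A_le ha⟩ (.of_mem ha) e ht h3
      (by rintro rfl; exact w1 (coset_one _))
    have h4 : coset N a ∈ L := by
      have := f.normalL.conj_mem (inv_mem (coset_mem_quo N hg)) (f.syl.le (W_le f hw))
      rwa [← e', coset_conj (hn hg) a1, inv_inv, ← mul_assoc, ← mul_assoc, inv_mul_cancel, one_mul,
        inv_mul_cancel_right] at this
    exact (f.mem _).2 ⟨f.syl.mem_of_mem_norm h4 (f.stab.le (coset_mem_quo N ⟨hA ha, h.A_le ha⟩)).2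
      (isPGroup_zpowers_iff.1 (two_elt h2)), h2⟩
  refine le_antisymm (fun w hw => ?_) h1
  obtain ⟨t, ht, h3, rfl⟩ := f.inD w (f.syl.le (W_le f hw)) ((f.mem w).1 hw).2
  obtain ⟨g, hg, e⟩ := h.toSC.exists_conj_mem ((quo_le_iff_le_quoPre (hA.trans hn)).1 h1)
    (mem_quoPre.2 ⟨hn ht, hw⟩) h3
  have h5 := coset_mem_quo N e
  rwa [coset_conj (mem_quoPre.1 hg).1 (hn ht),
    mem_cent_iff_conj.1 (f.cent (W_le f (mem_quoPre.1 hg).2)) _ hw] at h5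

theorem card_W (h : DSE A M) (hA : A ≤ H) : ♯W = ♯A := by
  have := card_inf_mul_card_quo (hA.trans f.normal.norm)
  rwa [inf_bot f, card_bot, one_mul, ← W_eq f h hA] at this

theorem mem_T (h : DSE A M) (hA : A ≤ H) (hx : x ∈ H) (hc : x ∈ 𝐂(A)) : coset N x ∈ T := by
  have h1 := coset_mem_quo N hx
  have h2 := f.centW ⟨f.normalL.norm h1, W_eq f h hA ▸ quo_cent_le A N (coset_mem_quo N hc)⟩
  obtain ⟨t, ht, c, hc', e⟩ := (mem_sup_norm_right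
    ((f.syl.le.trans le_normalizer).trans (norm_le_norm_cent L))).1 h2
  have h4 : c = 1 := mem_bot.1 (f.centL ▸ ⟨(mul_mem_cancel_left (f.normalL.le (f.syl.le ht))).1
    (e ▸ h1), hc'⟩)
  rwa [← e, h4, mul_one]

theorem syl_quo (h : DSE A M) (hA : A ≤ H) (hQ : Syl 2 Q (𝐂(A) ⊓ H)) : Q ⁒ N = T := by
  have hn := f.normal.norm
  have h1 : A ⁒ N ≤ T := W_eq f h hA ▸ W_le f
  have h2 : quoPre N T ≤ H := quoPre_le_of_le f.normal (f.syl.le.trans f.normalL.le)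
  obtain ⟨S, hS, h3⟩ := exists_syl_ge ((quo_le_iff_le_quoPre (hA.trans hn)).1 h1) h.toSC.two
  have h4 : S ⁒ N = T := by
    have := hS.quo (quoPre_le_norm T)
    rw [quo_quoPre] at this
    exact this.eq_self f.syl.isPGroup
  have h5 : S ≤ 𝐂(A) := fun x hx => mem_cent_iff.2 fun a ha => by
    have h6 : ⁅a, x⁆ ∈ N := (coset_commute_iff (hn (hA ha)) (hn (h2 (hS.le hx)))).1
      (f.cent (h4 ▸ coset_mem_quo N hx) _ (W_eq f h hA ▸ coset_mem_quo N ha))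
    have h7 : ⁅a, x⁆ ∈ A := by
      rw [commutatorElement_def, mul_assoc, mul_assoc]
      exact mul_mem ha (by
        simpa [mul_assoc] using conj_mem_of_norm (h.toSC.le_norm hS.isPGroup h3 hx) (inv_mem ha))
    exact commutatorElement_eq_one_iff_mul_comm.1 (mem_bot.1 (inf_bot f ▸ mem_inf.2 ⟨h6, h7⟩))
  have h6 : (𝐂(A) ⊓ H) ⁒ N = T := le_antisymm (fun w hw => by
    obtain ⟨x, hx, -, rfl⟩ := mem_quo.1 hw
    exact mem_T f h hA hx.2 hx.1) (h4 ▸ quo_mono N (le_inf h5 (hS.le.trans h2)))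
  have := hQ.quo (inf_le_right.trans hn)
  rw [h6] at this
  exact this.eq_self f.syl.isPGroup

end

variable (kf3 : KF3.{u}) (h : DN A M)

include kf3 h in
theorem exists_k1 (hs : II A s) : ∃ L T W k n, K1F A M 𝐂[s] (Nk M 𝐂[s]) L T W k n := by
  obtain ⟨N, L, T, W, k, m, f⟩ := kf3 G A M 𝐂[s] A h.toDSE (h.toMC.cent1_ne_top' hs.ne)
    (le_inf hs.le h.toDSE.A_le) h.elem h.four (fun _ => .of_mem) (hs.big h)
  obtain rfl := eq_Nk f
  exact ⟨L, T, W, k, m, f⟩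

omit [Finite G] in
include h in
theorem self_mem (hs : s ∈ 𝐂(A)) : s ∈ Nk M 𝐂[s] :=
  ⟨mem_cent1_self s, fun _ hc => (mem_cent1_iff_conj.1 hc).symm ▸ h.toDSE.cent_A hs⟩

include h in
/-- the centralizer of an involution is transitive on its fixed points -/
theorem fix_mem (hr : II A r) (e : g⁻¹ * r * g ∈ M) : ∃ c ∈ 𝐂[r], c⁻¹ * g ∈ M := by
  obtain ⟨m, hm, h4⟩ := h.toDSE.exists_conj_inv h.ic h.toDSE.A_le e
    (by simpa using conj_sq hr.sq g⁻¹)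
  obtain ⟨a, ha, a1⟩ := h.toDSE.exists_ne
  obtain ⟨c, hc, e⟩ := h.toDSE.conj_in (hr.big h) ⟨hr.le ha, h.toDSE.A_le ha⟩ (.of_mem ha) a1
    (t := g * m⁻¹ * a * (g * m⁻¹)⁻¹) (by
      have := conj_mem_conj (g := g * m⁻¹) (A_le_cent h4 ha)
      rw [← cent1_conj] at this
      convert this using 3; group) ((InD.of_mem ha).conj _) (BSW.conj_ne_one a1)
  exact ⟨c, hc, (mul_mem_cancel_right (inv_mem hm)).1 (h.cent a ha a1
    (mem_cent1_iff_conj.2 (by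
      calc _ = c⁻¹ * (g * m⁻¹ * a * (g * m⁻¹)⁻¹) * c := by group
        _ = a := by rw [← e]; group)))⟩

include kf3 h in
/-- an element fixing two points of the block of `r` fixes all of them -/
theorem mem_Nk (hr : II A r) (hg : g ∉ M) (e : g⁻¹ * r * g ∈ M) (hx : x ∈ 𝐂(A)) (h1 : x ∈ 𝐂[r])
    (h2 : g⁻¹ * x * g ∈ M) : x ∈ Nk M 𝐂[r] := by
  obtain ⟨L, T, W, k, n, f⟩ := exists_k1 kf3 h hr
  obtain ⟨c, hc, h5⟩ := fix_mem h hr e
  refine f.fix c hc (fun e => hg ((mul_mem_cancel_left (inv_mem e)).1 h5)) x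
    ⟨⟨h1, h.toDSE.cent_A hx⟩, mem_conj.2 ?_⟩ (mem_T f h.toDSE hr.le h1 hx)
  convert mul_mem (mul_mem h5 h2) (inv_mem h5) using 1
  group

include kf3 h in
theorem Nk_trans (hs : II A s) (hr : II A r) (h3 : r ∈ Nk M 𝐂[s]) (hx : x ∈ 𝐂(A)) (h1 : x ∈ 𝐂[r])
    (h2 : x ∈ Nk M 𝐂[s]) : x ∈ Nk M 𝐂[r] := by
  obtain ⟨g, hg, g1⟩ := SetLike.not_le_iff_exists.1 (hs.big h)
  exact mem_Nk kf3 h hr g1 (by simpa using h3.2 _ (inv_mem hg)) hx h1
    (by simpa using h2.2 _ (inv_mem hg))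

include kf3 h in
theorem Nk_symm (hs : II A s) (hr : II A r) (h3 : r ∈ Nk M 𝐂[s]) : s ∈ Nk M 𝐂[r] :=
  Nk_trans kf3 h hs hr h3 hs.cent (mem_cent1_comm.1 h3.1) (self_mem h hs.cent)

include kf3 h in
theorem Nk_free (hs : II A s) (ha : a ∈ A) (e : a ∈ Nk M 𝐂[s]) : a = 1 :=
  let ⟨_, _, _, _, _, f⟩ := exists_k1 kf3 h hs; f.free a e (.of_mem ha)

include h in
/-- the involutions of `s A` are conjugate -/
theorem exists_shift (hs : II A s) (hb : b ∈ A) :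
    ∃ g ∈ 𝐍(A), g * s * g⁻¹ = s * b := by
  by_cases b1 : b = 1
  · exact ⟨1, one_mem _, by simp [b1]⟩
  obtain ⟨c, hc', c1, cb⟩ := exists_third (W := A) (by have := h.four; omega) b
  have h1 := hs.mul h.toDSE hc'
  obtain ⟨g, hg, e⟩ := h.toDSE.trans_in h1.le (h1.big h) hc'
    (mul_mem (inv_mem hb) hc') c1 fun e => cb (inv_mul_eq_one.1 e).symm
  refine ⟨g, hg.2, ?_⟩
  calc _ = g * (s * c) * g⁻¹ * (g * c * g⁻¹)⁻¹ := by group
    _ = _ := by rw [mem_cent1_iff_conj.1 hg.1, e, mul_inv_rev, inv_inv]; group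

include h in
theorem relIndex_mul (hs : II A s) (hb : b ∈ A) : M.relIndex 𝐂[s * b] = M.relIndex 𝐂[s] := by
  obtain ⟨g, hg, e⟩ := exists_shift h hs hb
  rw [← e, cent1_conj, ← relIndex_conj (g := g) M 𝐂[s], conj_eq_of_mem (h.norm hg)]

theorem ncard_Dn (h : DSE A M) (hA : A ≤ H) (hH : ¬ H ≤ M) :
    (Dn A H).ncard = M.relIndex H * (Dn A (H ⊓ M)).ncard ∧ 0 < (Dn A (H ⊓ M)).ncard := by
  obtain ⟨a, ha, a1⟩ := h.exists_ne
  have h1 : a ∈ H ⊓ M := ⟨hA ha, h.A_le ha⟩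
  have h2 : ∀ K, a ∈ K → (∀ t ∈ K, InD A t → t ≠ 1 → ∃ g ∈ K, g * a * g⁻¹ = t) →
      (Dn A K).ncard = (𝐂[a]).relIndex K := fun K hK e => by
    rw [relIndex_centralizer_eq_ncard]
    congr 1
    refine Set.ext fun v => ⟨fun hv => ?_, ?_⟩
    · obtain ⟨g, hg, e'⟩ := e v hv.1 hv.2.1 hv.2.2
      exact ⟨g, hg, e'.symm⟩
    · rintro ⟨g, hg, rfl⟩
      exact (conj_mem_Dn hg).1 ⟨hK, .of_mem ha, a1⟩
  rw [h2 H h1.1 fun t ht => h.conj_in hH h1 (.of_mem ha) a1 ht,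
    h2 _ h1 fun t ht => h.conj_inM hH h1 (.of_mem ha) a1 ht]
  refine ⟨?_, relIndex_pos _ _⟩
  rw [← inf_relIndex_right 𝐂[a], ← inf_relIndex_right 𝐂[a], ← inf_relIndex_left H M, mul_comm,
    show 𝐂[a] ⊓ (H ⊓ M) = 𝐂[a] ⊓ H by
      rw [inf_comm H, ← inf_assoc, inf_eq_left.2 (h.cent a ha a1)],
    relIndex_mul_relIndex _ _ _ (le_inf inf_le_right (inf_le_left.trans (h.cent a ha a1))) inf_le_left]

include h

theorem count1 (hs : II A s) (ha : a ∈ A) (a1 : a ≠ 1)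
    (hX : X = ⊤ ∨ X = M) : (Dn A X).ncard = (Dn A (𝐂[s] ⊓ X)).ncard *
      {d ∈ Dn A (𝐂[s * a] ⊓ X) | ¬ 2 ∣ orderOf (d * a)}.ncard := by
  have hM : M ≤ X := by rcases hX with rfl | rfl; exacts [le_top, le_rfl]
  refine ncard_eq_mul _ _ (fun d e => d ∈ 𝐂[s * e] ∧ ¬ 2 ∣ orderOf (d * e)) _ (fun d hd => ?_)
    fun e he => ?_
  · obtain ⟨e, he, h2, e1, h3, h4, h5⟩ := h.toDSE.dI h.ic hd.2.1 hd.2.2 hs.sq
    exact ⟨e, ⟨⟨⟨h3, sup_le (zpowers_le.2 hd.1) (zpowers_le.2 (hM (h.toDSE.cent_A hs.cent))) he⟩,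
      h2, e1⟩, h4, h5⟩, fun x hx => dI_uniq hs.sq (h.toSC.sqD hx.1.2.1) hx.1.1.1 hx.2.1 hx.2.2
        (h.toSC.sqD h2) h3 h4 h5⟩
  · obtain ⟨c, hc, rfl⟩ : ∃ c ∈ 𝐂[s] ⊓ X, c * a * c⁻¹ = e := by
      have h2 : a ∈ 𝐂[s] ⊓ M := ⟨hs.le ha, h.toDSE.A_le ha⟩
      rcases hX with rfl | rfl
      · simpa using h.toDSE.conj_in (hs.big h) h2 (.of_mem ha) a1 he.1.1 he.2.1 he.2.2
      · exact h.toDSE.conj_inM (hs.big h) h2 (.of_mem ha) a1 he.1 he.2.1 he.2.2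
    refine (ncard_conj c fun d => ?_).symm
    have e1 : s * (c * a * c⁻¹) = c * (s * a) * c⁻¹ := by
      rw [← conj_mul, mem_cent1_iff_conj.1 hc.1]
    simp only [Set.mem_ofPred_eq, ← conj_mem_Dn hc.2, e1, cent1_conj, conj_mem_conj_iff, conj_mul,
      orderOf_conj]
    exact ⟨fun e => ⟨⟨e.1.1.2, e.1.2⟩, e.1.1.1, e.2⟩, fun e => ⟨⟨⟨e.2.1, e.1.1⟩, e.1.2⟩, e.2.2⟩⟩

theorem count2 (hA : A ≤ H) (hH : ¬ H ≤ M) (ha : a ∈ A) (a1 : a ≠ 1) :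
    (Dn A (H ⊓ M)).ncard = (♯A - 1) * {d ∈ Dn A (H ⊓ M) | ¬ 2 ∣ orderOf (d * a)}.ncard := by
  have hn : M ≤ 𝐍(O M) := le_norm_O le_normalizer
  have hb := inf_eq_bot_odd h.toSC.two (odd_O M)
  rw [← ncard_sharp]
  refine ncard_eq_mul _ _ (fun d b => ¬ 2 ∣ orderOf (d * b)) _ (fun d hd => ?_) fun b hb' => ?_
  · obtain ⟨g, hg, e⟩ := h.toDSE.conj_M (h.toDSE.A_le ha) (.of_mem ha) a1 hd.1.2 hd.2.1 hd.2.2
    obtain ⟨o, ho, b, hb', e'⟩ := (mem_sup_norm_left (h.toDSE.A_le.trans hn)).1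
      (sup_comm A _ ▸ e ▸ conj_mem_of_norm (h.normO hg) (mem_sup_left ha) : d ∈ O M ⊔ A)
    have h2 : ¬ 2 ∣ orderOf o := fun e => Nat.not_even_iff_odd.2 (odd_of_mem (odd_O M) ho)
      (even_iff_two_dvd.2 e)
    refine ⟨b, ⟨⟨hb', ?_⟩, by rwa [← e', mul_assoc, h.toSC.sq hb', mul_one]⟩, fun c hc => ?_⟩
    · rintro rfl
      rw [mul_one] at e'
      exact hd.2.2 (SEA.odd_sq_eq_one (e' ▸ h2) (h.toSC.sqD hd.2.1))
    · have h3 := mul_mem hb' hc.1.1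
      have h4 := hn (h.toDSE.A_le h3)
      have h5 : ¬ 2 ∣ orderOf (coset (O M) (b * c)) := fun e => hc.2 (e.trans (by
        rw [← e', mul_assoc, ← coset_mul_of_mem' ho h4]; exact orderOf_coset_dvd _ _))
      have h6 := (coset_eq_one_iff h4).1 (SEA.odd_sq_eq_one h5 (by
        rw [← coset_mul h4 h4, h.toSC.sq h3, coset_one]))
      have h7 : b * c = 1 := mem_bot.1 (hb ▸ mem_inf.2 ⟨h3, h6⟩)
      rw [eq_inv_of_mul_eq_one_right h7, h.toSC.inv_eq hb']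
  · obtain ⟨g, hg, rfl⟩ := h.toDSE.trans_in hA hH ha hb'.1 a1 hb'.2
    refine (ncard_conj g fun d => ?_).symm
    simp only [Set.mem_ofPred_eq, ← conj_mem_Dn (show g ∈ H ⊓ M from ⟨hg.1, h.norm hg.2⟩), conj_mul,
      orderOf_conj]

/-- the degree -/
theorem count (hs : II A s) {τ : ℕ} (hτ : M.relIndex 𝐂[s] = τ + 1) :
    M.index = (τ + 1) * (τ * (♯A - 1) + 1) := by
  obtain ⟨a, ha, a1⟩ := h.toDSE.exists_ne
  have hz := hs.mul h.toDSE ha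
  have c1 := count1 h hs ha a1 (Or.inl rfl)
  have c2 := count1 h hs ha a1 (Or.inr rfl)
  have c3 := count2 h hz.le (hz.big h) ha a1
  obtain ⟨c4, c5⟩ := ncard_Dn h.toDSE le_top h.toDSE.not_top_le
  have c6 := (ncard_Dn h.toDSE hs.le (hs.big h)).1
  have c7 := (ncard_Dn h.toDSE hz.le (hz.big h)).1
  rw [hτ] at c6
  rw [relIndex_mul h hs ha, hτ] at c7
  rw [relIndex_top_right, top_inf_eq] at c4
  rw [top_inf_eq] at c5
  rw [inf_top_eq, inf_top_eq] at c1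
  have c8 := Set.ncard_inter_add_ncard_sdiff_eq_ncard (Dn A 𝐂[s * a]) M
  have c9 := Set.ncard_inter_add_ncard_sdiff_eq_ncard
    {d ∈ Dn A 𝐂[s * a] | ¬ 2 ∣ orderOf (d * a)} M
  rw [show Dn A 𝐂[s * a] ∩ M = Dn A (𝐂[s * a] ⊓ M) from Set.ext fun d =>
    ⟨fun e => ⟨⟨e.1.1, e.2⟩, e.1.2⟩, fun e => ⟨⟨e.1.1, e.2⟩, e.1.2⟩⟩] at c8
  rw [show {d ∈ Dn A 𝐂[s * a] | ¬ 2 ∣ orderOf (d * a)} ∩ M =
      {d ∈ Dn A (𝐂[s * a] ⊓ M) | ¬ 2 ∣ orderOf (d * a)} from Set.ext fun d =>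
    ⟨fun e => ⟨⟨⟨e.1.1.1, e.2⟩, e.1.1.2⟩, e.1.2⟩, fun e => ⟨⟨⟨e.1.1.1, e.1.2⟩, e.2⟩, e.1.1.2⟩⟩,
    show {d ∈ Dn A 𝐂[s * a] | ¬ 2 ∣ orderOf (d * a)} \ M = Dn A 𝐂[s * a] \ M from Set.ext fun d =>
    ⟨fun e => ⟨e.1.1, e.2⟩, fun e =>
      ⟨⟨e.1, h.toDSE.odd_mul (h.toDSE.A_le ha) (.of_mem ha) a1 e.2 e.1.2.1⟩, e.2⟩⟩] at c9
  generalize ♯A - 1 = p at *
  refine Nat.eq_of_mul_eq_mul_right c5 ?_
  rw [← c4, c1, c6, c2, ← c9]
  rw [c7, c3] at c8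
  generalize (Dn A 𝐂[s * a] \ M).ncard = u at *
  generalize {d ∈ Dn A (𝐂[s * a] ⊓ M) | ¬ 2 ∣ orderOf (d * a)}.ncard = v at *
  rw [show u = τ * (p * v) by linarith]
  ring

end Cfsg.Agent.I2.Ki
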