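import Cfsg.Agent.Lib.I2.KIa
import Cfsg.Agent.Lib.I2.Cov

/-!
# Package KI, part b: the involutions of a Sylow 2-subgroup
-/

set_option autoImplicit false

namespace Cfsg.Agent.I2.Ki

open Subgroup Cfsg.Agent.OO Cfsg.Agent.Coprime Cfsg.Agent.SZ Cfsg.Agent.GW Cfsg.Agent.W4
open Cfsg.Agent.R4 (SC InD SzF exists_third Nk Nk_normal Nk_le conj_mem_Nk two_elt)
open scoped commutatorElement Pointwise

universe u

variable {G : Type u} [Group G] [Finite G] {D : G → Prop} {A H M N Q S T V X : Subgroup G}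
  {a b d g r s t v x y z : G}

/-- commuting elements of order 4 of a Suzuki 2-group have the same square -/
theorem sz_comm {L W : Subgroup G} {k : G} {n : ℕ} (f : SzF L T W k n) (hx : x ∈ T) (hy : y ∈ T)
    (x2 : x * x ≠ 1) (y2 : y * y ≠ 1) (e : x * y = y * x) : x * x = y * y := by
  have := Fact.mk Nat.prime_two
  have hle := f.syl.le
  obtain ⟨t, hC, hK⟩ := f.hyp
  obtain ⟨m, hm, a, k', fr, r, hr, e'⟩ := hC.exists_frame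
  have hq : ♯(T.subgroupOf L) = Nat.card (GaloisField 2 m) ^ 2 := by
    rw [Core.card_subgroupOf_of_le hle, f.cardT, ← f.cardW, ← f.ord, ← Nat.card_zpowers, ← hK,
      card_subtype, fr.card_K, Nat.sub_add_cancel Nat.card_pos]
  have h3 : ∀ l : GaloisField 2 m, l ^ 2 + l + 1 ≠ 0 := fun l hl => by
    have l0 : l ≠ 0 := by rintro rfl; simp at hl
    have l1 : l ≠ 1 := by rintro rfl; simp [CharTwo.add_self_eq_zero] at hl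
    refine fr.k_ne_one hC l0 l1 (fr.not_three hC hq _ (fr.k_mem l) ?_)
    rw [pow_three, ← fr.k_mul hC l0 l0, ← fr.k_mul hC l0 (mul_ne_zero l0 l0), ← fr.k_one hC]
    congr 1
    linear_combination (l - 1) * hl
  obtain ⟨θ, v, co⟩ : ∃ θ v, BSW.Coord (T.subgroupOf L) t θ 1 a k' v := by
    obtain ⟨θ, b, v, co⟩ := fr.exists_coord hC (isPGroup_subgroupOf f.syl.isPGroup L) hq hr e'
    rcases co.b_eq hC with rfl | rfl
    · exact ⟨_, _, zero_add (1 : GaloisField 2 m) ▸ co.symm⟩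
    · exact ⟨_, _, co⟩
  have hθ := co.theta_sq hC h3
  obtain ⟨c, d, e1⟩ := co.v_surj ⟨x, hle hx⟩ hx
  obtain ⟨c', d', e2⟩ := co.v_surj ⟨y, hle hy⟩ hy
  have s1 : x * x = a (c * θ c) := congrArg Subtype.val (e1 ▸ co.sq hC c d :
    (⟨x, hle hx⟩ : L) * ⟨x, hle hx⟩ = _)
  have s2 : y * y = a (c' * θ c') := congrArg Subtype.val (e2 ▸ co.sq hC c' d' :
    (⟨y, hle hy⟩ : L) * ⟨y, hle hy⟩ = _)
  have c0 : c ≠ 0 := by rintro rfl; exact x2 (by rw [s1, zero_mul, fr.a_zero]; rfl)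
  have c0' : c' ≠ 0 := by rintro rfl; exact y2 (by rw [s2, zero_mul, fr.a_zero]; rfl)
  have h4 : (⟨x, hle hx⟩ : L) * ⟨y, hle hy⟩ = ⟨y, hle hy⟩ * ⟨x, hle hx⟩ := Subtype.ext e
  rw [e1, e2, co.mul3 hC, co.mul3 hC] at h4
  have h5 : c' * θ c = c * θ c' := by
    have h6 := (co.inj hC h4).2
    have h7 : (1 + 1 : GaloisField 2 m) = 0 := CharTwo.add_self_eq_zero 1
    rw [h7] at h6
    linear_combination h6
  have h6 : θ (c / c') = c / c' := by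
    rw [map_div₀, div_eq_div_iff (by simpa using c0') c0']
    linear_combination h5
  have h7 := hθ (c / c')
  rw [h6, h6, pow_two] at h7
  have h8 : c = c' := (div_eq_one_iff_eq c0').1
    (mul_left_cancel₀ (div_ne_zero c0 c0') (h7.symm.trans (mul_one _).symm))
  rw [s1, s2, h8]

theorem exists_sq_mem (hT : IsPGroup 2 T) (h : ¬ T ≤ X) : ∃ s ∈ T, s ∉ X ∧ s * s ∈ X := by
  obtain ⟨t, ht, h1⟩ := SetLike.not_le_iff_exists.1 h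
  obtain ⟨k, hk⟩ := hT ⟨t, ht⟩
  have h2 : t ^ 2 ^ k ∈ X := by
    rw [show t ^ 2 ^ k = 1 from congrArg Subtype.val hk]; exact one_mem _
  clear hk
  induction k with
  | zero => exact absurd (by simpa using h2) h1
  | succ k ih =>
    by_cases h3 : t ^ 2 ^ k ∈ X
    · exact ih h3
    · exact ⟨_, pow_mem ht _, h3, by rwa [← pow_add, ← two_mul, ← pow_succ']⟩

omit [Finite G] in
theorem cent_mul (hA : A ≤ 𝐂(A)) (ha : a ∈ A) : 𝐂(A) ⊓ 𝐂[s * a] = 𝐂(A) ⊓ 𝐂[s] :=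
  Subgroup.ext fun g => and_congr_right fun hg => by
    change g ∈ 𝐂[s * a] ↔ g ∈ 𝐂[s]
    rw [mem_cent1_comm, mem_cent1_comm (g := g),
      mul_mem_cancel_right (mem_cent1_comm.1 (cent_le_cent1 ha hg))]

variable (kf3 : KF3.{u}) (h : DN A M)

include kf3 h in
theorem ti (hs : II A s) (ha : a ∈ A) (a1 : a ≠ 1) (hx : x ∈ 𝐂(A)) (x2 : PiElt {2} x)
    (h1 : x ∈ Nk M 𝐂[s]) (h2 : x ∈ Nk M 𝐂[s * a]) : x = 1 := by
  by_contra e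
  obtain ⟨r, hr, r1, r2⟩ := R1.exists_invol_mem ((isPGroup_zpowers_iff.2 x2).card_eq_or_dvd.resolve_left
    fun e' => e (by simpa using card_eq_one.1 e'))
  have h3 := zpowers_le.2 h1 hr
  obtain ⟨L, T, W, k, n, f⟩ := exists_k1 kf3 h hs
  have h4 : II A r := ⟨zpowers_le.2 hx hr, r2, fun e => r1 (f.free r h3 e)⟩
  exact a1 (Nk_free kf3 h h4 ha ((mul_mem_cancel_left (Nk_symm kf3 h hs h4 h3)).1
    (Nk_symm kf3 h (hs.mul h.toDSE ha) h4 (zpowers_le.2 h2 hr))))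

include kf3 h in
theorem comm_mem (hs : II A s) (hx : x ∈ 𝐂(A) ⊓ 𝐂[s]) (x2 : x * x = 1) (hy : y ∈ 𝐂(A) ⊓ 𝐂[s]) :
    ⁅x, y⁆ ∈ Nk M 𝐂[s] := by
  obtain ⟨L, T, W, k, n, f⟩ := exists_k1 kf3 h hs
  have hn := f.normal.norm
  refine (coset_commute_iff (hn hx.2) (hn hy.2)).1 (f.cent (mem_T f h.toDSE hs.le hy.2 hy.1) _
    ((f.mem _).2 ⟨mem_T f h.toDSE hs.le hx.2 hx.1, ?_⟩))
  rw [← coset_mul (hn hx.2) (hn hx.2), x2, coset_one]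

include kf3 h in
theorem zen (hs : II A s) (hQ : Syl 2 Q (𝐂(A) ⊓ 𝐂[s])) (hx : x ∈ Q) (x2 : x * x = 1) :
    x ∈ 𝐂(Q) := mem_cent_iff.2 fun y hy => by
  obtain ⟨a, ha, a1⟩ := h.toDSE.exists_ne
  have h1 := cent_mul (s := s) (abelem_le_cent h.elem) ha
  have h2 : ⁅x, y⁆ ∈ Q := der_le Q (commutator_mem_commutator hx hy)
  exact (commutatorElement_eq_one_iff_mul_comm.1 (ti kf3 h hs ha a1 (hQ.le h2).1
    (two_of_mem hQ.isPGroup h2) (comm_mem kf3 h hs (hQ.le hx) x2 (hQ.le hy))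
    (comm_mem kf3 h (hs.mul h.toDSE ha) (h1 ▸ hQ.le hx) x2 (h1 ▸ hQ.le hy)))).symm

/-- the local configuration -/
structure Cf (D : G → Prop) (A Q V : Subgroup G) (r : G) : Prop extends II A r where
  syl : Syl 2 Q (𝐂(A) ⊓ 𝐂[r])
  mem : ∀ x, x ∈ V ↔ x ∈ Q ∧ x * x = 1
  top : ∀ T : Subgroup G, IsPGroup 2 T → Q ≤ T → ∀ x ∈ T, D x → x ∈ Q

include kf3 h in
theorem exists_cf (hD : DS D) (t2 : t * t = 1) (ht : ¬ InD A t) : ∃ Q V r, Cf D A Q V r := by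
  obtain ⟨g, -, S, hS, h1, h2⟩ := h.toSC.exists_conj (le_top : A ≤ ⊤) le_top (two_elt t2)
  have hn := h.toSC.le_norm hS.isPGroup h1
  let B : Subgroup G :=
    { carrier := {x | x ∈ S ∧ D x}
      one_mem' := ⟨one_mem _, hD.one⟩
      mul_mem' := fun hx hy => ⟨mul_mem hx.1 hy.1, hD.mul hS.isPGroup hx.1 hy.1 hx.2 hy.2⟩
      inv_mem' := fun {x} hx => by rwa [← eq_inv_of_mul_eq_one_right (hD.sq hx.2)] }
  have h3 : B ≤ 𝐂(A) := fun x hx => h.ic x (hn hx.1) (hD.sq hx.2)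
  obtain ⟨r, hr, h4⟩ : ∃ r, II A r ∧ B ≤ 𝐂[r] := by
    by_cases e : B ≤ A
    · have h5 : II A (g * t * g⁻¹) := ⟨h.ic _ (hn (h2 (conj_mem_conj (mem_zpowers t))))
        (conj_sq t2 g), conj_sq t2 g, fun e => ht e.of_conj⟩
      exact ⟨_, h5, e.trans h5.le⟩
    · obtain ⟨r, hr, r1⟩ := SetLike.not_le_iff_exists.1 e
      refine ⟨r, ⟨h3 hr, hD.sq hr.2, fun e => r1 (h.toSC.mem_of_two hS.isPGroup h1 hr.1 e)⟩,
        fun x hx => mem_cent1.2 ?_⟩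
      have h5 := eq_inv_of_mul_eq_one_right (hD.sq (mul_mem hx hr : x * r ∈ B).2)
      rwa [mul_inv_rev, ← eq_inv_of_mul_eq_one_right (hD.sq hx.2),
        ← eq_inv_of_mul_eq_one_right (hD.sq hr.2)] at h5
  obtain ⟨Q, hQ, h5⟩ := exists_syl_ge (le_inf h3 h4) (hS.isPGroup.to_le fun _ e => e.1)
  refine ⟨Q,
    { carrier := {x | x ∈ Q ∧ x * x = 1}
      one_mem' := ⟨one_mem _, mul_one _⟩
      mul_mem' := fun {x y} hx hy => ⟨mul_mem hx.1 hy.1, by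
        rw [mul_assoc, ← mul_assoc y, zen kf3 h hr hQ hx.1 hx.2 y hy.1, mul_assoc, hy.2, mul_one,
          hx.2]⟩
      inv_mem' := fun {x} hx => ⟨inv_mem hx.1, by rw [← mul_inv_rev, hx.2, inv_one]⟩ },
    r, hr, hQ, fun _ => Iff.rfl, fun T hT h6 x hx d => h5 ?_⟩
  obtain ⟨y, -, h7⟩ := hS.exists_conj_le le_top hT
  have h8 : y ∈ 𝐍(B) := mem_norm_of_conj_mem fun b hb =>
    ⟨h7 (conj_mem_conj (h6 (h5 hb))), hD.conj hb.2 y⟩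
  exact (mem_norm_iff.1 h8 x).2 ⟨h7 (conj_mem_conj hx), hD.conj d y⟩

namespace Cf

variable (c : Cf D A Q V r)
include c

omit [Finite G] in
theorem V_le : V ≤ Q := fun x hx => ((c.mem x).1 hx).1

omit [Finite G] in
theorem sqV (hv : v ∈ V) : v * v = 1 := ((c.mem v).1 hv).2

omit [Finite G] in
theorem Q_le : Q ≤ 𝐂(A) := c.syl.le.trans inf_le_left

omit [Finite G] in
theorem norm_le : 𝐍(Q) ≤ 𝐍(V) := le_norm_iff.2 fun g hg x hx =>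
  (c.mem _).2 ⟨conj_mem_of_norm hg (c.V_le hx), conj_sq (c.sqV hx) g⟩

theorem r_mem : r ∈ V := (c.mem r).2 ⟨c.syl.mem_of_mem_norm ⟨c.cent, mem_cent1_self r⟩
  (cent_le_norm _ (mem_cent_iff.2 fun _ hx => mem_cent1.1 (c.syl.le hx).2))
  (isPGroup_zpowers_iff.1 (two_elt c.sq)), c.sq⟩

include h

theorem A_le : A ≤ V := fun a ha => (c.mem a).2 ⟨c.syl.le_of_norm
  (le_inf (abelem_le_cent h.elem) c.le) h.toSC.two (Or.inl (c.Q_le.trans (cent_le_norm _))) ha,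
  h.toSC.sq ha⟩

theorem ii (hv : v ∈ V) (h1 : v ∉ A) : II A v :=
  ⟨c.Q_le (c.V_le hv), c.sqV hv, fun e =>
    h1 (h.toSC.mem_of_two c.syl.isPGroup ((c.A_le h).trans c.V_le) (c.V_le hv) e)⟩

theorem mul (ha : a ∈ A) : Cf D A Q V (r * a) :=
  ⟨c.toII.mul h.toDSE ha, (cent_mul (abelem_le_cent h.elem) ha).symm ▸ c.syl, c.mem, c.top⟩

theorem kappa (ha : a ∈ A) (hb : b ∈ A) (a1 : a ≠ 1) (b1 : b ≠ 1) :
    ∃ k ∈ 𝐂[r] ⊓ 𝐍(A) ⊓ 𝐍(Q), k * a * k⁻¹ = b := by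
  obtain ⟨g, hg, e⟩ := h.toDSE.trans_in c.le (c.toII.big h) ha hb a1 b1
  have h1 : (𝐂(A) ⊓ 𝐂[r]) ⊴ 𝐂[r] ⊓ 𝐍(A) := ⟨le_inf inf_le_right (inf_le_left.trans (cent_le_norm _)),
    le_norm_inf (inf_le_right.trans (norm_le_norm_cent _)) (inf_le_left.trans le_normalizer)⟩
  obtain ⟨x, hx, m, hm, rfl⟩ := (c.syl.frattini h1).mem_iff.1 hg
  refine ⟨m, hm, ?_⟩
  have h2 := mem_cent_iff_conj.1 (inv_mem hx.1) b hb
  rw [← h2, ← e]; group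

include kf3

theorem cen : V ≤ 𝐂(Q) := fun _ hx => zen kf3 h c.toII c.syl (c.V_le hx) (c.sqV hx)

theorem Q_cent : Q ≤ 𝐂(V) := le_cent_comm.1 (c.cen kf3 h)

theorem elem : IsElementaryAbelian 2 V :=
  ⟨ab_iff_le_cent.2 (c.V_le.trans (c.Q_cent kf3 h)), fun a ha => by rw [pow_two, c.sqV ha]⟩

theorem move (hv : v ∈ V) (h1 : v ∉ A) : Cf D A Q V v := by
  obtain ⟨P, hP, h2⟩ := exists_syl_ge (le_inf c.Q_le ((c.Q_cent kf3 h).trans (cent_le_cent1 hv)))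
    c.syl.isPGroup
  have h3 := zen kf3 h (c.ii h hv h1) hP (h2 (c.V_le c.r_mem)) c.sq
  obtain rfl := c.syl.eq_of_le h2 (le_inf (hP.le.trans inf_le_left)
    fun x hx => mem_cent1.2 (h3 x hx)) hP.isPGroup
  exact ⟨c.ii h hv h1, hP, c.mem, c.top⟩

theorem mem_Q (hT : IsPGroup 2 T) (h1 : Q ≤ T) (h2 : T ≤ 𝐂(A)) (hy : y ∈ T) (hv : v ∈ V)
    (h3 : v ∉ A) (h4 : y ∈ 𝐂[v]) : y ∈ Q :=
  ((c.move kf3 h hv h3).syl.eq_of_le (le_inf h1 ((c.Q_cent kf3 h).trans (cent_le_cent1 hv)))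
    (inf_le_inf_right _ h2) (hT.to_le inf_le_left)).le ⟨hy, h4⟩

theorem split (hx : x ∈ Q) (x2 : x * x ∈ Nk M 𝐂[r]) : ∃ a ∈ A, a⁻¹ * x ∈ Nk M 𝐂[r] := by
  obtain ⟨L, T, W, k, n, f⟩ := exists_k1 kf3 h c.toII
  have hn := f.normal.norm
  have h1 := c.syl.le hx
  have h2 : coset _ x ∈ W := (f.mem _).2 ⟨mem_T f h.toDSE c.le h1.2 h1.1, by
    rw [← coset_mul (hn h1.2) (hn h1.2), coset_eq_one x2]⟩
  rw [W_eq f h.toDSE c.le] at h2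
  obtain ⟨a, ha, a1, e⟩ := mem_quo.1 h2
  exact ⟨a, ha, (coset_eq_iff a1 (hn h1.2)).1 e⟩

/-- the blocks partition `V - A` -/
theorem part (hv : v ∈ V) (h1 : v ∉ A) : ∃ a ∈ A, v ∈ Nk M 𝐂[r * a] ∧ r * a ∈ Nk M 𝐂[v] := by
  obtain ⟨a, ha, e⟩ := (c.move kf3 h hv h1).split kf3 h (c.V_le c.r_mem) (c.sq ▸ one_mem _)
  rw [c.cent _ (inv_mem ha)] at e
  exact ⟨_, inv_mem ha, Nk_symm kf3 h (c.ii h hv h1) (c.toII.mul h.toDSE (inv_mem ha)) e, e⟩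

omit kf3 h c in
theorem adjust (hS : Syl 2 S (𝐂(A) ⊓ 𝐍(V) ⊓ CM A V)) (hA : ∀ a ∈ A, a * a = 1)
    (hg : g ∈ 𝐍(A) ⊓ 𝐍(V)) : ∃ x ∈ 𝐂(A) ⊓ 𝐂(V), x * g ∈ 𝐍(S) := by
  have h1 : (𝐂(A) ⊓ 𝐍(V) ⊓ CM A V) ⊴ 𝐍(A) ⊓ 𝐍(V) :=
    ⟨inf_le_left.trans (inf_le_inf_right _ (cent_le_norm _)), le_norm_inf (le_norm_inf
      (inf_le_left.trans (norm_le_norm_cent _)) (inf_le_right.trans le_normalizer))
      (le_norm_CM inf_le_left inf_le_right)⟩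
  obtain ⟨x, hx, m, hm, rfl⟩ := (hS.frattini h1).mem_iff.1 hg
  obtain ⟨y, hy, z, hz, rfl⟩ := (Oup_isProd hS).mem_iff.1 hx
  have h4 : ∀ w ∈ 𝐂(A) ⊓ 𝐍(V) ⊓ CM A V, w ^ 2 ∈ 𝐂(V) := fun w hw =>
    mem_cent_iff_conj.2 fun v hv => by
      have h3 := hw.2.2 v hv
      calc _ = w * ⁅w, v⁆ * w⁻¹ * ⁅w, v⁆ * v := by simp only [commutatorElement_def, pow_two]; group
        _ = v := by rw [mem_cent_iff_conj.1 hw.1.1 _ h3, hA _ h3, one_mul]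
  have h2 : y ∈ 𝐂(A) ⊓ 𝐂(V) := ⟨(Oup_le _ _ hy).1.1, Oup_le_iff.2 (fun w hw ho =>
    zpowers_le.2 (h4 w hw) (mem_zpowers_pow_iff.2 ho.symm)) hy⟩
  exact ⟨y⁻¹, inv_mem h2, by
    rw [mul_assoc, inv_mul_cancel_left]; exact mul_mem (le_normalizer hz) hm.2⟩

omit kf3 h c in
theorem comm_mem_V (hy : y ∈ 𝐍(V)) (hv : v ∈ V) : ⁅y, v⁆ ∈ V :=
  mul_mem (conj_mem_of_norm hy hv) (inv_mem hv)

theorem mem_CM (hT : IsPGroup 2 T) (h1 : Q ≤ T) (h2 : T ≤ 𝐂(A) ⊓ 𝐍(V)) (hy : y ∈ T)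
    (y2 : y * y ∈ Q) : y ∈ CM A V := by
  refine ⟨cent_le_norm _ (h2 hy).1, fun v hv => by_contra fun e => ?_⟩
  have h3 := comm_mem_V (h2 hy).2 hv
  have h4 := c.Q_cent kf3 h (c.mem_Q kf3 h hT h1 (h2.trans inf_le_left) hy h3 e
    (mem_cent1_iff_conj.2 (by
      have h5 := mem_cent_iff_conj.1 (c.Q_cent kf3 h y2) v hv
      have h6 := eq_inv_of_mul_eq_one_right (c.sqV h3)
      calc _ = y * y * v * (y * y)⁻¹ * (y * v⁻¹ * y⁻¹) := by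
            simp only [commutatorElement_def]; group
        _ = _ := by rw [h5, h6]; simp only [commutatorElement_def]; group)))
  exact e (commutatorElement_eq_one_iff_mul_comm.2 (h4 v hv).symm ▸ one_mem A)

variable (hD : DS D)
include hD

theorem no_inv (hT : IsPGroup 2 T) (h1 : Q ≤ T) (h2 : T ≤ 𝐂(A) ⊓ 𝐍(V)) (hy : y ∈ T)
    (y2 : y * y = 1) : y ∈ Q := by
  by_contra e
  have h3 := c.mem_CM kf3 h hT h1 h2 hy (y2 ▸ one_mem Q)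
  obtain ⟨S, hS, h4⟩ := exists_syl_ge (show T ⊓ CM A V ≤ 𝐂(A) ⊓ 𝐍(V) ⊓ CM A V from
    inf_le_inf_right _ h2) (hT.to_le inf_le_left)
  have h5 : Q ≤ S := (le_inf h1 (le_CM_of_cent (c.Q_cent kf3 h) (c.Q_le.trans (cent_le_norm _)))).trans h4
  have h6 := h3.2 r c.r_mem
  have h7 : ⁅y, r⁆ ≠ 1 := fun e' => e (c.mem_Q kf3 h hT h1 (h2.trans inf_le_left) hy c.r_mem
    c.notMem (mem_cent1.2 (commutatorElement_eq_one_iff_mul_comm.1 e')))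
  obtain ⟨b, hb, b1, hab⟩ := exists_third (W := A) (by have := h.four; omega) ⁅y, r⁆
  obtain ⟨k, hk, e1⟩ := c.kappa h h6 hb h7 b1
  obtain ⟨x, hx, h8⟩ := adjust hS (fun _ => h.toSC.sq) ⟨hk.1.2, c.norm_le hk.2⟩
  have h9 := conj_mem_of_norm h8 (h4 ⟨hy, h3⟩)
  have h10 := c.Q_cent kf3 h (c.top S hS.isPGroup h5 _ (mul_mem h9 (h4 ⟨hy, h3⟩))
    (hD.om hS.isPGroup y2 (h4 ⟨hy, h3⟩) h9))
  have h11 : x * k * r * (x * k)⁻¹ = r :=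
    mem_cent1_iff_conj.1 (mul_mem (cent_le_cent1 c.r_mem hx.2) hk.1.1)
  have h12 := mem_cent_iff_conj.1 h10 _ (conj_mem_of_norm (h2 hy).2 c.r_mem)
  refine hab ?_
  calc b = x * (k * ⁅y, r⁆ * k⁻¹) * x⁻¹ := by rw [e1, mem_cent_iff_conj.1 hx.1 b hb]
    _ = x * k * y * (x * k)⁻¹ * (x * k * r * (x * k)⁻¹) * (x * k * y * (x * k)⁻¹)⁻¹ *
        (x * k * r * (x * k)⁻¹)⁻¹ := by simp only [commutatorElement_def]; group
    _ = x * k * y * (x * k)⁻¹ * (y * y * r * (y * y)⁻¹) * (x * k * y * (x * k)⁻¹)⁻¹ * r⁻¹ := by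
        rw [h11, y2]; group
    _ = _ := by rw [commutatorElement_def, ← h12]; group

theorem invol' (hT : IsPGroup 2 T) (h1 : Q ≤ T) (hy : y ∈ T) (y2 : y * y = 1) : y ∈ V := by
  have hA := (c.A_le h).trans c.V_le
  have h2 : ∀ x ∈ T ⊓ 𝐂(A) ⊓ 𝐍(V), x * x = 1 → x ∈ V := fun x hx x2 => (c.mem x).2
    ⟨c.no_inv kf3 h hD (hT.to_le (inf_le_left.trans inf_le_left))
      (le_inf (le_inf h1 c.Q_le) (le_normalizer.trans c.norm_le))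
      (inf_le_inf_right _ inf_le_right) hx x2, x2⟩
  have h3 := eq_of_nil_of_inf_norm_le (nil_of_isPGroup (hT.to_le (inf_le_left : T ⊓ 𝐂(A) ≤ T)))
    (inf_le_left : T ⊓ 𝐂(A) ⊓ 𝐍(V) ≤ _) fun g hg => ⟨hg.1, mem_norm_of_conj_mem fun v hv =>
      h2 _ (conj_mem_of_norm hg.2 ⟨⟨h1 (c.V_le hv), c.Q_le (c.V_le hv)⟩, le_normalizer hv⟩)
        (conj_sq (c.sqV hv) g)⟩
  exact h2 y (h3.ge ⟨hy, h.ic y (h.toSC.le_norm hT (hA.trans h1) hy) y2⟩) y2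

theorem invol (hT : IsPGroup 2 T) (h1 : V ≤ T) (hy : y ∈ T) (y2 : y * y = 1) : y ∈ V := by
  obtain ⟨S, hS, h2⟩ := exists_syl_ge (le_top : Q ≤ ⊤) c.syl.isPGroup
  obtain ⟨g, -, h3⟩ := hS.exists_conj_le le_top hT
  have h4 : ∀ x ∈ T, x * x = 1 → g * x * g⁻¹ ∈ V := fun x hx x2 =>
    c.invol' kf3 h hD hS.isPGroup h2 (h3 (conj_mem_conj hx)) (conj_sq x2 g)
  exact (mem_norm_iff.1 (mem_norm_of_conj_mem fun v hv => h4 v (h1 hv) (c.sqV hv)) y).2 (h4 y hy y2)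

theorem sc : SC V := ⟨c.elem kf3 h, fun _ hT h1 _ ha g e =>
  c.invol kf3 h hD hT h1 e (conj_sq (c.sqV ha) g)⟩

omit kf3 hD in
theorem norm_V : 𝐍(V) ≤ 𝐍(A) := le_norm_iff.2 fun g hg _ ha => h.toSC.mem_of_two
  c.syl.isPGroup ((c.A_le h).trans c.V_le) (c.V_le (conj_mem_of_norm hg (c.A_le h ha)))
  ((InD.of_mem ha).conj g)

theorem hall (ht : t ∈ 𝐂(A)) (t2 : t * t = 1) : ∃ g ∈ 𝐂(A), g * t * g⁻¹ ∈ V := by
  obtain ⟨S, hS, h2⟩ := exists_syl_ge c.Q_le c.syl.isPGroup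
  obtain ⟨g, hg, h3⟩ := hS.exists_conj_le (zpowers_le.2 ht) (two_elt t2)
  exact ⟨g, hg, c.invol' kf3 h hD hS.isPGroup h2 (h3 (conj_mem_conj (mem_zpowers t)))
    (conj_sq t2 g)⟩

end Cf

end Cfsg.Agent.I2.Ki
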