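import Cfsg.Agent.Lib.I2.KIb

/-!
# Package KI, part c: the components are Suzuki groups
-/

set_option autoImplicit false

namespace Cfsg.Agent.I2.Ki

open Subgroup Cfsg.Agent.OO Cfsg.Agent.Coprime Cfsg.Agent.SZ Cfsg.Agent.GW Cfsg.Agent.W4
open Cfsg.Agent.R4 (SC InD SzF exists_third Nk Nk_normal Nk_le conj_mem_Nk two_elt)
open scoped commutatorElement Pointwise

universe u

variable {G : Type u} [Group G] [Finite G] {D : G → Prop} {A H M N Q S T V X : Subgroup G}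
  {a b d g r s t v x y z : G}

theorem ncard_eq_mul' {α β : Type*} [Finite α] [Finite β] (U : Set α) (V : Set β) (R : α → β → Prop)
    (k : ℕ) (h1 : ∀ u ∈ U, ∃! v, v ∈ V ∧ R u v) (h2 : ∀ v ∈ V, {u ∈ U | R u v}.ncard = k) :
    U.ncard = V.ncard * k := by
  classical
  have := Finset.card_mul_eq_card_mul (s := U.toFinite.toFinset) (t := V.toFinite.toFinset) R
    (m := 1) (n := k) (fun u hu => by
      obtain ⟨v, hv, e⟩ := h1 u (by simpa using hu)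
      exact Finset.card_eq_one.2 ⟨v, Finset.ext fun w => by
        simpa using ⟨e w, fun e' => e' ▸ hv⟩⟩) fun v hv => by
      rw [← h2 v (by simpa using hv), ← Set.ncard_coe_finset]
      congr 1
      ext u
      simp
  rwa [mul_one, ← Set.ncard_eq_toFinset_card, ← Set.ncard_eq_toFinset_card] at this

omit [Finite G] in
theorem smul_mk : s • (g : G ⧸ M) = g ↔ g⁻¹ * s * g ∈ M := by
  rw [eq_comm, mul_assoc]; exact QuotientGroup.eq

omit [Finite G] in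
theorem mk_ne : (g : G ⧸ M) ≠ (1 : G) ↔ g ∉ M := by
  rw [Ne, QuotientGroup.eq, mul_one, inv_mem_iff]

variable (kf3 : KF3.{u}) (h : DN A M)

include h in
theorem ncard_fix (hs : II A s) : {w : G ⧸ M | s • w = w}.ncard = M.relIndex 𝐂[s] := by
  have := SE.relIndex_stabilizer 𝐂[s] ((1 : G) : G ⧸ M)
  rw [MulAction.stabilizer_quotient] at this
  rw [this]
  congr 1
  refine Set.ext fun w => ⟨fun e => ?_, ?_⟩
  · obtain ⟨g, rfl⟩ := QuotientGroup.mk_surjective w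
    obtain ⟨c, hc, e'⟩ := fix_mem h hs (smul_mk.1 e)
    exact ⟨c, hc, QuotientGroup.eq.2 (by simpa using e')⟩
  · rintro ⟨c, hc, rfl⟩
    change s • c • _ = _
    rw [smul_smul, ← mem_cent1.1 hc, ← smul_smul,
      smul_mk.2 (by simpa using h.toDSE.cent_A hs.cent)]

namespace Cf

variable (c : Cf D A Q V r) (hD : DS D)
include c h

theorem exists_two : ∃ T : Subgroup G, IsPGroup 2 T ∧ Q ≤ T ∧ T ≤ 𝐍(Q) ∧ ♯V * ♯A ∣ ♯T ∧
    ¬ T ≤ 𝐂[r] := by
  have hn := c.norm_le.trans (c.norm_V h)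
  let P : Subgroup G :=
    { carrier := {g | g ∈ 𝐍(Q) ∧ ⁅g, r⁆ ∈ A}
      one_mem' := ⟨one_mem _, by simp⟩
      mul_mem' := fun {x y} hx hy => ⟨mul_mem hx.1 hy.1, by
        rw [show ⁅x * y, r⁆ = x * ⁅y, r⁆ * x⁻¹ * ⁅x, r⁆ by simp only [commutatorElement_def]; group]
        exact mul_mem (conj_mem_of_norm (hn hx.1) hy.2) hx.2⟩
      inv_mem' := fun {x} hx => ⟨inv_mem hx.1, by
        rw [show ⁅x⁻¹, r⁆ = x⁻¹ * ⁅x, r⁆⁻¹ * x⁻¹⁻¹ by simp only [commutatorElement_def]; group]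
        exact conj_mem_of_norm (hn (inv_mem hx.1)) (inv_mem hx.2)⟩ }
  have h1 : Q ≤ 𝐂[r] ⊓ P := fun x hx => ⟨(c.syl.le hx).2, le_normalizer hx,
    commutatorElement_eq_one_iff_mul_comm.2 (mem_cent1.1 (c.syl.le hx).2) ▸ one_mem A⟩
  have h2 : (𝐂[r]).relIndex P = ♯A := by
    rw [relIndex_centralizer_eq_ncard, ← SetLike.coe_sort_coe, Nat.card_coe_set_eq,
      ← Set.ncard_image_of_injective A (mul_left_injective r)]
    congr 1
    refine Set.ext fun v => ⟨?_, ?_⟩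
    · rintro ⟨g, hg, rfl⟩
      exact ⟨_, hg.2, by simp only [commutatorElement_def]; group⟩
    · rintro ⟨b, hb, rfl⟩
      obtain ⟨g, hg, e⟩ := exists_shift h c.toII hb
      have h3 : (𝐂(A) ⊓ 𝐂[r]) ⊴ 𝐍(𝐂(A) ⊓ 𝐂[r]) := ⟨le_normalizer, le_rfl⟩
      obtain ⟨x, hx, m, hm, rfl⟩ := (c.syl.frattini h3).mem_iff.1
        (mem_norm_of_conj_mem (g := g) fun y hy => by
          rw [← cent_mul (s := r) (abelem_le_cent h.elem) hb, ← e, cent1_conj]
          exact ⟨conj_mem_of_norm (norm_le_norm_cent _ hg) hy.1, conj_mem_conj hy.2⟩)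
      have h4 : m * r * m⁻¹ = b * r := by
        have h5 := mem_cent1_iff_conj.1
          (((cent_mul (s := r) (abelem_le_cent h.elem) hb).ge (inv_mem hx)).2)
        rw [c.cent b hb, ← h5, ← e]; group
      exact ⟨m, ⟨hm.2, by rwa [commutatorElement_def, h4, mul_inv_cancel_right]⟩, h4.symm⟩
  obtain ⟨T, hT, h3⟩ := exists_syl_ge (h1.trans inf_le_right) c.syl.isPGroup
  obtain ⟨n, h4, h5⟩ := h.toDSE.exists_card
  refine ⟨T, hT.isPGroup, h3, fun _ e => (hT.le e).1, ?_, fun e => hT.not_dvd ?_⟩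
  · obtain ⟨j, hj⟩ := (c.syl.isPGroup.to_le c.V_le).exists_card_eq
    have h6 : ♯V * ♯A ∣ ♯T * T.relIndex P := by
      rw [card_mul_relIndex hT.le, ← card_inf_mul_relIndex 𝐂[r] P, h2]
      exact Nat.mul_dvd_mul_right (card_dvd_of_le (c.V_le.trans h1)) _
    refine Nat.Coprime.dvd_of_dvd_mul_right ?_ h6
    rw [hj, h5, ← pow_add]
    exact ((Nat.Prime.coprime_iff_not_dvd Nat.prime_two).2 hT.not_dvd).pow_left _
  · refine Dvd.dvd.trans ?_ (relIndex_dvd_of_le_left P e)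
    rw [h2, h5]
    exact dvd_pow_self 2 (by omega)

include kf3 hD

theorem dvd_off (hT : IsPGroup 2 T) (h1 : V ≤ T) {τ : ℕ} (hτ : M.relIndex 𝐂[r] = τ + 1) :
    ∃ m, ♯T ∣ m ∧ M.index = 1 + ♯A * τ + m := by
  have hn := (c.sc kf3 h hD).le_norm hT h1
  have hM := (hn.trans (c.norm_V h)).trans h.norm
  have h0 : ∀ t ∈ M, t • ((1 : G) : G ⧸ M) = (1 : G) := fun t ht => smul_mk.2 (by simpa using ht)
  have h2 : ∀ a ∈ A, ∀ w : G ⧸ M, w ≠ (1 : G) → a • w = w → a = 1 := fun a ha w w1 e => by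
    obtain ⟨g, rfl⟩ := QuotientGroup.mk_surjective w
    by_contra a1
    exact mk_ne.1 w1 (inv_mem_iff.1 (h.toDSE.mem (h.toDSE.A_le ha) (.of_mem ha) a1
      (by simpa using smul_mk.1 e)))
  refine ⟨{w : G ⧸ M | w ≠ (1 : G) ∧ ∀ v ∈ V, v • w = w → v = 1}.ncard,
    SE.dvd_ncard_of_free (fun e he w hw => ⟨fun e' => hw.1 ?_, fun v hv e' => ?_⟩)
      fun e he w hw e' => by_contra fun e1 => ?_, ?_⟩
  · rw [← inv_smul_smul e w, e', h0 _ (inv_mem (hM he))]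
  · refine R4.conj_eq_one_iff.1 (hw.2 _ (conj_mem_of_norm (hn (inv_mem he)) hv) ?_)
    rw [inv_inv, mul_smul, mul_smul, e', inv_smul_smul]
  · obtain ⟨x, hx, x1, x2⟩ := R1.exists_invol_mem
      ((hT.to_le (zpowers_le.2 he)).card_eq_or_dvd.resolve_left
        fun e' => e1 (by simpa using card_eq_one.1 e'))
    exact x1 (hw.2 x (c.invol kf3 h hD hT h1 (zpowers_le.2 he hx) x2)
      (zpowers_le.2 (MulAction.mem_stabilizer_iff.2 e') hx))
  have h3 := ncard_eq_mul' {w : G ⧸ M | w ≠ (1 : G) ∧ ∃ a ∈ A, (r * a) • w = w} A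
    (fun w a => (r * a) • w = w) τ (fun w ⟨w1, a, ha, e⟩ => ⟨a, ⟨ha, e⟩, fun b hb => by
      refine (inv_mul_eq_one.1 (h2 _ (mul_mem (inv_mem ha) hb.1) w w1 ?_)).symm
      rw [show a⁻¹ * b = (r * a)⁻¹ * (r * b) by group, mul_smul, hb.2, inv_smul_eq_iff, e]⟩)
    fun a ha => by
      have h4 := ncard_fix h (c.toII.mul h.toDSE ha)
      rw [relIndex_mul h c.toII ha, hτ, ← Set.ncard_sdiff_singleton_add_one
        (s := {w : G ⧸ M | (r * a) • w = w}) (a := ((1 : G) : G ⧸ M))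
        (h0 _ (h.toDSE.cent_A (c.toII.mul h.toDSE ha).cent))] at h4
      rw [← Nat.succ_injective h4]
      congr 1
      exact Set.ext fun w => ⟨fun e => ⟨e.2, e.1.1⟩, fun e => ⟨⟨e.2, a, ha, e.1⟩, e.1⟩⟩
  rw [← Nat.card_coe_set_eq (A : Set G), SetLike.coe_sort_coe] at h3
  rw [← h3, index, ← Set.ncard_univ, ← Set.ncard_sdiff_singleton_add_one
    (Set.mem_univ ((1 : G) : G ⧸ M)), add_assoc, add_comm, ← Set.ncard_union_eq]
  · congr 2
    refine Set.ext fun w => ⟨fun e => or_iff_not_imp_right.2 fun e' => ⟨e.2, ?_⟩,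
      fun e => ⟨trivial, e.elim And.left And.left⟩⟩
    obtain ⟨g, rfl⟩ := QuotientGroup.mk_surjective w
    obtain ⟨v, hv, e1, v1⟩ : ∃ v ∈ V, v • (g : G ⧸ M) = g ∧ v ≠ 1 := by
      by_contra! e1
      exact e' ⟨e.2, e1⟩
    have h4 : v ∉ A := fun e2 => v1 (h2 v e2 _ e.2 e1)
    obtain ⟨a, ha, -, h5⟩ := c.part kf3 h hv h4
    obtain ⟨x, hx, h6⟩ := fix_mem h (c.ii h hv h4) (smul_mk.1 e1)
    refine ⟨a, ha, smul_mk.2 ?_⟩
    convert mul_mem (mul_mem (inv_mem h6) (h5.2 _ (inv_mem hx))) h6 using 1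
    group
  · exact Set.disjoint_left.2 fun w ⟨_, a, ha, e⟩ e' => (c.toII.mul h.toDSE ha).ne
      (e'.2 _ (mul_mem c.r_mem (c.A_le h ha)) e)

omit kf3 hD in
theorem two_dvd : 2 * ♯A ∣ ♯V := by
  obtain ⟨j, hj⟩ := (c.syl.isPGroup.to_le c.V_le).exists_card_eq
  obtain ⟨n, -, hn⟩ := h.toDSE.exists_card
  have := card_lt_of_lt (lt_of_le_of_ne (c.A_le h) fun e => c.notMem (e ▸ c.r_mem))
  rw [hj, hn] at this ⊢
  rw [← pow_succ']
  exact pow_dvd_pow 2 ((Nat.pow_lt_pow_iff_right one_lt_two).1 this)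

theorem not_lin : M.relIndex 𝐂[r] ≠ ♯A + 1 := fun e => by
  obtain ⟨T, hT, h1, -, h2, -⟩ := c.exists_two h
  obtain ⟨m, h3, h4⟩ := c.dvd_off kf3 h hD hT (c.V_le.trans h1) e
  have h5 := ((Nat.mul_dvd_mul_right (c.two_dvd h) _).trans h2).trans h3
  rw [count h c.toII e] at h4
  obtain ⟨n, h6, hn⟩ := h.toDSE.exists_card
  obtain ⟨p, hp⟩ : ∃ p, ♯A = 2 * p + 2 :=
    ⟨2 ^ (n - 1) - 1, by
      have := Nat.two_pow_pos (n - 1)
      rw [hn, show n = n - 1 + 1 by omega, pow_succ, Nat.add_sub_cancel]; omega⟩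
  rw [hp] at h4 h5
  rw [show 2 * p + 2 - 1 = 2 * p + 1 from rfl] at h4
  rw [show m = (2 * p + 1) * ((2 * p + 2) * (2 * p + 2)) by nlinarith, mul_assoc,
    Nat.mul_dvd_mul_iff_right (by positivity)] at h5
  omega

theorem exists_sz : ∃ L T W k n, K1F A M 𝐂[r] (Nk M 𝐂[r]) L T W k n ∧ SzF L T W k n := by
  obtain ⟨L, T, W, k, n, f⟩ := exists_k1 kf3 h c.toII
  refine ⟨L, T, W, k, n, f, f.type.resolve_left fun e => c.not_lin kf3 h hD ?_⟩
  rw [f.idx, e.1, card_W f h.toDSE c.le]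

end Cf

end Cfsg.Agent.I2.Ki
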