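import Cfsg.Agent.Lib.I2.KIc

/-!
# Package KI, part d: the structure of `Q`, and `N(A) / C(A)` has odd order
-/

set_option autoImplicit false

namespace Cfsg.Agent.I2.Ki

open Subgroup Cfsg.Agent.OO Cfsg.Agent.Coprime Cfsg.Agent.SZ Cfsg.Agent.GW Cfsg.Agent.W4
open Cfsg.Agent.R4 (SC InD SzF exists_third Nk Nk_normal Nk_le conj_mem_Nk two_elt)
open scoped commutatorElement Pointwise

universe u

variable {G : Type u} [Group G] [Finite G] {D : G → Prop} {A H M N Q S T V X : Subgroup G}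
  {a b d g r s t v w x y z : G}

namespace Cf

variable (kf3 : KF3.{u}) (h : DN A M) (c : Cf D A Q V r) (hD : DS D)
include c h kf3

theorem coset_inj (ha : a ∈ A) (hb : b ∈ A) (e : coset (Nk M 𝐂[r]) a = coset (Nk M 𝐂[r]) b) :
    a = b := by
  have hn := c.le.trans (Nk_normal M 𝐂[r]).norm
  exact inv_mul_eq_one.1 (Nk_free kf3 h c.toII (mul_mem (inv_mem ha) hb)
    ((coset_eq_iff (hn ha) (hn hb)).1 e))

theorem exists_coset (hx : x ∈ Q) : ∃ a ∈ A, coset (Nk M 𝐂[r]) a = coset (Nk M 𝐂[r]) (x * x) := by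
  obtain ⟨L, T, W, k, n, f⟩ := exists_k1 kf3 h c.toII
  have h1 := c.syl.le hx
  have h2 := f.sq _ (mem_T f h.toDSE c.le h1.2 h1.1)
  rw [← coset_mul (f.normal.norm h1.2) (f.normal.norm h1.2), W_eq f h.toDSE c.le] at h2
  exact (mem_quo.1 h2).imp fun _ e => ⟨e.1, e.2.2⟩

include hD

theorem sq_eq_one (hx : x ∈ Q) (h1 : x ∈ Nk M 𝐂[r]) : x * x = 1 := by
  by_contra x2
  obtain ⟨a0, ha0, a01⟩ := h.toDSE.exists_ne
  have c' := c.mul h ha0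
  obtain ⟨L, T, W, k, n, f, f'⟩ := c'.exists_sz kf3 h hD
  have hn := (c'.syl.le.trans inf_le_right).trans f.normal.norm
  have hn' := c'.le.trans f.normal.norm
  obtain ⟨a, ha, e⟩ := c'.exists_coset kf3 h hx
  have a1 : a ≠ 1 := by
    rintro rfl
    exact x2 (ti kf3 h c.toII ha0 a01 (c.Q_le (mul_mem hx hx))
      (two_of_mem c.syl.isPGroup (mul_mem hx hx)) (mul_mem h1 h1)
      ((coset_eq_one_iff (hn (mul_mem hx hx))).1 (e ▸ coset_one _)))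
  obtain ⟨b, hb, b1, h2, h3⟩ : ∃ b ∈ A, b ≠ 1 ∧ b ≠ a0 ∧ (a ≠ a0 → b = a) := by
    by_cases e : a = a0
    · obtain ⟨b, hb, b1, h2⟩ := exists_third (W := A) (by have := h.four; omega) a0
      exact ⟨b, hb, b1, h2, fun e' => absurd e e'⟩
    · exact ⟨a, ha, a1, e, fun _ => rfl⟩
  obtain ⟨k, hk, e1⟩ := c'.kappa h ha0 hb a01 b1
  have h4 := conj_mem_of_norm hk.2 hx
  have h5 := conj_mem_Nk (h.norm hk.1.2) h1
  have h6 : k * r * k⁻¹ = r * (a0 * b⁻¹) := by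
    rw [← mul_assoc, ← mem_cent1_iff_conj.1 hk.1.1, ← e1]; group
  rw [← cent1_conj, h6] at h5
  have h7 := mul_mem ha0 (inv_mem hb)
  have h8 : ⁅x, k * x * k⁻¹⁆ = 1 := by
    have h8 : ⁅x, k * x * k⁻¹⁆ ∈ Q := der_le Q (commutator_mem_commutator hx h4)
    refine ti kf3 h c.toII h7 (fun e => h2 (mul_inv_eq_one.1 e).symm) (c.Q_le h8)
      (two_of_mem c.syl.isPGroup h8) ?_ ?_
    · rw [commutatorElement_def, mul_assoc, mul_assoc, ← mul_assoc _ x⁻¹]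
      exact mul_mem h1 ((Nk_normal M _).conj_mem (c.syl.le h4).2 (inv_mem h1))
    · exact mul_mem ((Nk_normal M _).conj_mem ((c.mul h h7).syl.le hx).2 h5) (inv_mem h5)
  have h9 := conj_mem_of_norm hk.1.2 ha
  have k1 := f.normal.norm hk.1.1
  have e2 : coset (Nk M 𝐂[r * a0]) x * coset _ x = coset _ a := by rw [e, coset_mul (hn hx) (hn hx)]
  have e3 : coset (Nk M 𝐂[r * a0]) (k * x * k⁻¹) * coset _ (k * x * k⁻¹) = coset _ (k * a * k⁻¹) := by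
    rw [coset_conj k1 (hn hx), conj_mul, e2, coset_conj k1 (hn' ha)]
  have h10 := sz_comm f' (mem_T f h.toDSE c'.le (c'.syl.le hx).2 (c.Q_le hx))
    (mem_T f h.toDSE c'.le (c'.syl.le h4).2 (c.Q_le h4))
    (fun e => a1 (c'.coset_inj kf3 h ha (one_mem _) (by rw [← e2, e, coset_one])))
    (fun e => BSW.conj_ne_one a1 (c'.coset_inj kf3 h h9 (one_mem _) (by rw [← e3, e, coset_one])))
    ((coset_commute_iff (hn hx) (hn h4)).2 (h8 ▸ one_mem _))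
  rw [e2, e3] at h10
  have h11 := c'.coset_inj kf3 h ha h9 h10
  by_cases e4 : a = a0
  · exact h2 (by rw [← e1, ← e4, ← h11])
  · exact e4 (by simpa using h11.symm.trans ((h3 e4).symm.trans e1.symm))

theorem sq_mem (hx : x ∈ Q) : x * x ∈ A := by
  by_contra e
  have h1 := mul_mem hx hx
  have h2 : ∀ s, Cf D A Q V s → x * x * (x * x) ∈ Nk M 𝐂[s] := fun s c => by
    have hn := (c.syl.le.trans inf_le_right).trans (Nk_normal M 𝐂[s]).norm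
    have hn' := c.le.trans (Nk_normal M 𝐂[s]).norm
    obtain ⟨a, ha, e⟩ := c.exists_coset kf3 h hx
    rw [← coset_eq_one_iff (hn (mul_mem h1 h1)), coset_mul (hn h1) (hn h1), ← e,
      ← coset_mul (hn' ha) (hn' ha), h.toSC.sq ha, coset_one]
  obtain ⟨a0, ha0, a01⟩ := h.toDSE.exists_ne
  have h3 := (c.mem _).2 ⟨h1, ti kf3 h c.toII ha0 a01 (c.Q_le (mul_mem h1 h1))
    (two_of_mem c.syl.isPGroup (mul_mem h1 h1)) (h2 r c) (h2 _ (c.mul h ha0))⟩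
  obtain ⟨a, ha, h4, -⟩ := c.part kf3 h h3 e
  obtain ⟨b, hb, h5⟩ := (c.mul h ha).split kf3 h hx h4
  have h6 := (c.mul h ha).sq_eq_one kf3 h hD (mul_mem (inv_mem (c.V_le (c.A_le h hb))) hx) h5
  rw [h.toSC.inv_eq hb, mul_assoc, ← mul_assoc x, ← c.Q_le hx b hb, mul_assoc, ← mul_assoc b,
    h.toSC.sq hb, one_mul] at h6
  exact e (h6 ▸ one_mem A)

theorem sq_inj (hx : x ∈ Q) (hy : y ∈ Q) (e : x * x = y * y) : x⁻¹ * y ∈ V := by
  obtain ⟨L, T, W, k, n, f, f'⟩ := c.exists_sz kf3 h hD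
  have hn := (c.syl.le.trans inf_le_right).trans f.normal.norm
  have h1 := mul_mem (inv_mem hx) hy
  have h2 := f'.sq_inj _ (mem_T f h.toDSE c.le (c.syl.le hx).2 (c.Q_le hx)) _
    (mem_T f h.toDSE c.le (c.syl.le hy).2 (c.Q_le hy))
    (by rw [← coset_mul (hn hx) (hn hx), e, coset_mul (hn hy) (hn hy)])
  rw [← coset_inv, ← coset_mul (hn (inv_mem hx)) (hn hy)] at h2
  refine (c.mem _).2 ⟨h1, c.coset_inj kf3 h (c.sq_mem kf3 h hD h1) (one_mem _) ?_⟩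
  rw [coset_mul (hn h1) (hn h1), ((f.mem _).1 h2).2, coset_one]

theorem cent_le (hd : d ∈ Q) (h1 : d ∉ V) (hw : w ∈ Q) (e : d * w = w * d) (h2 : w ∉ V) :
    d⁻¹ * w ∈ V := by
  obtain ⟨L, T, W, k, n, f, f'⟩ := c.exists_sz kf3 h hD
  have hn := (c.syl.le.trans inf_le_right).trans f.normal.norm
  have h3 : ∀ x ∈ Q, x ∉ V → coset (Nk M 𝐂[r]) x * coset _ x ≠ 1 := fun x hx x1 e => x1
    ((c.mem x).2 ⟨hx, c.coset_inj kf3 h (c.sq_mem kf3 h hD hx) (one_mem _) (by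
      rw [coset_mul (hn hx) (hn hx), e, coset_one])⟩)
  refine c.sq_inj kf3 h hD hd hw (c.coset_inj kf3 h (c.sq_mem kf3 h hD hd) (c.sq_mem kf3 h hD hw) ?_)
  rw [coset_mul (hn hd) (hn hd), coset_mul (hn hw) (hn hw)]
  exact sz_comm f' (mem_T f h.toDSE c.le (c.syl.le hd).2 (c.Q_le hd))
    (mem_T f h.toDSE c.le (c.syl.le hw).2 (c.Q_le hw)) (h3 d hd h1) (h3 w hw h2)
    (by rw [← coset_mul (hn hd) (hn hw), e, coset_mul (hn hw) (hn hd)])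

theorem not_ab : ¬ Ab Q := fun e => by
  obtain ⟨L, T, W, k, n, f, f'⟩ := c.exists_sz kf3 h hD
  exact f'.not_ab (syl_quo f h.toDSE c.le c.syl ▸ ab_quo e _)

theorem card_Q : ♯Q = ♯V * ♯A := by
  obtain ⟨L, T, W, k, n, f, f'⟩ := c.exists_sz kf3 h hD
  have hn := (c.syl.le.trans inf_le_right).trans f.normal.norm
  have h1 := card_inf_mul_card_quo hn
  have h2 := card_inf_mul_card_quo (c.V_le.trans hn)
  have h3 : V ⁒ Nk M 𝐂[r] = W := le_antisymm (fun w hw => by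
    obtain ⟨v, hv, v1, rfl⟩ := mem_quo.1 hw
    exact (f.mem _).2 ⟨mem_T f h.toDSE c.le (c.syl.le (c.V_le hv)).2 (c.Q_le (c.V_le hv)), by
      rw [← coset_mul v1 v1, c.sqV hv, coset_one]⟩)
    (W_eq f h.toDSE c.le ▸ quo_mono _ (c.A_le h))
  have h4 : Nk M 𝐂[r] ⊓ Q = Nk M 𝐂[r] ⊓ V := le_antisymm
    (fun x hx => ⟨hx.1, (c.mem x).2 ⟨hx.2, c.sq_eq_one kf3 h hD hx.2 hx.1⟩⟩)
    (inf_le_inf_left _ c.V_le)
  rw [syl_quo f h.toDSE c.le c.syl, h4, f'.cardT, ← f'.cardW] at h1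
  rw [← h1, ← h2, h3, ← card_W f h.toDSE c.le]
  ring

theorem exists_sqrt (ha : a ∈ A) (a1 : a ≠ 1) : ∃ x ∈ Q, x * x = a := by
  obtain ⟨x, hx, x1⟩ := SetLike.not_le_iff_exists.1 fun e : Q ≤ V =>
    c.not_ab kf3 h hD (ab_iff_le_cent.2 (e.trans (c.cen kf3 h)))
  obtain ⟨k, hk, e⟩ := c.kappa h (c.sq_mem kf3 h hD hx) ha (fun e => x1 ((c.mem x).2 ⟨hx, e⟩)) a1
  exact ⟨_, conj_mem_of_norm hk.2 hx, by rw [conj_mul, e]⟩

theorem comm_A (hx : x ∈ Q) (hy : y ∈ Q) : ⁅x, y⁆ ∈ A := by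
  rw [show ⁅x, y⁆ = x * x * (x⁻¹ * y * (x⁻¹ * y)) * (y⁻¹ * y⁻¹) by
    simp only [commutatorElement_def]; group]
  exact mul_mem (mul_mem (c.sq_mem kf3 h hD hx) (c.sq_mem kf3 h hD (mul_mem (inv_mem hx) hy)))
    (c.sq_mem kf3 h hD (inv_mem hy))

theorem exists_I (hd : d ∈ Q) (h1 : d ∉ V) : ∃ I ≤ A, 2 * ♯I = ♯A ∧ d * d ∉ I ∧
    ∀ b, b ∈ I ↔ ∃ w ∈ Q, ⁅w, d⁆ = b := by
  have hc := fun {x y} (hx : x ∈ Q) (hy : y ∈ Q) => c.comm_A kf3 h hD hx hy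
  let I : Subgroup G :=
    { carrier := {b | ∃ w ∈ Q, ⁅w, d⁆ = b}
      one_mem' := ⟨1, one_mem _, by simp⟩
      mul_mem' := by
        rintro _ _ ⟨x, hx, rfl⟩ ⟨y, hy, rfl⟩
        refine ⟨y * x, mul_mem hy hx, ?_⟩
        rw [← mem_cent_iff_conj.1 (c.Q_le hy) _ (hc hx hd)]
        simp only [commutatorElement_def]; group
      inv_mem' := by
        rintro _ ⟨x, hx, rfl⟩
        exact ⟨x, hx, (h.toSC.inv_eq (hc hx hd)).symm⟩ }
  have h2 : (𝐂[d]).relIndex Q = ♯I := by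
    rw [relIndex_centralizer_eq_ncard, ← SetLike.coe_sort_coe, Nat.card_coe_set_eq,
      ← Set.ncard_image_of_injective I (mul_left_injective d)]
    congr 1
    refine Set.ext fun v => ⟨?_, ?_⟩
    · rintro ⟨g, hg, rfl⟩
      exact ⟨_, ⟨g, hg, rfl⟩, by simp only [commutatorElement_def]; group⟩
    · rintro ⟨_, ⟨g, hg, rfl⟩, rfl⟩
      exact ⟨g, hg, by simp only [commutatorElement_def]; group⟩
  have h3 : V ≤ 𝐂[d] ⊓ Q := le_inf ((c.cen kf3 h).trans (cent_le_cent1 hd)) c.V_le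
  have h4 : V.relIndex (𝐂[d] ⊓ Q) = 2 := relIndex_eq_two_iff_exists_notMem_and'.2 ⟨d⁻¹,
    inv_mem ⟨mem_cent1_self d, hd⟩, by rwa [inv_mem_iff], fun w hw => or_iff_not_imp_right.2
      (c.cent_le kf3 h hD hd h1 hw.2 (mem_cent1.1 hw.1).symm)⟩
  refine ⟨I, ?_, ?_, ?_, fun _ => Iff.rfl⟩
  · rintro _ ⟨x, hx, rfl⟩
    exact hc hx hd
  · have h5 := card_inf_mul_relIndex 𝐂[d] Q
    rw [h2, ← card_mul_relIndex h3, h4, c.card_Q kf3 h hD, mul_assoc] at h5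
    exact Nat.eq_of_mul_eq_mul_left Nat.card_pos h5
  · rintro ⟨x, hx, e⟩
    suffices e' : x⁻¹ * x⁻¹ = x⁻¹ * d * (x⁻¹ * d) from h1 (by
      simpa using c.sq_inj kf3 h hD (inv_mem hx) (mul_mem (inv_mem hx) hd) e')
    calc _ = x⁻¹ * x⁻¹ * (d * d * (d * d)) := by rw [h.toSC.sq (c.sq_mem kf3 h hD hd), mul_one]
      _ = x⁻¹ * x⁻¹ * (⁅x, d⁆ * (d * d)) := by rw [e]
      _ = _ := by simp only [commutatorElement_def]; group

omit hD in
theorem sq_mul (hx : x ∈ Q) (hv : v ∈ V) : x * v * (x * v) = x * x := by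
  rw [mul_assoc, ← mul_assoc v, ← c.cen kf3 h hv x hx, mul_assoc, c.sqV hv, mul_one]

theorem conj_Q (hg : g ∈ 𝐍(Q)) (h1 : g ∈ 𝐂(A)) (hx : x ∈ Q) : x⁻¹ * (g * x * g⁻¹) ∈ V :=
  c.sq_inj kf3 h hD hx (conj_mem_of_norm hg hx)
    (by rw [conj_mul, mem_cent_iff_conj.1 h1 _ (c.sq_mem kf3 h hD hx)])

theorem cent_of_sq (hy : y ∈ 𝐍(Q)) (y2 : y * y ∈ 𝐂(A)) : y ∈ 𝐂(A) := by
  refine mem_cent_iff_conj.2 fun a ha => by_contra fun e => ?_
  obtain ⟨x, hx, rfl⟩ := c.exists_sqrt kf3 h hD ha (by rintro rfl; simp at e)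
  have h1 := mul_mem (inv_mem hx) (conj_mem_of_norm hy hx)
  have h2 := c.conj_Q kf3 h hD (mul_mem hy hy) y2 hx
  generalize hd : x⁻¹ * (y * x * y⁻¹) = d at h1
  have e1 : y * x * y⁻¹ = x * d := by rw [← hd]; group
  have h3 : d ∉ V := fun e' => e (by rw [← conj_mul, e1, c.sq_mul kf3 h hx e'])
  obtain ⟨I, h4, h5, h6, h7⟩ := c.exists_I kf3 h hD h1 h3
  have h8 : y ∈ 𝐍(I) := mem_norm_of_conj_mem fun b hb => by
    obtain ⟨w, hw, rfl⟩ := (h7 b).1 hb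
    refine (h7 _).2 ⟨_, conj_mem_of_norm hy hw, ?_⟩
    have h9 := mul_mem (inv_mem (c.A_le h (c.sq_mem kf3 h hD h1))) h2
    have e2 : y * d * y⁻¹ = d * ((d * d)⁻¹ * (x⁻¹ * (y * y * x * (y * y)⁻¹))) := by
      rw [← hd]; group
    generalize (d * d)⁻¹ * (x⁻¹ * (y * y * x * (y * y)⁻¹)) = v at h9 e2
    calc _ = y * w * y⁻¹ * d * (v * (y * w * y⁻¹)⁻¹ * v⁻¹) * d⁻¹ := by
          rw [mem_cent_iff_conj.1 (c.cen kf3 h h9) _ (inv_mem (conj_mem_of_norm hy hw)),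
            commutatorElement_def]
      _ = y * w * y⁻¹ * (d * v) * (y * w * y⁻¹)⁻¹ * (d * v)⁻¹ := by group
      _ = _ := by rw [← e2]; simp only [commutatorElement_def]; group
  have h9 : I.relIndex A = 2 := Nat.eq_of_mul_eq_mul_left (Nat.card_pos (α := I))
    (by rw [card_mul_relIndex h4, ← h5, mul_comm])
  have h10 := conj_mem_of_norm (c.norm_V h (c.norm_le hy)) ha
  have h11 : (x * x)⁻¹ * (y * (x * x) * y⁻¹) ∈ I := (mul_mem_iff_of_index_two (H := I.subgroupOf A) h9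
    (a := ⟨_, inv_mem ha⟩) (b := ⟨_, h10⟩)).2 (inv_mem_iff.trans (mem_norm_iff.1 h8 _))
  refine h6 ((mul_mem_cancel_left ((h7 _).2 ⟨x⁻¹, inv_mem hx, rfl⟩)).1 ?_)
  convert h11 using 1
  rw [← conj_mul, e1]
  simp only [commutatorElement_def]; group

omit hD in
theorem Q_eq (hT : IsPGroup 2 T) (h1 : Q ≤ T) : T ⊓ 𝐂(V) = Q :=
  c.syl.eq_of_le (le_inf h1 (c.Q_cent kf3 h)) (inf_le_right.trans (le_inf (cent_anti (c.A_le h))
    (cent_le_cent1 c.r_mem))) (hT.to_le inf_le_left)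

theorem le_norm (hT : IsPGroup 2 T) (h1 : Q ≤ T) : T ≤ 𝐍(Q) := by
  rw [← c.Q_eq kf3 h hT h1]
  exact le_norm_inf le_normalizer
    (((c.sc kf3 h hD).le_norm hT (c.V_le.trans h1)).trans (norm_le_norm_cent V))

theorem cenA : Cen A := fun g hg g2 => by
  obtain ⟨S, hS, h1⟩ := exists_syl_ge (c.Q_le.trans (cent_le_norm _)) c.syl.isPGroup
  obtain ⟨y, hy, h2⟩ := hS.exists_conj_le (zpowers_le.2 hg) (isPGroup_zpowers_iff.2 g2)
  have h3 : S ≤ 𝐂(A) := by_contra fun e =>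
    let ⟨_, hz, z1, z2⟩ := exists_sq_mem hS.isPGroup e
    z1 (c.cent_of_sq kf3 h hD (c.le_norm kf3 h hD hS.isPGroup h1 hz) z2)
  exact (mem_norm_iff.1 (norm_le_norm_cent _ hy) g).2 (h3 (h2 (conj_mem_conj (mem_zpowers g))))

end Cf

end Cfsg.Agent.I2.Ki
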