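import Cfsg.Agent.Lib.I2.KId

/-!
# Package KI, part f: the structure of a Sylow 2-subgroup
-/

set_option autoImplicit false

namespace Cfsg.Agent.I2.Ki

open Subgroup Cfsg.Agent.OO Cfsg.Agent.Coprime Cfsg.Agent.SZ Cfsg.Agent.GW Cfsg.Agent.W4
open Cfsg.Agent.R4 (SC InD SzF exists_third Nk Nk_normal Nk_le conj_mem_Nk two_elt)
open scoped commutatorElement Pointwise

universe u

variable {G : Type u} [Group G] [Finite G] {D : G → Prop} {A H M N Q S T V X : Subgroup G}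
  {a b d g r s t v w x y z : G}

omit [Finite G] in
theorem comm_conj (hg : g ∈ 𝐂[r]) : ⁅g * y * g⁻¹, r⁆ = g * ⁅y, r⁆ * g⁻¹ := by
  nth_rw 1 [← mem_cent1_iff_conj.1 hg]
  simp only [commutatorElement_def]; group

omit [Finite G] in
theorem cent_of_comm_eq (e : ⁅x, r⁆ = ⁅y, r⁆) : x⁻¹ * y ∈ 𝐂[r] := mem_cent1_iff_conj.2 (by
  calc _ = x⁻¹ * (⁅y, r⁆ * r) * x := by simp only [commutatorElement_def]; group
    _ = r := by rw [← e]; simp only [commutatorElement_def]; group)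

namespace Cf

variable (kf3 : KF3.{u}) (h : DN A M) (c : Cf D A Q V r) (hD : DS D) (hS : Syl 2 S ⊤) (hQ : Q ≤ S)
include c h kf3 hD hS hQ

theorem S_norm : S ≤ 𝐍(V) := (c.sc kf3 h hD).le_norm hS.isPGroup (c.V_le.trans hQ)

theorem S_cent : S ≤ 𝐂(A) := fun g hg => c.cenA kf3 h hD g (c.norm_V h (c.S_norm kf3 h hD hS hQ hg))
  (two_of_mem hS.isPGroup hg)

theorem mem_Q' (hy : y ∈ S) (hv : v ∈ V) (h3 : v ∉ A) (h4 : y ∈ 𝐂[v]) : y ∈ Q :=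
  c.mem_Q kf3 h hS.isPGroup hQ (c.S_cent kf3 h hD hS hQ) hy hv h3 h4

theorem syl_CM : Syl 2 (S ⊓ (𝐂(A) ⊓ 𝐍(V) ⊓ CM A V)) (𝐂(A) ⊓ 𝐍(V) ⊓ CM A V) :=
  (hS.mono (c.S_norm kf3 h hD hS hQ) le_top).inf_normal ⟨inf_le_left.trans inf_le_right,
    le_norm_inf (le_norm_inf ((c.norm_V h).trans (norm_le_norm_cent _)) le_normalizer)
      (le_norm_CM (c.norm_V h) le_rfl)⟩

theorem onto (hb : b ∈ A) : ∃ y ∈ S ⊓ CM A V, ⁅y, r⁆ = b := by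
  by_cases b1 : b = 1
  · exact ⟨1, one_mem _, by simp [b1]⟩
  obtain ⟨T, hT, h1, h2, -, h3⟩ := c.exists_two h
  have h4 : T ≤ 𝐂(A) ⊓ 𝐍(V) := fun g hg => ⟨c.cenA kf3 h hD g (c.norm_V h (c.norm_le (h2 hg)))
    (two_of_mem hT hg), c.norm_le (h2 hg)⟩
  obtain ⟨y, hy, y1, y2⟩ := exists_sq_mem hT h3
  have h5 := c.mem_CM kf3 h hT h1 h4 hy (c.mem_Q kf3 h hT h1 (h4.trans inf_le_left) (mul_mem hy hy)
    c.r_mem c.notMem y2)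
  obtain ⟨k, hk, e⟩ := c.kappa h (h5.2 r c.r_mem) hb
    (fun e => y1 (mem_cent1.2 (commutatorElement_eq_one_iff_mul_comm.1 e))) b1
  have h6 := c.syl_CM kf3 h hD hS hQ
  obtain ⟨P, hP, h7⟩ := exists_syl_ge (show zpowers y ≤ 𝐂(A) ⊓ 𝐍(V) ⊓ CM A V from
    zpowers_le.2 ⟨h4 hy, h5⟩) (hT.to_le (zpowers_le.2 hy))
  obtain ⟨g, hg, rfl⟩ := h6.exists_conj' hP
  obtain ⟨x, hx, h8⟩ := adjust h6 (fun _ => h.toSC.sq) (g := k * g)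
    (mul_mem ⟨hk.1.2, c.norm_le hk.2⟩ ⟨cent_le_norm _ hg.1.1, hg.1.2⟩)
  have h9 := conj_mem_of_norm h8 (mem_conj.1 (h7 (mem_zpowers y)))
  rw [show x * (k * g) * (g⁻¹ * y * g) * (x * (k * g))⁻¹ = x * (k * y * k⁻¹) * x⁻¹ by group] at h9
  exact ⟨_, ⟨h9.1, h9.2.2⟩, by rw [comm_conj (cent_le_cent1 c.r_mem hx.2), comm_conj hk.1.1, e,
    mem_cent_iff_conj.1 hx.1 b hb]⟩

theorem S_CM : S ≤ CM A V := fun y hy => by
  have hn := c.S_norm kf3 h hD hS hQ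
  have h1 := conj_mem_of_norm (hn hy) c.r_mem
  obtain ⟨a, ha, h2⟩ := c.split kf3 h (c.V_le h1) (c.sqV h1 ▸ one_mem _)
  have h3 := mul_mem (inv_mem (c.A_le h ha)) h1
  have h4 : a⁻¹ * (y * r * y⁻¹) ∉ A := fun e => (c.toII.conj (c.norm_V h (hn hy))).notMem
    ((mul_mem_cancel_left (inv_mem ha)).1 e)
  generalize e1 : a⁻¹ * (y * r * y⁻¹) = s at h2 h3 h4
  obtain ⟨z, hz, e⟩ := (c.move kf3 h h3 h4).onto kf3 h hD hS hQ (inv_mem ha)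
  have h5 : z * y * r * (z * y)⁻¹ = s := by
    calc _ = z * a * z⁻¹ * (⁅z, s⁆ * s) := by rw [← e1]; simp only [commutatorElement_def]; group
      _ = s := by rw [mem_cent_iff_conj.1 (c.S_cent kf3 h hD hS hQ hz.1) a ha, e, mul_inv_cancel_left]
  have h6 := mul_mem hz.1 hy
  have h7 : zpowers (z * y) ≤ 𝐍(V ⊓ Nk M 𝐂[r]) := zpowers_le.2 (mem_norm_of_conj_mem fun x hx => by
    have h7 := conj_mem_of_norm (hn h6) hx.1
    have h8 := conj_mem_Nk (h.norm (c.norm_V h (hn h6))) hx.2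
    rw [← cent1_conj, h5] at h8
    exact ⟨h7, Nk_trans kf3 h (c.ii h h3 h4) c.toII (Nk_symm kf3 h c.toII (c.ii h h3 h4) h2)
      (c.Q_le (c.V_le h7)) (c.syl.le (c.V_le h7)).2 h8⟩)
  obtain ⟨x, hx, x1⟩ := exists_mem_ne_one (inf_cent_ne_bot_of_isPGroup
    (hS.isPGroup.to_le (zpowers_le.2 h6)) (c.syl.isPGroup.to_le (inf_le_left.trans c.V_le)) h7
    fun e => c.ne (mem_bot.1 (e ▸ mem_inf.2 ⟨c.r_mem, self_mem h c.cent⟩)))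
  have h8 := c.mem_Q' kf3 h hD hS hQ h6 hx.1.1 (fun e => x1 (Nk_free kf3 h c.toII e hx.1.2))
    (mem_cent1.2 (hx.2 _ (mem_zpowers _)))
  exact (mul_mem_cancel_left (mem_inf.1 hz).2).1
    (le_CM_of_cent (c.Q_cent kf3 h) (c.Q_le.trans (cent_le_norm _)) h8)

theorem sq_Q (hy : y ∈ S) : y * y ∈ Q := by
  refine c.mem_Q' kf3 h hD hS hQ (mul_mem hy hy) c.r_mem c.notMem (mem_cent1_iff_conj.2 ?_)
  have h1 := (c.S_CM kf3 h hD hS hQ hy).2 r c.r_mem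
  calc _ = y * ⁅y, r⁆ * y⁻¹ * ⁅y, r⁆ * r := by simp only [commutatorElement_def]; group
    _ = r := by rw [mem_cent_iff_conj.1 (c.S_cent kf3 h hD hS hQ hy) _ h1, h.toSC.sq h1, one_mul]

theorem adjust' (hg : g ∈ 𝐍(V)) : ∃ x ∈ 𝐂(A) ⊓ 𝐂(V), x * g ∈ 𝐍(S) :=
  adjust (hS.mono (le_inf (le_inf (c.S_cent kf3 h hD hS hQ) (c.S_norm kf3 h hD hS hQ))
    (c.S_CM kf3 h hD hS hQ)) le_top) (fun _ => h.toSC.sq) ⟨c.norm_V h hg, hg⟩

theorem kappa' (ha : a ∈ A) (hb : b ∈ A) (a1 : a ≠ 1) (b1 : b ≠ 1) :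
    ∃ k ∈ 𝐂[r] ⊓ 𝐍(V) ⊓ 𝐍(S), k * a * k⁻¹ = b := by
  obtain ⟨k, hk, e⟩ := c.kappa h ha hb a1 b1
  obtain ⟨x, hx, h1⟩ := c.adjust' kf3 h hD hS hQ (c.norm_le hk.2)
  exact ⟨x * k, ⟨⟨mul_mem (cent_le_cent1 c.r_mem hx.2) hk.1.1,
    mul_mem (cent_le_norm _ hx.2) (c.norm_le hk.2)⟩, h1⟩, by
      rw [← mem_cent_iff_conj.1 hx.1 b hb, ← e]; group⟩

theorem sq_mul' (hy : y ∈ S) (hz : z ∈ S) (e : ⁅y, r⁆ = ⁅z, r⁆) : ∃ v ∈ V, z * z = y * y * v := by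
  have h1 := c.mem_Q' kf3 h hD hS hQ (mul_mem (inv_mem hy) hz) c.r_mem c.notMem (cent_of_comm_eq e)
  have h2 := c.conj_Q kf3 h hD (c.le_norm kf3 h hD hS.isPGroup hQ (inv_mem hy))
    (c.S_cent kf3 h hD hS hQ (inv_mem hy)) h1
  refine ⟨_, mul_mem (c.A_le h (c.sq_mem kf3 h hD h1)) h2, ?_⟩
  rw [mul_assoc (y⁻¹ * z), c.cen kf3 h h2 _ h1]
  group

theorem caseA (hy : y ∈ S) (h1 : y ∉ Q) (h2 : y * y ∈ V) (hz : z ∈ S) : z * z ∈ A := by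
  by_cases e : z ∈ Q
  · exact c.sq_mem kf3 h hD e
  have h3 : ∀ x ∈ S, x ∉ Q → ⁅x, r⁆ ≠ 1 := fun x hx x1 e => x1 (c.mem_Q' kf3 h hD hS hQ hx c.r_mem
    c.notMem (mem_cent1.2 (commutatorElement_eq_one_iff_mul_comm.1 e)))
  obtain ⟨k, hk, e1⟩ := c.kappa' kf3 h hD hS hQ ((c.S_CM kf3 h hD hS hQ hy).2 r c.r_mem)
    ((c.S_CM kf3 h hD hS hQ hz).2 r c.r_mem) (h3 y hy h1) (h3 z hz e)
  obtain ⟨v, hv, e2⟩ := c.sq_mul' kf3 h hD hS hQ (conj_mem_of_norm hk.2 hy) hz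
    (by rw [comm_conj hk.1.1, e1])
  by_contra e3
  exact e (c.mem_Q' kf3 h hD hS hQ hz (by
    rw [e2, conj_mul]; exact mul_mem (conj_mem_of_norm hk.1.2 h2) hv) e3
    (mem_cent1.2 (mul_assoc z z z).symm))

theorem exists_out : ∃ y ∈ S, y ∉ Q := by
  obtain ⟨a, ha, a1⟩ := h.toDSE.exists_ne
  obtain ⟨y, hy, e⟩ := c.onto kf3 h hD hS hQ ha
  exact ⟨y, hy.1, fun e' => a1 (e ▸ commutatorElement_eq_one_iff_mul_comm.2
    (mem_cent1.1 (c.syl.le e').2))⟩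

variable (hB : ∀ y ∈ S, y * y ∈ V → y ∈ Q)
include hB

theorem four_le : 4 * ♯A ≤ ♯V := by
  by_contra e
  obtain ⟨y, hy, y1⟩ := c.exists_out kf3 h hD hS hQ
  obtain ⟨I, h1, h2, -, h3⟩ := c.exists_I kf3 h hD (c.sq_Q kf3 h hD hS hQ hy) (mt (hB y hy) y1)
  have h4 : A.relIndex V = 2 := by
    obtain ⟨m, hm⟩ := c.two_dvd h
    have h5 : 0 < ♯V := Nat.card_pos
    have h6 : 0 < ♯A := Nat.card_pos
    refine Nat.eq_of_mul_eq_mul_left h6 ?_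
    obtain rfl : m = 1 := by
      rcases m with _ | _ | m
      · omega
      · rfl
      · exact absurd (by nlinarith) e
    rw [card_mul_relIndex (c.A_le h), hm]; ring
  have h5 := (c.S_CM kf3 h hD hS hQ hy).2 r c.r_mem
  have h6 : ∀ a ∈ A, ⁅y, a⁆ = 1 := fun a ha =>
    commutatorElement_eq_one_iff_mul_comm.2 (c.S_cent kf3 h hD hS hQ hy a ha).symm
  have h7 : I ≤ zpowers ⁅y, r⁆ := fun b hb => by
    obtain ⟨w, hw, rfl⟩ := (h3 b).1 hb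
    have h8 := c.conj_Q kf3 h hD (c.le_norm kf3 h hD hS.isPGroup hQ hy) (c.S_cent kf3 h hD hS hQ hy)
      (inv_mem hw)
    rw [inv_inv] at h8
    have e1 : ⁅w, y * y⁆ = ⁅y, w * (y * w⁻¹ * y⁻¹)⁆ := by
      rw [commutatorElement_def y, ← eq_inv_of_mul_eq_one_right (c.sqV h8), abelem_le_cent
        (c.elem kf3 h) h8 _ (conj_mem_of_norm (c.S_norm kf3 h hD hS hQ hy) h8),
        commutatorElement_def]
      group
    rw [e1]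
    generalize w * (y * w⁻¹ * y⁻¹) = v at h8
    by_cases e2 : v ∈ A
    · rw [h6 v e2]; exact one_mem _
    · have h9 : v * r ∈ A := (mul_mem_iff_of_index_two (H := A.subgroupOf V) h4
        (a := ⟨v, h8⟩) (b := ⟨r, c.r_mem⟩)).2 (iff_of_false e2 c.notMem)
      rw [show ⁅y, v⁆ = ⁅y, v * r⁆ * (v * r * ⁅y, r⁻¹⁆ * (v * r)⁻¹) by
        simp only [commutatorElement_def]; group, h6 _ h9, one_mul,
        ← eq_inv_of_mul_eq_one_right c.sq, mem_cent_iff_conj.1 (abelem_le_cent h.elem h9) _ h5]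
      exact mem_zpowers _
  have h8 := card_le_of_le h7
  have h9 := orderOf_le_of_pow_eq_one two_pos (show ⁅y, r⁆ ^ 2 = 1 by rw [pow_two, h.toSC.sq h5])
  rw [Nat.card_zpowers] at h8
  have := h.eight
  omega

theorem conj_S (hg : g ∈ 𝐍(S)) (h1 : g ∈ 𝐂(A)) (hy : y ∈ S) : ⁅y, r⁆ = ⁅g * y * g⁻¹, r⁆ := by
  have h2 : ∀ a : A, ∃ y ∈ S, ⁅y, r⁆ = a := fun a =>
    (c.onto kf3 h hD hS hQ a.2).imp fun _ e => ⟨e.1.1, e.2⟩
  choose Y hY hY' using h2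
  have h3 : ∀ y ∈ S, y * y * (y * y) ∈ A := fun y hy =>
    c.sq_mem kf3 h hD (c.sq_Q kf3 h hD hS hQ hy)
  have h4 : ∀ y ∈ S, ⁅y, r⁆ ∈ A := fun y hy => (c.S_CM kf3 h hD hS hQ hy).2 r c.r_mem
  let F : A → A := fun a => ⟨_, h3 _ (hY a)⟩
  have h5 : ∀ y (hy : y ∈ S), F ⟨_, h4 y hy⟩ = y * y * (y * y) := fun y hy => by
    obtain ⟨v, hv, e⟩ := c.sq_mul' kf3 h hD hS hQ hy (hY ⟨_, h4 y hy⟩) (hY' ⟨_, h4 y hy⟩).symm
    change _ * _ * (_ * _) = _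
    rw [e, c.sq_mul kf3 h (c.sq_Q kf3 h hD hS hQ hy) hv]
  have h6 : Function.Surjective F := fun b => by
    by_cases b1 : (b : G) = 1
    · exact ⟨_, Subtype.ext ((h5 1 (one_mem _)).trans (by simp [b1]))⟩
    obtain ⟨z, hz, z1⟩ := c.exists_out kf3 h hD hS hQ
    obtain ⟨k, hk, e⟩ := c.kappa' kf3 h hD hS hQ (h3 z hz) b.2
      (fun e => z1 (hB z hz ((c.mem _).2 ⟨c.sq_Q kf3 h hD hS hQ hz, e⟩))) b1
    exact ⟨_, Subtype.ext ((h5 _ (conj_mem_of_norm hk.2 hz)).trans (by rw [conj_mul, conj_mul, e]))⟩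
  exact congrArg Subtype.val (Finite.injective_iff_surjective.2 h6 (a₁ := ⟨_, h4 y hy⟩)
    (a₂ := ⟨_, h4 _ (conj_mem_of_norm hg hy)⟩) (Subtype.ext (by
      rw [h5 y hy, h5 _ (conj_mem_of_norm hg hy), conj_mul, conj_mul,
        mem_cent_iff_conj.1 h1 _ (h3 y hy)])))

theorem comm_A' (hg : g ∈ 𝐂(A) ⊓ 𝐍(V)) (hv : v ∈ V) : g * v * g⁻¹ * v⁻¹ ∈ A := by
  obtain ⟨x, hx, h1⟩ := c.adjust' kf3 h hD hS hQ hg.2
  have h2 := mul_mem hx.1 hg.1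
  have h3 := conj_mem_of_norm hg.2 hv
  have e0 : g * v * g⁻¹ = x * g * v * (x * g)⁻¹ := by
    rw [← mem_cent_iff_conj.1 hx.2 _ h3]; group
  rw [e0] at h3 ⊢
  clear e0
  generalize x * g = m at *
  obtain ⟨y, hy, y1⟩ := c.exists_out kf3 h hD hS hQ
  by_contra e
  refine y1 (c.mem_Q' kf3 h hD hS hQ hy (mul_mem h3 (inv_mem hv)) e (mem_cent1_iff_conj.2 ?_))
  have h4 := c.Q_cent kf3 h (c.mem_Q' kf3 h hD hS hQ (mul_mem (inv_mem hy) (conj_mem_of_norm h1 hy))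
    c.r_mem c.notMem (cent_of_comm_eq (c.conj_S kf3 h hD hS hQ hB h1 h2 hy)))
  have h5 := mem_cent_iff_conj.1 h4 _ h3
  have h6 := mem_cent_iff_conj.1 h2 _ ((c.S_CM kf3 h hD hS hQ hy).2 v hv)
  have h7 := c.Q_le (c.V_le (mul_mem h3 (inv_mem hv))) _ ((c.S_CM kf3 h hD hS hQ hy).2 v hv)
  calc _ = y * (m * v * m⁻¹) * y⁻¹ * (y * v⁻¹ * y⁻¹) := by group
    _ = m * ⁅y, v⁆ * m⁻¹ * (m * v * m⁻¹ * v⁻¹) * ⁅y, v⁆⁻¹ := by
      nth_rw 1 [← h5]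
      simp only [commutatorElement_def]; group
    _ = _ := by rw [h6, h7, mul_inv_cancel_right]

theorem pnil : PNil 2 𝐂(A) := ZG.pnil_two fun R hR h2 g hg hn ho =>
  hD.pp' R g h2 hn ho fun x hx x2 => by
    obtain ⟨y, hy, h3⟩ := (hS.mono (c.S_cent kf3 h hD hS hQ) le_top).exists_conj_le hR h2
    have h4 : ∀ z ∈ R, z * z = 1 → y * z * y⁻¹ ∈ V := fun z hz z2 =>
      c.invol' kf3 h hD hS.isPGroup hQ (h3 (conj_mem_conj hz)) (conj_sq z2 y)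
    obtain ⟨n, hn', e⟩ := (c.sc kf3 h hD).fuse (c.V_le.trans c.Q_le) (h4 x hx x2)
      (mul_mem (mul_mem hy hg) (inv_mem hy)) (by
        convert h4 _ (conj_mem_of_norm hn hx) (conj_sq x2 g) using 1; group)
    have h5 := c.comm_A' kf3 h hD hS hQ hB hn' (h4 x hx x2)
    rw [← e] at h5
    have h6 := mem_cent_iff_conj.1 (inv_mem hy) _ h5
    rw [← h6, show y⁻¹ * (y * g * y⁻¹ * (y * x * y⁻¹) * (y * g * y⁻¹)⁻¹ * (y * x * y⁻¹)⁻¹) * y⁻¹⁻¹ =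
      g * x * g⁻¹ * x⁻¹ by group] at h5
    refine zpowers_le.2 (mem_cent1_iff_conj.2 ?_)
      (mem_zpowers_pow_iff.2 (Nat.coprime_two_left.2 ho))
    calc _ = g * (g * x * g⁻¹ * x⁻¹) * g⁻¹ * (g * x * g⁻¹ * x⁻¹) * x := by rw [pow_two]; group
      _ = x := by rw [mem_cent_iff_conj.1 hg _ h5, h.toSC.sq h5, one_mul]

end Cf

end Cfsg.Agent.I2.Ki
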