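import Cfsg.Agent.Lib.I2.KIgc

/-!
# Package KI, steps (7) and (8): the blocks form an impossible geometry
-/

set_option autoImplicit false

namespace Cfsg.Agent.I2.Kg

open Subgroup Cfsg.Agent.OO Cfsg.Agent.Coprime Cfsg.Agent.SZ Cfsg.Agent.GW Cfsg.Agent.W4
open Cfsg.Agent.R4 (SC InD two_elt exists_pow_conj)
open scoped commutatorElement Pointwise

universe u

variable {G : Type u} [Group G] [Finite G] {A H M N P S T V X Y : Subgroup G}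
  {a c f g k m r s t u v w x y : G} {n : ℕ}

namespace Hy

variable (h : Hy A M S V)
include h

/-- an element moving an involution of the pointwise stabilizer into it stabilizes the block -/
theorem mem_St (hr : r ∈ V) (h1 : r ∉ A) (ht : t ∈ Pw M r) (t1 : t ≠ 1) (t2 : t * t = 1)
    (e : g * t * g⁻¹ ∈ Pw M r) : g ∈ St M r := by
  have h2 := Pw_le (h.V_le_M hr)
  have h3 := h.fx_of_Pw hr h1 (h.mem_V (h2 ht) t2) ht t1
  exact St_congr h3 ▸ Kg.mem_St ((h.fx_of_Pw hr h1 (h.mem_V (h2 e) (conj_sq t2 g)) e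
    (BSW.conj_ne_one t1)).trans h3.symm)

variable (hr : r ∈ V) (h1 : r ∉ A) (hk : Kk A M S r k)
include hr h1 hk

theorem semireg : Semiregular A (zpowers k) := fun y hy y1 => eq_bot_iff.2 fun a ha =>
  h.free hr h1 ha.1 (hk.le_Pw y hy y1 ⟨⟨h.le ha.1, h.A_le_St hr ha.1⟩, ha.2⟩)

omit hr h1 in
theorem card_k : ♯A - 1 ≤ ♯(zpowers k) :=
  let ⟨a, ha, a1⟩ := h.toDSE.exists_ne
  card_le_of_trans (zpowers_le.2 (h.M_le hk.mem)) ha a1 fun b hb b1 =>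
    let ⟨j, e⟩ := hk.cyc a ha b hb a1 b1; ⟨_, npow_mem_zpowers k j, e⟩

/-- an element centralizing a large part of the Singer cycle acts as an element of it -/
theorem exists_pow (hn : ♯A = 2 ^ n) (hP : P ≤ zpowers k) (hc : ♯A - 1 ≤ ♯P * n) (hg : g ∈ M)
    (e : ∀ y ∈ P, y⁻¹ * (g * y * g⁻¹) ∈ 𝐂(A)) : ∃ j : ℕ, (k ^ j)⁻¹ * g ∈ S := by
  obtain ⟨a, ha, a1⟩ := h.toDSE.exists_ne
  have h2 := h.M_le hk.mem
  obtain ⟨j, hj⟩ := hk.cyc a ha _ (conj_mem_of_norm (h.M_le hg) ha) a1 (BSW.conj_ne_one a1)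
  refine ⟨j, h.cent_eq ▸ mem_cent_of h.toSC.two hn (hP.trans (zpowers_le.2 h2))
    ((h.semireg hr h1 hk).mono le_rfl hP) hc (mul_mem (inv_mem (pow_mem h2 j)) (h.M_le hg))
    (fun y hy => ?_) ha a1 (mem_cent1_iff_conj.2 ?_)⟩
  · have h3 := ab_iff.1 (inferInstance : Ab (zpowers k)) _ (inv_mem (hP hy)) _ (inv_mem (npow_mem_zpowers k j))
    convert conj_mem_of_norm' (norm_le_norm_cent A (pow_mem h2 j)) (e y hy) using 1
    simp only [← mul_assoc, mul_inv_rev, inv_inv, h3]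
  · calc _ = (k ^ j)⁻¹ * (g * a * g⁻¹) * k ^ j := by group
      _ = a := by rw [← hj]; group

theorem cent_le_M (hn : ♯A = 2 ^ n) (hP : P ≤ zpowers k) (hc : ♯A - 1 ≤ ♯P * n) : 𝐂(P) ≤ M := by
  have r1 : r ≠ 1 := fun e => h1 (e ▸ one_mem _)
  obtain ⟨y, hy, y1⟩ := exists_mem_ne_one (H := P) fun e => by
    have := h.eight
    rw [e, card_bot, hn] at hc
    rw [hn] at this
    obtain ⟨m, rfl⟩ : ∃ m, n = m + 1 := ⟨n - 1, by rcases n with _ | n <;> simp at this ⊢⟩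
    have := Nat.lt_two_pow_self (n := m)
    omega
  have h2 : 𝐂(P) ⊓ St M r ≤ M := fun g hg => hk.le_M y (hP hy) y1 ⟨hg.2, cent_le_cent1 hy hg.1⟩
  have h3 : ∀ g ∈ S, g ∈ 𝐂(P) → g ∈ St M r → g ∈ Pw M r := fun g e1 e2 e3 =>
    hk.le_Pw y (hP hy) y1 ⟨⟨e1, e3⟩, cent_le_cent1 hy e2⟩
  have h4 : Pw M r ≤ 𝐂(P) := le_cent_comm.1 (hP.trans (zpowers_le.2 hk.cent))
  have h5 : IsPGroup 2 (Pw M r) := h.syl.isPGroup.to_le (h.Pw_le_S hr h1)
  have h6 : Syl 2 (Pw M r) 𝐂(P) := .of_syl_norm h4 (syl_of_max (le_inf h4 le_normalizer) h5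
    fun U e1 e2 e3 => le_antisymm (fun z hz => by
      have e4 := h.mem_St hr h1 self_mem r1 (h.sq hr) (conj_mem_of_norm (e2 hz).2 self_mem)
      exact h3 z (h.mem_S (h2 ⟨(e2 hz).1, e4⟩) (two_of_mem e3 hz)) (e2 hz).1 e4) e1)
  have h7 : ∀ g ∈ 𝐂(P), g ∈ St M r → Odd (orderOf g) → g ∈ 𝐂(Pw M r) := fun g e1 e2 e3 => by
    obtain ⟨j, hj⟩ := h.exists_pow hr h1 hk hn hP hc (h2 ⟨e1, e2⟩) fun y hy => by
      rw [mem_cent_iff_conj.1 e1 y hy, inv_mul_cancel]; exact one_mem _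
    have e4 := inv_mem (pow_mem hk.cent j)
    have e5 := h3 _ hj (mul_mem (inv_mem (pow_mem (le_cent_comm.1 (hP.trans
      (le_centralizer _)) (mem_zpowers k)) j)) e1) (mul_mem (cent_le_St (cent_le_cent1 self_mem e4)) e2)
    have e6 : Commute (k ^ j)⁻¹ g := by
      have := mem_cent_iff.1 e4 _ e5
      rw [mul_assoc] at this
      exact (mul_left_cancel this).symm
    rw [← inv_mul_eq_one.1 (h.eq_one hj (odd_elt.2
      (((odd_elt.1 hk.odd).pow j).inv.mul_of_commute (odd_elt.1 e3) e6)))]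
    exact pow_mem hk.cent j
  have h8 : PNil 2 𝐂(P) := ZG.pnil_two fun R hR R2 g hg g1 g2 => by
    by_cases R0 : R = ⊥
    · rw [R0, cent_bot]; trivial
    obtain ⟨c, hc, e⟩ := h6.exists_conj_le hR R2
    obtain ⟨t, ht, t1, t2⟩ := R1.exists_invol_mem (H := R) (by
      obtain ⟨i, hi⟩ := R2.exists_card_eq
      exact hi ▸ dvd_pow_self 2 (by rintro rfl; exact R0 (card_eq_one.1 hi)))
    have e1 := cent_anti e (h7 (c * g * c⁻¹) (mul_mem (mul_mem hc hg) (inv_mem hc))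
      (h.mem_St hr h1 (e (conj_mem_conj ht)) (BSW.conj_ne_one t1) (conj_sq t2 c) (by
        convert e (conj_mem_conj (conj_mem_of_norm g1 ht)) using 1; group))
      (by rwa [orderOf_conj]))
    rw [cent_conj, mem_conj] at e1
    simpa [mul_assoc] using e1
  refine le_trans (le_inf le_rfl ?_) h2
  rw [← (h8.sdprod h6).sup_eq]
  exact sup_le (h.le_St hr h1 (odd_O _) (inf_le_left.trans (h4.trans (O_norm _)))) Pw_normal.le

omit hr h1 hk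

theorem even_swap (hu : u ∉ M) (u1 : InD A u) : 2 ∣ ♯(M ⊓ u •ᶜ M : Subgroup G) := by
  by_contra ho
  obtain ⟨r, hr, h1⟩ := h.exists_r
  obtain ⟨k, hk⟩ := h.exists_k hr h1
  obtain ⟨n, n2, hn⟩ := h.toDSE.exists_card
  obtain ⟨a, ha, a1⟩ := h.toDSE.exists_ne
  have u2 := h.toSC.sqD u1
  have hA : A ≠ ⊥ := fun e => a1 (mem_bot.1 (e ▸ ha))
  have h2 : u ∈ 𝐍(M ⊓ u •ᶜ M) := by
    rw [← conj_eq_self_iff, conj_inf, conj_conj, u2, one_conj, inf_comm]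
  have h3 : ∀ a ∈ A, a ≠ 1 → ∀ b ∈ A, b ≠ 1 → ∃ y ∈ M ⊓ u •ᶜ M, y * a * y⁻¹ = b :=
    fun a ha a1 b hb b1 => by
      obtain ⟨w, -, w1, e1, e2⟩ := h.toDSE.exists_swap hu u1 (h.A_le ha) (.of_mem ha) a1 (h.A_le hb)
        (.of_mem hb) b1
      refine ⟨u * w, ⟨e1, mem_conj.2 ?_⟩, e2⟩
      convert inv_mem e1 using 1
      rw [mul_inv_rev, GW.inv_eq (h.toSC.sqD w1), inv_mul_cancel_left, GW.inv_eq u2]
  have h4 : ∀ t ∈ M, t * t = 1 → u⁻¹ * t * u ∈ M → t = 1 := fun t e1 e2 e3 => by_contra fun t1 =>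
    ho (orderOf_eq_prime ((pow_two t).trans e2) t1 ▸ orderOf_dvd_natCard _ (mem_inf.2 ⟨e1, mem_conj.2 e3⟩))
  have hX : M ⊓ u •ᶜ M ≤ M := inf_le_left
  generalize M ⊓ u •ᶜ M = X at ho h2 h3 hX
  have ho' : Odd ♯X := Nat.not_even_iff_odd.1 fun e => ho e.two_dvd
  have h5 : X ⊓ 𝐂(A) = ⊥ := eq_bot_iff.2 fun x hx => h.eq_one (h.cent_eq ▸ hx.2) (odd_of_mem ho' hx.1)
  obtain ⟨T, f, hT⟩ := SEA.exists_lin h.elem hA h.M_le (h.odd_relIndex le_rfl) hn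
    fun a ha a1 b hb b1 => let ⟨y, hy, e⟩ := h3 a ha a1 b hb b1; ⟨y, hX hy, e⟩
  obtain ⟨T', f', hT'⟩ := SEA.exists_lin h.elem hA (hX.trans h.M_le) (h.odd_relIndex hX) hn h3
  have h6 : T ≤ S ⊔ zpowers k := fun t ht => by
    obtain ⟨j, hj⟩ := h.exists_pow hr h1 hk hn (P := T ⊓ zpowers k) inf_le_right ((h.card_k hk).trans
      (card_le_lin hT (by omega) (zpowers_le.2 hk.mem))) (hT.le ht) fun y hy => hT.der_le_cent (by
        simpa [commutatorElement_def, mul_assoc] using commutator_mem_commutator (inv_mem hy.1) ht)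
    simpa using mul_mem (mem_sup_right (npow_mem_zpowers k j)) (mem_sup_left hj)
  have h7 : T' ≤ zpowers f' := fun t ht => by
    obtain ⟨i, hi⟩ := hT'.gen t ht
    exact inv_mul_eq_one.1 (mem_bot.1 (h5 ▸ mem_inf.2 ⟨mul_mem (inv_mem (pow_mem (hT'.le hT'.f_mem) i))
      (hT'.le ht), hi⟩)) ▸ npow_mem_zpowers f' i
  have h8 : u ∈ 𝐍(T ⊓ X) := norm_le_norm_of_isCyclic (isCyclic_of_le' inferInstance h7)
    (hT'.max _ (inf_comm X T ▸ normalIn_inf_of_norm (hX.trans hT.normal.norm))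
      ((der_mono inf_le_left).trans hT.der_le_cent)) (hT'.mem_norm h2 (by rw [h5, norm_bot]; trivial))
  have h9 := cop (Nat.card_zpowers k ▸ hk.odd : Odd ♯(zpowers k)) h.syl.isPGroup
  obtain ⟨s, hs, e⟩ := IsSdprod.exists_le_conj ⟨rfl, zpowers_le.2 (h.M_norm hk.mem),
    inf_eq_bot_of_coprime_card h9.symm⟩ h9.symm (inf_le_left.trans h6 : T ⊓ X ≤ _)
    (cop (ho'.of_dvd_nat (card_dvd_of_le inf_le_right)) h.syl.isPGroup).symm (.inl h.syl.sol)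
  have h10 := h.cent_le_M hr h1 hk hn (P := s⁻¹ •ᶜ (T ⊓ X)) (le_conj_iff_inv_conj_le.1 e) (by
    rw [card_conj]
    exact (card_le_of_trans (hX.trans h.M_le) ha a1 (h3 a ha a1)).trans (card_le_lin hT (by omega) hX))
  rw [cent_conj, conj_le_iff_le_inv_conj, inv_inv, conj_eq_of_mem (h.S_le_M hs)] at h10
  have h11 : s * r * s⁻¹ ∈ 𝐂(T ⊓ X) := cent_anti e (cent_conj s _ ▸ conj_mem_conj
    (cent_zpowers k ▸ mem_cent1_comm.1 (cent_le_cent1 self_mem hk.cent)))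
  exact h1 (R4.conj_eq_one_iff.1 (h4 _ (h10 h11) (conj_sq (h.sq hr) s)
    (h10 (conj_mem_of_norm' (norm_le_norm_cent _ h8) h11))) ▸ one_mem _)

/-- two points lie on a block -/
theorem exists_block (hr : r ∈ V) (h1 : r ∉ A) (hg : g ∉ M) : ∃ a ∈ A, g ∈ Fx M (a * r) := by
  obtain ⟨a, ha, a1⟩ := h.toDSE.exists_ne
  have a2 := h.toSC.sq ha
  have h2 : g * a * g⁻¹ ∉ M := fun e => hg (h.toDSE.mem (h.A_le ha) (.of_mem ha) a1 e)
  have h3 := h.toDSE.odd_mul (h.A_le ha) (.of_mem ha) a1 h2 ((InD.of_mem ha).conj g)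
  obtain ⟨j, hj⟩ := R1.exists_conj_of_odd (conj_sq a2 g) a2 h3
  obtain ⟨i, hi⟩ := SEA.exists_sqrt (x := (g * a * g⁻¹ * a) ^ j) fun e => h3 (e.trans (orderOf_pow_dvd j))
  have h4 : g⁻¹ * ((g * a * g⁻¹ * a) ^ j * a) ∈ M := h.cent a ha a1 (mem_cent1_iff_conj.2 (by
    calc _ = g⁻¹ * ((g * a * g⁻¹ * a) ^ j * a * ((g * a * g⁻¹ * a) ^ j)⁻¹) * g := by group
      _ = a := by rw [hj]; group))
  obtain ⟨t, ht, t1, t2⟩ := R1.exists_invol_mem (h.even_swap (u := (g * a * g⁻¹ * a) ^ j * a)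
    (fun e => hg (inv_mem_iff.1 ((mul_mem_cancel_right e).1 h4))) (by
      rw [← hi, ← pow_mul, ← pow_add, ← two_mul, ← R1.pow_conj_right (conj_sq a2 g) a2]
      exact (InD.of_mem ha).conj _))
  have h5 : g ∈ Fx M t := by
    have := Fx_mul (x := t) (mem_conj.1 ht.2) (inv_mem h4)
    rwa [mul_inv_rev, inv_inv, mul_inv_cancel_left] at this
  have h6 := h.mem_V ht.1 t2
  obtain ⟨b, hb, e⟩ := h.shift h6 (fun e => hg (inv_mem_iff.1 (h.toDSE.mem ht.1 (.of_mem e) t1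
    (by simpa [mem_Fx] using h5)))) hr
  exact ⟨b, hb, e h5⟩

theorem false : False := by
  obtain ⟨r, hr, h1⟩ := h.exists_r
  obtain ⟨c, hc⟩ := h.toDSE.exists_not_fx (h.notD hr h1)
  obtain ⟨g, hg, h2⟩ := h.exists_out hr h1
  have h3 : ∀ x ∈ Fx M r, ∃ a : A, c⁻¹ * x ∈ Fx M (a * r) := fun x hx => by
    obtain ⟨a, ha, e⟩ := h.exists_block hr h1 (g := c⁻¹ * x) fun e => hc (by
      simpa using Fx_mul hx (inv_mem e))
    exact ⟨⟨a, ha⟩, e⟩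
  choose! φ hφ using h3
  have h4 : ∀ x ∈ Fx M r, ∀ y ∈ Fx M r, φ x = φ y → x⁻¹ * y ∈ M := fun x hx y hy e => by
    by_contra e1
    have e2 : ∀ z : G, InD A (x⁻¹ * z * x⁻¹⁻¹) → InD A z := fun z e => e.of_conj
    have e3 := mul_mem (h.A_le_V (φ x).2) hr
    have e4 := h.fx_eq (r := x⁻¹ * r * x⁻¹⁻¹) (s := x⁻¹ * (c * (φ x * r) * c⁻¹) * x⁻¹⁻¹)
      (h.mem_V (by simpa [mem_Fx] using hx) (conj_sq (h.sq hr) _))
      (fun e => h.notD hr h1 (e2 _ (.of_mem e)))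
      (h.mem_V (by simpa [mem_Fx, mul_assoc] using hφ x hx) (conj_sq (conj_sq (h.sq e3) _) _))
      (fun e => h.notD e3 (fun e => h1 ((mul_mem_cancel_left (φ x).2).1 e)) (e2 _ (.of_mem e)).of_conj)
      e1 (mem_Fx_conj.2 (by simpa using hy)) (mem_Fx_conj.2 (mem_Fx_conj.2 (by simpa [e] using hφ y hy)))
    have e5 : x⁻¹ * c ∈ Fx M (x⁻¹ * r * x⁻¹⁻¹) := e4 ▸ mem_Fx_conj.2 (mem_Fx_conj.2 (by
      simpa [one_mem_Fx] using h.V_le_M e3))
    exact hc (by simpa using mem_Fx_conj.1 e5)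
  have h5 : ∀ a : A, (a : G) * g ∈ Fx M r := fun a => (h.A_le_St hr a.2 g).2 h2
  have h6 := one_mem_Fx.2 (h.V_le_M hr)
  have h7 : Function.Injective fun a : A => φ (a * g) := fun a b e => Subtype.ext (inv_mul_eq_one.1
    (by_contra fun e1 => hg (inv_mem_iff.1 (h.toDSE.mem (h.A_le (mul_mem (inv_mem a.2) b.2))
      (.of_mem (mul_mem (inv_mem a.2) b.2)) e1 (by simpa [mul_assoc] using h4 _ (h5 a) _ (h5 b) e)))))
  obtain ⟨a, e⟩ := Finite.injective_iff_surjective.1 h7 (φ 1)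
  exact hg ((mul_mem_cancel_left (h.A_le a.2)).1 (by simpa using h4 _ h6 _ (h5 a) e.symm))

end Hy

/-- the geometric part of package KI -/
theorem false (kf3 : KF3.{u}) (h : DN A M) (hc : Cen A) (hP : PNil 2 𝐂(A)) (hS : Syl 2 S ⊤)
    (hAS : A ≤ S) (hV : ∀ v, v ∈ V ↔ v ∈ S ∧ v * v = 1) (h4 : 4 * ♯A ≤ ♯V) : False :=
  Hy.false ⟨h, kf3, hc, hP, hS, hAS, hV, h4⟩

end Cfsg.Agent.I2.Kg
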