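import Cfsg.Agent.Lib.I2.DE0
import Cfsg.Agent.Lib.I2.Cov

/-!
# The blocks of fixed points of the involutions outside `D` (plan S4030, package KI)
-/

set_option autoImplicit false

namespace Cfsg.Agent.I2

open Subgroup Cfsg.Agent.OO Cfsg.Agent.Coprime Cfsg.Agent.SZ Cfsg.Agent.GW Cfsg.Agent.W4
open Cfsg.Agent.R4 (SC InD two_elt)
open scoped commutatorElement Pointwise

universe u

variable {G : Type u} [Group G] {A H M N S Y : Subgroup G} {a c g m r s x y : G} {n : ℕ}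

namespace Kg

/-- the points fixed by `x` -/
def Fx (M : Subgroup G) (x : G) : Set G := {g | g⁻¹ * x * g ∈ M}

theorem mem_Fx : g ∈ Fx M x ↔ g⁻¹ * x * g ∈ M := Iff.rfl

theorem mem_Fx_conj : g ∈ Fx M (c * x * c⁻¹) ↔ c⁻¹ * g ∈ Fx M x := by
  simp only [mem_Fx, mul_inv_rev, inv_inv, mul_assoc]

theorem Fx_mul (hg : g ∈ Fx M x) (hm : m ∈ M) : g * m ∈ Fx M x := by
  have := M.mul_mem (M.mul_mem (M.inv_mem hm) hg) hm
  rw [mem_Fx]; convert this using 1; group

theorem one_mem_Fx : (1 : G) ∈ Fx M x ↔ x ∈ M := by simp [mem_Fx]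

/-- the setwise stabilizer of the fixed points of `r` -/
def St (M : Subgroup G) (r : G) : Subgroup G where
  carrier := {c | ∀ g, c * g ∈ Fx M r ↔ g ∈ Fx M r}
  one_mem' := by simp
  mul_mem' := fun {x y} hx hy g => by rw [mul_assoc, hx, hy]
  inv_mem' := fun {x} hx g => by rw [← hx, mul_inv_cancel_left]

/-- the pointwise stabilizer of the fixed points of `r` -/
def Pw (M : Subgroup G) (r : G) : Subgroup G where
  carrier := {y | Fx M r ⊆ Fx M y}
  one_mem' := fun g _ => by simp [mem_Fx]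
  mul_mem' := fun {x y} hx hy g hg => by
    have := M.mul_mem (hx hg) (hy hg)
    rw [mem_Fx]; convert this using 1; group
  inv_mem' := fun {x} hx g hg => by
    have := M.inv_mem (hx hg)
    rw [mem_Fx]; convert this using 1; group

theorem self_mem : r ∈ Pw M r := fun _ h => h

theorem mem_St (e : Fx M (c * r * c⁻¹) = Fx M r) : c ∈ St M r := fun g => by
  rw [← e, mem_Fx_conj, inv_mul_cancel_left, e]

theorem cent_le_St : 𝐂[r] ≤ St M r := fun _ hc => mem_St (by rw [mem_cent1_iff_conj.1 hc])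

theorem St_congr (e : Fx M r = Fx M s) : St M r = St M s := by simp only [St, e]

theorem St_mem (hr : r ∈ M) (hc : c ∈ St M r) : c ∈ Fx M r := by
  simpa using (hc 1).2 (one_mem_Fx.2 hr)

theorem Pw_le (hr : r ∈ M) : Pw M r ≤ M := fun _ hy => one_mem_Fx.1 (hy (one_mem_Fx.2 hr))

theorem Pw_normal : Pw M r ⊴ St M r :=
  ⟨fun y hy g => ⟨fun e => by
      have := Fx_mul e (inv_mem (hy e))
      convert this using 1; group, fun e => by
      have := Fx_mul e (hy e)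
      convert this using 1; group⟩,
    le_norm_iff.2 fun c hc y hy g hg => mem_Fx_conj.2 (hy ((inv_mem hc g).2 hg))⟩

end Kg

open Kg

variable [Finite G]

namespace K1F

variable {L T W : Subgroup (Coset N)} {k : Coset N} (f : K1F A M H N L T W k n)
include f

theorem not_le : ¬ H ≤ M := fun e => by
  have := f.idx
  rw [relIndex_eq_one.2 e] at this
  have := card_pos' T
  omega

omit [Finite G] in
theorem T_le : T ≤ H ⁒ N := f.syl.le.trans f.normalL.le

omit [Finite G] in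
theorem W_le : W ≤ T := fun w hw => ((f.mem w).1 hw).1

omit [Finite G] in
theorem mem_norm (hx : x ∈ H) (h1 : x ∈ M) : coset N x ∈ 𝐍(T) :=
  (f.stab.le (coset_mem_quo N (mem_inf.2 ⟨hx, h1⟩))).2

omit [Finite G] in
theorem mem_M (hx : x ∈ H) (h1 : coset N x ∈ 𝐍(T)) : x ∈ M :=
  ((coset_mem_quo_iff (f.normal.norm hx) (le_inf f.normal.le f.le)).1
    (f.stab.ge ⟨coset_mem_quo N hx, h1⟩)).2

omit [Finite G] in
theorem inj (hA : A ≤ H) (ha : a ∈ A) (e : coset N a = 1) : a = 1 :=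
  f.free a ((coset_eq_one_iff (f.normal.norm (hA ha))).1 e) (.of_mem ha)

omit [Finite G] in
theorem inf_bot : N ⊓ A = ⊥ := eq_bot_iff.2 fun _ ht => f.free _ ht.1 (.of_mem ht.2)

variable (h : DSE A M) (hA : A ≤ H)
include h hA

theorem W_eq : W = A ⁒ N := by
  have hn := f.normal.norm
  refine le_antisymm (fun w hw => ?_) fun w hw => ?_
  · obtain ⟨S, hS, h1⟩ := exists_syl_ge hA h.toSC.two
    have h2 := hS.quo hn
    have h0 := h.toSC.le_norm hS.isPGroup h1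
    have e : T ≤ S ⁒ N := h2.le_of_norm f.T_le f.syl.isPGroup (.inl fun x hx => by
      obtain ⟨y, hy, -, rfl⟩ := mem_quo.1 hx
      exact f.mem_norm (hS.le hy) (h.norm (h0 hy)))
    obtain ⟨w1, w2⟩ := (f.mem w).1 hw
    obtain ⟨t, ht, h3, rfl⟩ := f.inD w (f.syl.le w1) w2
    have h4 : S ⊔ N ≤ H := sup_le hS.le f.normal.le
    obtain ⟨y, hy, h5⟩ := (hS.mono le_sup_left h4).exists_conj_le (zpowers_le.2
      ((coset_mem_quo_iff (hn ht) le_sup_right).1 (by
        rw [quo_sup_self (hS.le.trans hn)]; exact e w1))) (two_elt (h.toSC.sqD h3))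
    have h6 := coset_mem_quo N
      (h.toSC.mem_of_two hS.isPGroup h1 (h5 (conj_mem_conj (mem_zpowers t))) (h3.conj y))
    have h7 := coset_mem_quo N hy
    rw [quo_sup_self (hS.le.trans hn)] at h7
    rw [coset_conj (hn (h4 hy)) (hn ht)] at h6
    simpa [mul_assoc] using conj_mem_of_norm (inv_mem (quo_le_norm N h0 h7)) h6
  · obtain ⟨a, ha, a1, rfl⟩ := mem_quo.1 hw
    have a2 : coset N a * coset N a = 1 := by rw [← coset_mul a1 a1, h.toSC.sq ha, coset_one]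
    by_cases a0 : a = 1
    · rw [a0, coset_one]; exact one_mem _
    obtain ⟨w, hw, w0⟩ := exists_mem_ne_one (H := W) fun e => by simpa [e] using f.four
    obtain ⟨w1, w2⟩ := (f.mem w).1 hw
    obtain ⟨t, ht, h3, rfl⟩ := f.inD w (f.syl.le w1) w2
    obtain ⟨g, hg, rfl⟩ := h.conj_in f.not_le ⟨hA ha, h.A_le ha⟩ (.of_mem ha) a0 ht h3
      (by rintro rfl; exact w0 (coset_one N))
    rw [coset_conj (hn hg) a1] at w1
    refine (f.mem _).2 ⟨f.syl.mem_of_mem_norm ?_ (f.mem_norm (hA ha) (h.A_le ha))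
      (isPGroup_zpowers_iff.1 (two_elt a2)), a2⟩
    simpa [mul_assoc] using f.normalL.conj_mem (inv_mem (coset_mem_quo N hg)) (f.syl.le w1)

theorem card_W : ♯W = ♯A := by
  rw [f.W_eq h hA, card_quo_of_inf_eq_bot (hA.trans f.normal.norm) f.inf_bot]

theorem mem_W (ha : a ∈ A) : coset N a ∈ W := f.W_eq h hA ▸ coset_mem_quo N ha

theorem mem_T (hx : x ∈ H) (h1 : x ∈ 𝐂(A)) : coset N x ∈ T := by
  have h2 := coset_mem_quo N hx
  obtain ⟨l, hl, c, hc, e⟩ := (mem_sup_norm_left (f.syl.le.trans (le_norm_cent le_normalizer))).1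
    (sup_comm T _ ▸ f.centW ⟨f.normalL.norm h2, f.W_eq h hA ▸ quo_cent_le A N (coset_mem_quo N h1)⟩)
  have h4 : l = 1 := mem_bot.1 (f.centL ▸ ⟨(mul_mem_cancel_right (f.T_le hc)).1 (e ▸ h2), hl⟩)
  rwa [← e, h4, one_mul]

theorem inv_T (ic : IC A) (hs : s ∈ H) (h1 : s ∈ M) (s2 : s * s = 1) : coset N s ∈ T := by
  obtain ⟨g, hg, h2⟩ := h.exists_conj_inv ic (le_inf hA h.A_le) (mem_inf.2 ⟨hs, h1⟩) s2
  have h3 := f.mem_T h hA (mul_mem (mul_mem hg.1 hs) (inv_mem hg.1)) h2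
  rw [coset_conj (f.normal.norm hg.1) (f.normal.norm hs)] at h3
  simpa [mul_assoc] using conj_mem_of_norm (inv_mem (f.mem_norm hg.1 hg.2)) h3

theorem le_of_odd (hY : Y ≤ H) (ho : Odd ♯Y) (hn : A ≤ 𝐍(Y)) : Y ≤ N :=
  (quo_eq_bot_iff (hY.trans f.normal.norm)).1 (eq_bot_iff.2 (f.centL ▸ le_inf (quo_mono N hY)
    (f.le_cent _ ((quo_mono N hY).trans f.normalL.norm) (odd_quo ho N)
      (f.W_eq h hA ▸ quo_le_norm N hn))))

theorem exists_mul (hx : x ∈ H) (h1 : x ∈ 𝐂(A)) (x2 : x * x = 1) : ∃ a ∈ A, a * x ∈ N := by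
  have hn := f.normal.norm
  obtain ⟨a, ha, a1, e⟩ := mem_quo.1 (f.W_eq h hA ▸ (f.mem _).2
    ⟨f.mem_T h hA hx h1, by rw [← coset_mul (hn hx) (hn hx), x2, coset_one]⟩)
  exact ⟨a⁻¹, inv_mem ha, (coset_eq_iff a1 (hn hx)).1 e⟩

end K1F

namespace DSE

variable (h : DSE A M) (ic : IC A) (hr : r ∈ 𝐂(A)) (r2 : r * r = 1) (h1 : ¬ InD A r)
include h ic hr r2 h1

/-- the fixed points of `r` are an orbit of `C(r)` -/
theorem fx_orbit (hg : g ∈ Fx M r) : ∃ c ∈ 𝐂[r], c⁻¹ * g ∈ M := by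
  obtain ⟨m, hm, h4⟩ := h.exists_conj_inv ic h.A_le hg (by simpa using conj_sq r2 g⁻¹)
  obtain ⟨a, ha, a1⟩ := h.exists_ne
  obtain ⟨c, hc, e⟩ := h.conj_in (h.big ic hr r2 h1) ⟨R4.DM.A_le_cent hr ha, h.A_le ha⟩ (.of_mem ha) a1
    (t := g * m⁻¹ * a * (g * m⁻¹)⁻¹) (by
      have := conj_mem_conj (g := g * m⁻¹) (R4.DM.A_le_cent h4 ha)
      rw [← cent1_conj] at this
      convert this using 3; group) ((InD.of_mem ha).conj _) (BSW.conj_ne_one a1)
  exact ⟨c, hc, (mul_mem_cancel_right (inv_mem hm)).1 (h.cent a ha a1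
    (mem_cent1_iff_conj.2 (by
      calc _ = c⁻¹ * (g * m⁻¹ * a * (g * m⁻¹)⁻¹) * c := by group
        _ = a := by rw [← e]; group)))⟩

omit ic hr r2 in
theorem exists_not_fx : ∃ g, g ∉ Fx M r := by
  by_contra! e
  have := h.simple
  have h3 : r ∈ M.normalCore := fun g => by simpa [mem_Fx] using e g⁻¹
  rcases this.eq_bot_or_eq_top_of_normal M.normalCore inferInstance with e | e
  · exact h1 (mem_bot.1 (e ▸ h3) ▸ InD.one)
  · exact h.ne (top_le_iff.1 (e ▸ M.normalCore_le))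

omit [Finite G] h ic r2 h1 in
theorem A_le_St : A ≤ St M r := (R4.DM.A_le_cent hr).trans cent_le_St

theorem exists_k1 (kf3 : KF3.{u}) : ∃ L T W k n, K1F A M (St M r) (Pw M r) L T W k n := by
  obtain ⟨N, L, T, W, k, n, f⟩ := kf3 G A M (St M r) A h (fun e => by
      obtain ⟨g, hg⟩ := h.exists_not_fx h1
      exact hg (St_mem (h.cent_A hr) (e ▸ mem_top g))) (le_inf (A_le_St hr) h.A_le) h.elem h.four
    (fun _ => .of_mem) fun e => h.big ic hr r2 h1 (cent_le_St.trans e)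
  obtain rfl : N = Pw M r := le_antisymm (fun y hy g hg => by
      obtain ⟨c, hc, e⟩ := h.fx_orbit ic hr r2 h1 hg
      have := Fx_mul (g := c) (x := y)
        (by simpa [mem_Fx] using f.le (f.normal.conj_mem (inv_mem (cent_le_St hc)) hy)) e
      rwa [mul_inv_cancel_left] at this) (f.core _ Pw_normal (Pw_le (h.cent_A hr)))
  exact ⟨L, T, W, k, n, f⟩

/-- an involution fixing two points of a block fixes the block -/
theorem mem_Pw (kf3 : KF3.{u}) (hs : s ∈ St M r) (h2 : s ∈ M) (s2 : s * s = 1) (hg : g ∉ M)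
    (h3 : g ∈ Fx M r) (h4 : g ∈ Fx M s) : s ∈ Pw M r := by
  obtain ⟨L, T, W, k, n, f⟩ := h.exists_k1 ic hr r2 h1 kf3
  obtain ⟨c, hc, e⟩ := h.fx_orbit ic hr r2 h1 h3
  refine f.fix c (cent_le_St hc) (fun e' => hg ((mul_mem_cancel_left (inv_mem e')).1 e)) s
    ⟨⟨hs, h2⟩, mem_conj.2 ?_⟩ (f.inv_T h (A_le_St hr) ic hs h2 s2)
  have := Fx_mul h4 (inv_mem e)
  rwa [mul_inv_rev, inv_inv, mul_inv_cancel_left] at this

end DSE

end Cfsg.Agent.I2
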