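import Cfsg.Agent.Lib.I2.KIga
import Cfsg.Agent.Lib.ZG.Two

/-!
# Package KI, step (6): `O(M) = 1`
-/

set_option autoImplicit false

namespace Cfsg.Agent.I2.Kg

open Subgroup Cfsg.Agent.OO Cfsg.Agent.Coprime Cfsg.Agent.SZ Cfsg.Agent.GW Cfsg.Agent.W4
open Cfsg.Agent.R4 (SC InD two_elt)
open scoped commutatorElement Pointwise

universe u

variable {G : Type u} [Group G] {A H M N S V Y : Subgroup G} {a c g m r s t v w x y : G} {n : ℕ}

/-- the hypothesis of the geometric steps -/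
structure Hy (A M S V : Subgroup G) : Prop extends DN A M where
  kf3 : KF3.{u}
  cen : Cen A
  pnil : PNil 2 𝐂(A)
  syl : Syl 2 S ⊤
  le : A ≤ S
  memV : ∀ v, v ∈ V ↔ v ∈ S ∧ v * v = 1
  big4 : 4 * ♯A ≤ ♯V

variable [Finite G]

namespace Hy

variable (h : Hy A M S V)
include h

theorem S_le : S ≤ 𝐂(A) := fun _ hs =>
  h.cen _ (h.toSC.le_norm h.syl.isPGroup h.le hs) (two_of_mem h.syl.isPGroup hs)

omit [Finite G] in
theorem sq (hv : v ∈ V) : v * v = 1 := ((h.memV v).1 hv).2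

omit [Finite G] in
theorem V_le : V ≤ S := fun v hv => ((h.memV v).1 hv).1

omit [Finite G] in
theorem A_le_V : A ≤ V := fun a ha => (h.memV a).2 ⟨h.le ha, h.toSC.sq ha⟩

theorem elemV : IsElementaryAbelian 2 V := 
  ⟨ab_iff.2 fun a ha b hb => by
    rw [← GW.inv_eq (h.sq (mul_mem ha hb)), mul_inv_rev, GW.inv_eq (h.sq ha), GW.inv_eq (h.sq hb)],
    fun _ hv => (pow_two _).trans (h.sq hv)⟩

theorem vcent (hv : v ∈ V) : v ∈ 𝐂(A) := h.S_le (h.V_le hv)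

theorem V_le_M : V ≤ M := fun _ hv => h.cent_A (h.vcent hv)

theorem V_le_cent (hv : v ∈ V) : V ≤ 𝐂[v] := (abelem_le_cent h.elemV).trans (cent_le_cent1 hv)

theorem V_le_St (hr : r ∈ V) : V ≤ St M r := (h.V_le_cent hr).trans cent_le_St

omit [Finite G] in
theorem notD (hv : v ∈ V) (h1 : v ∉ A) : ¬ InD A v := fun e =>
  h1 (h.toSC.mem_of_two h.syl.isPGroup h.le (h.V_le hv) e)

theorem exists_r : ∃ r ∈ V, r ∉ A := SetLike.not_le_iff_exists.1 fun e => by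
  have := card_le_of_le e
  have := h.big4
  have := h.four
  omega

theorem k1 (hr : r ∈ V) (h1 : r ∉ A) : ∃ L T W k n, K1F A M (St M r) (Pw M r) L T W k n :=
  h.toDSE.exists_k1 h.ic (h.vcent hr) (h.sq hr) (h.notD hr h1) h.kf3

theorem A_le_St (hr : r ∈ V) : A ≤ St M r := h.A_le_V.trans (h.V_le_St hr)

theorem fx_eq (hr : r ∈ V) (h1 : r ∉ A) (hs : s ∈ V) (h2 : s ∉ A) (hg : g ∉ M) (h3 : g ∈ Fx M r)
    (h4 : g ∈ Fx M s) : Fx M r = Fx M s :=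
  subset_antisymm (h.toDSE.mem_Pw h.ic (h.vcent hr) (h.sq hr) (h.notD hr h1) h.kf3 (h.V_le_St hr hs)
    (h.V_le_M hs) (h.sq hs) hg h3 h4) (h.toDSE.mem_Pw h.ic (h.vcent hs) (h.sq hs) (h.notD hs h2) h.kf3
      (h.V_le_St hs hr) (h.V_le_M hr) (h.sq hr) hg h4 h3)

theorem exists_out (hr : r ∈ V) (h1 : r ∉ A) : ∃ g ∉ M, g ∈ Fx M r :=
  let ⟨g, hg, e⟩ := SetLike.not_le_iff_exists.1
    (h.toDSE.big h.ic (h.vcent hr) (h.sq hr) (h.notD hr h1))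
  ⟨g, e, St_mem (h.V_le_M hr) (cent_le_St hg)⟩

theorem free (hr : r ∈ V) (h1 : r ∉ A) (ha : a ∈ A) (e : a ∈ Pw M r) : a = 1 :=
  let ⟨_, _, _, _, _, f⟩ := h.k1 hr h1; f.free a e (.of_mem ha)

theorem fx_of_Pw (hr : r ∈ V) (h1 : r ∉ A) (ht : t ∈ V) (h2 : t ∈ Pw M r) (t1 : t ≠ 1) :
    Fx M t = Fx M r :=
  let ⟨_, hg, e⟩ := h.exists_out hr h1
  h.fx_eq ht (fun e => t1 (h.free hr h1 e h2)) hr h1 hg (h2 e) e

theorem cent_le (hr : r ∈ V) (h1 : r ∉ A) (ht : t ∈ V) (h2 : t ∈ Pw M r) (t1 : t ≠ 1) :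
    𝐂[t] ≤ St M r := St_congr (h.fx_of_Pw hr h1 ht h2 t1) ▸ cent_le_St

theorem shift (hr : r ∈ V) (h1 : r ∉ A) (hs : s ∈ V) : ∃ a ∈ A, a * s ∈ Pw M r :=
  let ⟨_, _, _, _, _, f⟩ := h.k1 hr h1
  f.exists_mul h.toDSE (h.A_le_St hr) (h.V_le_St hr hs) (h.vcent hs) (h.sq hs)

theorem four' (hr : r ∈ V) (h1 : r ∉ A) : 4 ≤ ♯(Pw M r ⊓ V : Subgroup G) := by
  have hn := (h.V_le_St hr).trans Pw_normal.norm
  have h2 : V ⁒ Pw M r ≤ A ⁒ Pw M r := (quo_le_quo_iff_le_sup hn (h.A_le_V.trans hn)).2 fun s hs => by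
    obtain ⟨a, ha, e⟩ := h.shift hr h1 hs
    simpa using mul_mem (mem_sup_left (inv_mem ha)) (mem_sup_right e)
  have h3 := (card_le_of_le h2).trans (card_quo_le A _)
  have h4 := h.big4
  rw [← card_inf_mul_card_quo hn] at h4
  exact Nat.le_of_mul_le_mul_right (h4.trans (Nat.mul_le_mul_left _ h3)) (card_pos' A)

/-- odd order subgroups normalized by `Pw M r ⊓ V` stabilize the block -/
theorem le_St (hr : r ∈ V) (h1 : r ∉ A) (hY : Odd ♯Y) (hn : Pw M r ⊓ V ≤ 𝐍(Y)) : Y ≤ St M r :=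
  have h2 := abelem_of_le h.elemV (inf_le_right : Pw M r ⊓ V ≤ V)
  le_of_forall_centralizer_le (abelem_ab h2) (not_isCyclic h2 (by have := h.four' hr h1; omega)) hn
    (cop hY (abelem_isPGroup h2)).symm fun _ ht t1 => inf_le_right.trans (h.cent_le hr h1 ht.2 ht.1 t1)

theorem O_le (hr : r ∈ V) (h1 : r ∉ A) : O M ≤ Pw M r :=
  let ⟨_, _, _, _, _, f⟩ := h.k1 hr h1
  f.le_of_odd h.toDSE (h.A_le_St hr) (h.le_St hr h1 (odd_O M)
    (inf_le_right.trans (h.V_le_M.trans (O_norm M)))) (odd_O M) (h.A_le.trans (O_norm M))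

theorem O_cent_le : O 𝐂(A) ≤ O M := by
  have hA := h.A_le.trans (O_norm M)
  have h1 : O 𝐂(A) ≤ M := (W4.O_le _).trans h.cent_A
  refine (quo_eq_bot_iff (h1.trans (O_norm M))).1 (eq_bot_iff.2 (O_quo M ▸ le_O
    ⟨quo_mono _ h1, ?_⟩ (odd_quo (odd_O _) _)))
  have h2 := quo_le_norm (O M) h.normO
  rw [quo_sup_self hA, ← quo_norm_of_coprime hA (cop (odd_O M) h.toSC.two)
    (.inr (sol_of_ab h.toSC.ab))] at h2
  exact h2.trans (quo_le_norm _ ((norm_le_norm_cent A).trans (norm_le_norm_Opi _ _)))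

theorem mem_O (hr : r ∈ V) (h1 : r ∉ A) (hx : x ∈ Pw M r) (ho : Odd (orderOf x)) : x ∈ O M := by
  have hA := h.A_le.trans (O_norm M)
  have x1 := Pw_le (h.V_le_M hr) hx
  have h2 : coset (O M) x ∈ 𝐂(A ⁒ O M) := (coset_mem_cent_iff (O_norm M x1) hA).2 fun a ha => by
    obtain ⟨b, hb, o, ho, e⟩ := (mem_sup_norm_right hA).1 (mul_mem (conj_mem_of_norm (h.normO x1)
      (mem_sup_left ha)) (mem_sup_left (inv_mem ha)))
    have h3 : x * a * x⁻¹ * a⁻¹ ∈ Pw M r := by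
      simpa [mul_assoc] using mul_mem hx (Pw_normal.conj_mem (h.A_le_St hr ha) (inv_mem hx))
    rw [h.free hr h1 hb ((mul_mem_cancel_right (h.O_le hr h1 ho)).1 (e ▸ h3)), one_mul] at e
    exact commutatorElement_def x a ▸ e ▸ ho
  rw [← quo_cent hA (cop (odd_O M) h.toSC.two) (.inr (sol_of_ab h.toSC.ab))] at h2
  obtain ⟨y, hy, y1, y2, e⟩ := exists_piElt_coset_eq h2 ((odd_elt.1 ho).coset _)
  exact (coset_eq_one_iff (O_norm M x1)).1 (e ▸ coset_eq_one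
    (h.O_cent_le ((ZG.mem_O h.pnil).2 ⟨hy, odd_elt.2 y2⟩)))

theorem O_eq : O M = ⊥ := by
  obtain ⟨r, hr, h1⟩ := h.exists_r
  have := h.simple
  by_contra e
  have h2 := smp_top.norm_eq h.coatom ⟨W4.O_le M, O_norm M⟩ e
  obtain ⟨_, _, _, _, _, f⟩ := h.k1 hr h1
  exact f.not_le (le_of_le_of_eq (le_norm_iff.2 fun c hc y hy => h.mem_O hr h1
    (Pw_normal.conj_mem hc (h.O_le hr h1 hy))
      (by rw [orderOf_conj]; exact odd_of_mem (odd_O M) hy)) h2)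

theorem M_le : M ≤ 𝐍(A) := by simpa [h.O_eq] using h.normO

theorem cent_eq : 𝐂(A) = S := by
  have h1 := h.O_cent_le
  rw [h.O_eq, le_bot_iff] at h1
  have h2 := pnil_iff_relIndex.1 h.pnil
  rw [show Op' 2 𝐂(A) = ⊥ from h1, relIndex_bot_left] at h2
  exact h.syl.eq_of_le h.S_le le_top ((isPGroup_iff_piGrp).2 h2)

theorem M_norm : M ≤ 𝐍(S) := h.cent_eq ▸ h.M_le.trans (norm_le_norm_cent A)

theorem S_le_M : S ≤ M := h.S_le.trans h.cent_A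

theorem mem_S (hx : x ∈ M) (h2 : PiElt {2} x) : x ∈ S :=
  h.syl.mem_of_mem_norm (mem_top x) (h.M_norm hx) h2

theorem mem_V (hx : x ∈ M) (x2 : x * x = 1) : x ∈ V :=
  (h.memV x).2 ⟨h.mem_S hx (isPGroup_zpowers_iff.1 (two_elt x2)), x2⟩

theorem Pw_le_S (hr : r ∈ V) (h1 : r ∉ A) : Pw M r ≤ S := fun x hx => h.cent_eq ▸
  mem_cent_iff_conj.2 fun a ha => mul_inv_eq_one.1 (h.free hr h1 (mul_mem (conj_mem_of_norm
    (h.M_le (Pw_le (h.V_le_M hr) hx)) ha) (inv_mem ha)) (by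
      simpa [mul_assoc] using mul_mem hx (Pw_normal.conj_mem (h.A_le_St hr ha) (inv_mem hx))))

end Hy

end Cfsg.Agent.I2.Kg
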