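import Cfsg.Agent.Lib.I2.KIgb
import Cfsg.Agent.Lib.SEA.Lin

/-!
# Package KI, step (7): the Singer cycles
-/

set_option autoImplicit false

namespace Cfsg.Agent.I2.Kg

open Subgroup Cfsg.Agent.OO Cfsg.Agent.Coprime Cfsg.Agent.SZ Cfsg.Agent.GW Cfsg.Agent.W4
open Cfsg.Agent.R4 (SC InD two_elt)
open scoped commutatorElement Pointwise

universe u

theorem num {n m d : ℕ} (hm : 0 < m) (hmn : m < n) (h1 : d ∣ 2 ^ m - 1) (h2 : d ∣ 2 ^ n - 1)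
    (h3 : 2 ^ n - 1 ≤ d * n) : False := by
  have h4 := Nat.pow_sub_one_gcd_pow_sub_one 2 m n ▸ Nat.dvd_gcd h1 h2
  have h5 := Nat.gcd_pos_of_pos_left n hm
  have h6 := Nat.gcd_le_left n hm
  obtain ⟨j, hj⟩ := Nat.gcd_dvd_right m n
  generalize Nat.gcd m n = e at *
  obtain ⟨x, rfl⟩ : ∃ x, n = x + 1 + e := ⟨n - e - 1, by omega⟩
  have h7 : e ≤ x + 1 := by
    rcases j with _ | _ | j
    · omega
    · omega
    · nlinarith [Nat.zero_le (e * j)]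
  have h8 := Nat.lt_two_pow_self (n := x)
  have h9 := Nat.one_lt_two_pow h5.ne'
  have h10 := Nat.le_of_dvd (by omega) h4
  rw [pow_add, pow_succ] at h3
  generalize 2 ^ x = X at *
  obtain ⟨E, hE⟩ : ∃ E, 2 ^ e = E + 1 := ⟨2 ^ e - 1, by omega⟩
  rw [hE] at h3 h10
  have := Nat.mul_le_mul (show d ≤ E by omega) (show x + 1 + e ≤ X * 2 by omega)
  have h11 : X * 2 * (E + 1) = E * (X * 2) + X * 2 := by ring
  omega

variable {G : Type u} [Group G] [Finite G] {A H M N P S T V X Y : Subgroup G}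
  {a c f g k m r s t u v w x y : G} {n : ℕ}

/-- an element fixing a point and centralizing a large semiregular group acts trivially -/
theorem mem_cent_of (hA : IsPGroup 2 A) (hn : ♯A = 2 ^ n) (hY : Y ≤ 𝐍(A)) (hs : Semiregular A Y)
    (hc : ♯A - 1 ≤ ♯Y * n) (hg : g ∈ 𝐍(A)) (h1 : ∀ y ∈ Y, y⁻¹ * (g * y * g⁻¹) ∈ 𝐂(A)) (ha : a ∈ A)
    (a1 : a ≠ 1) (h2 : g ∈ 𝐂[a]) : g ∈ 𝐂(A) := by
  by_contra e
  obtain ⟨m, hm⟩ := (hA.to_le (inf_le_left : A ⊓ 𝐂[g] ≤ A)).exists_card_eq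
  have h3 : Y ≤ 𝐍(A ⊓ 𝐂[g]) := le_norm_iff.2 fun y hy b hb => ⟨conj_mem_of_norm (hY hy) hb.1,
    mem_cent1_comm.1 (mem_cent1_iff_conj.2 (by
      have e1 := mem_cent_iff_conj.1 (h1 y hy) b hb.1
      have e2 := mem_cent1_iff_conj.1 (mem_cent1_comm.1 hb.2)
      calc _ = y * (y⁻¹ * (g * y * g⁻¹) * (g * b * g⁻¹) * (y⁻¹ * (g * y * g⁻¹))⁻¹) * y⁻¹ := by group
        _ = _ := by rw [e2, e1]))⟩
  have h4 := one_lt_card (H := A ⊓ 𝐂[g]) fun e => a1 (mem_bot.1 (e ▸ ⟨ha, mem_cent1_comm.1 h2⟩))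
  have h5 := card_lt_of_lt (lt_of_le_of_ne (inf_le_left : A ⊓ 𝐂[g] ≤ A) fun e' =>
    e (le_cent1_iff.1 (inf_eq_left.1 e')))
  rw [hm] at h4
  rw [hm, hn] at h5
  exact num (Nat.pos_of_ne_zero fun e => by simp [e] at h4)
    ((Nat.pow_lt_pow_iff_right (by norm_num)).1 h5)
    (hm ▸ regular_norm_dvd_pred h3 (hs.mono inf_le_left le_rfl)) (hn ▸ regular_norm_dvd_pred hY hs)
    (hn ▸ hc)

theorem card_le_of_trans (hY : Y ≤ 𝐍(A)) (ha : a ∈ A) (a1 : a ≠ 1)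
    (tr : ∀ b ∈ A, b ≠ 1 → ∃ y ∈ Y, y * a * y⁻¹ = b) : ♯A - 1 ≤ ♯Y := by
  have : (𝐂[a]).relIndex Y = ♯A - 1 := by
    rw [relIndex_centralizer_eq_ncard, ← ncard_sharp]
    congr 1
    refine Set.ext fun v => ⟨?_, fun hv => ?_⟩
    · rintro ⟨l, hl, rfl⟩
      exact conj_mem_sharp (hY hl) ⟨ha, a1⟩
    · obtain ⟨g, hg, e⟩ := tr v hv.1 hv.2
      exact ⟨g, hg, e.symm⟩
  rw [← this, ← OO.card_inf_mul_relIndex 𝐂[a] Y]
  exact Nat.le_mul_of_pos_left _ (card_pos' _)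

theorem card_le_lin (hT : SEA.Lin A M T f n) (hn : n ≠ 0) (hY : Y ≤ M) : ♯Y ≤ ♯(T ⊓ Y : Subgroup G) * n := by
  rw [← OO.card_inf_mul_relIndex T Y]
  exact Nat.mul_le_mul_left _ (Nat.le_of_dvd (Nat.pos_of_ne_zero hn)
    ((relIndex_dvd_of_le_norm hY hT.normal.norm).trans hT.index))

/-- a Singer cycle which centralizes the pointwise stabilizer of a block -/
structure Kk (A M S : Subgroup G) (r k : G) : Prop where
  mem : k ∈ M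
  odd : Odd (orderOf k)
  cent : k ∈ 𝐂(Pw M r)
  cyc : ∀ a ∈ A, ∀ b ∈ A, a ≠ 1 → b ≠ 1 → ∃ j : ℕ, k ^ j * a * (k ^ j)⁻¹ = b
  le_M : ∀ y ∈ zpowers k, y ≠ 1 → St M r ⊓ 𝐂[y] ≤ M
  le_Pw : ∀ y ∈ zpowers k, y ≠ 1 → S ⊓ St M r ⊓ 𝐂[y] ≤ Pw M r

namespace Hy

variable (h : Hy A M S V)
include h

theorem eq_one (hx : x ∈ S) (ho : Odd (orderOf x)) : x = 1 :=
  (two_of_mem h.syl.isPGroup hx).eq_one (odd_elt.1 ho)

theorem odd_relIndex (hX : X ≤ M) : ¬ 2 ∣ (𝐂(A)).relIndex X := fun e =>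
  (h.syl.mono h.S_le_M le_top).not_dvd ((h.cent_eq ▸ e).trans (relIndex_dvd_of_le_norm hX h.M_norm))

/-- `M / S` has no real elements -/
theorem not_real (hm : m ∈ M) (hy : y ∈ M) (ho : Odd (orderOf y)) (e : m * y * m⁻¹ * y ∈ S) :
    y = 1 := by
  have hn := h.M_norm
  have h1 : Odd ♯(M ⁒ S) := by
    rw [card_quo hn, ← h.cent_eq]
    exact Nat.not_even_iff_odd.1 fun e => h.odd_relIndex le_rfl e.two_dvd
  have h2 := BSW.mul_self_eq_one_of_odd (odd_of_mem h1 (coset_mem_quo S hm)) (c := coset S y) (by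
    rw [← coset_conj (hn hm) (hn hy), eq_inv_iff_mul_eq_one, ← coset_mul
      (hn (mul_mem (mul_mem hm hy) (inv_mem hm))) (hn hy)]
    exact coset_eq_one e)
  rw [← coset_mul (hn hy) (hn hy), coset_eq_one_iff (hn (mul_mem hy hy))] at h2
  exact eq_one_of_odd_of_sq ho (h.eq_one h2 (ho.of_dvd_nat (pow_two y ▸ orderOf_pow_dvd 2)))

theorem exists_k (hr : r ∈ V) (h1 : r ∉ A) : ∃ k, Kk A M S r k := by
  obtain ⟨L, T, W, k, n, f⟩ := h.k1 hr h1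
  have hA := h.A_le_St hr
  have hS := h.Pw_le_S hr h1
  have hn := f.normal.norm
  obtain ⟨a, ha, a1⟩ := h.toDSE.exists_ne
  have h2 := (normalIn_inf_cent hn).quo (Pw M r)
  have h3 : L ≤ (St M r ⊓ 𝐂(Pw M r)) ⁒ Pw M r := inf_eq_left.1 ((f.smp _ (normalIn_inf_of_norm
    (f.normalL.le.trans h2.norm))).resolve_left fun e => a1 (f.inj hA ha (mem_bot.1 (e ▸
      ⟨f.syl.le (f.W_le (f.mem_W h.toDSE hA ha)), coset_mem_quo _ (mem_inf.2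
        ⟨hA ha, le_cent_comm.1 (hS.trans h.S_le) ha⟩)⟩))))
  obtain ⟨κ, hκ, κ1, κ2, rfl⟩ := exists_piElt_coset_eq (h3 f.k_mem) (odd_elt.1 f.odd)
  have κ3 := f.mem_M hκ.1 f.k_norm
  have key : ∀ y ∈ zpowers κ, y ≠ 1 → ∀ x ∈ St M r, coset (Pw M r) x ∈ T →
      y⁻¹ * x⁻¹ * y * x ∈ Pw M r → x ∈ Pw M r := fun y hy y1 x hx e e' => by
    have y2 := zpowers_le.2 hκ.1 hy
    by_contra x1
    have h4 := f.cc _ e (mt (coset_eq_one_iff (hn hx)).1 x1) (mem_inf.2 ⟨zpowers_le.2 f.k_mem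
      (quo_zpowers κ1 ▸ coset_mem_quo _ hy), mem_cent1.2 (by
        rw [← coset_mul (hn y2) (hn hx), ← coset_mul (hn hx) (hn y2), eq_comm,
          coset_eq_iff (hn (mul_mem hx y2)) (hn (mul_mem y2 hx))]
        simpa [mul_assoc] using e')⟩)
    exact y1 (h.eq_one (hS ((coset_eq_one_iff (hn y2)).1 ((two_of_mem f.syl.isPGroup h4).eq_one
      ((κ2.of_mem_zpowers hy).coset _)))) (odd_elt.2 (κ2.of_mem_zpowers hy)))
  refine ⟨κ, κ3, odd_elt.2 κ2, hκ.2, fun a ha b hb a1 b1 => ?_, fun y hy y1 g hg => ?_,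
    fun y hy y1 z hz => key y hy y1 z hz.1.2 (f.mem_T h.toDSE hA hz.1.2 (h.S_le hz.1.1)) (by
      rw [mul_assoc, mul_assoc, ← mem_cent1.1 hz.2]; simp)⟩
  · obtain ⟨j, hj⟩ := f.cyc _ (f.mem_W h.toDSE hA ha) _ (f.mem_W h.toDSE hA hb)
      (mt (f.inj hA ha) a1) (mt (f.inj hA hb) b1)
    have h8 := conj_mem_of_norm (pow_mem (h.M_le κ3) j) ha
    rw [← coset_pow κ1, ← coset_conj (pow_mem κ1 j) (hn (hA ha))] at hj
    exact ⟨j, inv_mul_eq_one.1 (h.free hr h1 (mul_mem (inv_mem h8) hb)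
      ((coset_eq_iff (hn (hA h8)) (hn (hA hb))).1 hj))⟩
  by_contra g1
  have y2 := zpowers_le.2 hκ.1 hy
  have y3 := zpowers_le.2 κ3 hy
  have y4 := odd_elt.2 (κ2.of_mem_zpowers hy)
  obtain ⟨w, hw, w2, e⟩ := f.real _ (zpowers_le.2 f.k_mem (quo_zpowers κ1 ▸ coset_mem_quo _ hy))
    (y4.of_dvd_nat (orderOf_coset_dvd _ y))
  obtain ⟨t, ht, t1, rfl⟩ := f.inD w hw w2
  have t2 := GW.inv_eq (h.toSC.sqD t1)
  rw [← coset_conj (hn ht) (hn y2), eq_inv_iff_mul_eq_one, ← coset_mul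
    (hn (mul_mem (mul_mem ht y2) (inv_mem ht))) (hn y2), coset_eq_one_iff
      (hn (mul_mem (mul_mem (mul_mem ht y2) (inv_mem ht)) y2))] at e
  obtain ⟨x, hx, x1, x2⟩ := f.trans g hg.1 g1 t ht fun e' => y1 (h.not_real e' y3 y4 (hS e))
  have e1 : y⁻¹ * g⁻¹ = g⁻¹ * y⁻¹ := by rw [← mul_inv_rev, mem_cent1.1 hg.2, mul_inv_rev]
  have y5 := mem_inf.2 ⟨y2, y3⟩
  have h4 := key y hy y1 x hx.1 x1 (f.fix g hg.1 g1 _ (mem_inf.2 ⟨mul_mem (mul_mem (mul_mem (inv_mem y5)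
    (inv_mem hx)) y5) hx, mem_conj.2 (by
      convert mul_mem (inv_mem y3) (mul_mem (mul_mem (inv_mem x2)
        ((mul_mem_cancel_right y3).1 (f.le e))) x2) using 1
      calc _ = g⁻¹ * y⁻¹ * x⁻¹ * 1 * y * 1⁻¹ * x * g := by group
        _ = _ := by rw [← e1, ← h.toSC.sqD t1]; group)⟩) (by
      rw [coset_mul (hn (mul_mem (mul_mem (inv_mem y2) (inv_mem hx.1)) y2)) (hn hx.1),
        coset_mul (hn (mul_mem (inv_mem y2) (inv_mem hx.1))) (hn y2),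
        coset_mul (hn (inv_mem y2)) (hn (inv_mem hx.1)), coset_inv, coset_inv]
      exact mul_mem (conj_mem_of_norm' (f.mem_norm y2 y3) (inv_mem x1)) x1))
  refine y1 (h.not_real (m := t⁻¹ * g) ?_ y3 y4 (hS ?_))
  · convert mul_mem (f.le (f.normal.conj_mem (inv_mem ht) (inv_mem h4))) x2 using 1; group
  · convert e using 2
    rw [mul_inv_rev, ← mul_assoc, mul_assoc t⁻¹, mul_assoc t⁻¹, mem_cent1_iff_conj.1 hg.2, t2, t2]

end Hy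

end Cfsg.Agent.I2.Kg
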