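import Cfsg.Agent.Lib.I2.KIf
import Cfsg.Agent.Lib.I2.KIg

/-!
# Package KI: reduction to the case of exponent four
-/

set_option autoImplicit false

namespace Cfsg.Agent.I2.Ki

open Subgroup Cfsg.Agent.OO Cfsg.Agent.Coprime Cfsg.Agent.SZ Cfsg.Agent.GW Cfsg.Agent.W4
open scoped commutatorElement Pointwise

universe u

/-- the case in which all squares lie in `A` -/
def CA : Prop := ∀ (G : Type u) [Group G] [Finite G] (A S V : Subgroup G), Cov G →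
  IsElementaryAbelian 2 A → 8 ≤ ♯A → Syl 2 S ⊤ → A ≤ V → (∀ v, v ∈ V ↔ v ∈ S ∧ v * v = 1) →
  S ≤ 𝐂(A) → (∀ y ∈ S, y * y ∈ A) →
  (∀ a ∈ A, ∀ b ∈ A, a ≠ 1 → b ≠ 1 → ∃ k ∈ 𝐍(A) ⊓ 𝐍(S), k * a * k⁻¹ = b) →
  (∃ x ∈ S ⊓ 𝐂(V), ∃ y ∈ S ⊓ 𝐂(V), x * y ≠ y * x) → ♯S = ♯V * ♯A

theorem ki_of (kf3 : KF3.{u}) (ca : CA.{u}) : KI.{u} := fun G _ _ D A M hD h t t2 => by
  by_contra ht
  obtain ⟨Q, V, r, c⟩ := exists_cf kf3 h hD t2 ht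
  obtain ⟨S, hS, hQ⟩ := exists_syl_ge (le_top : Q ≤ ⊤) c.syl.isPGroup
  have hV : ∀ v, v ∈ V ↔ v ∈ S ∧ v * v = 1 := fun v =>
    ⟨fun e => ⟨hQ (c.V_le e), c.sqV e⟩, fun e => c.invol' kf3 h hD hS.isPGroup hQ e.1 e.2⟩
  by_cases hB : ∀ y ∈ S, y * y ∈ V → y ∈ Q
  · exact Kg.false kf3 h (c.cenA kf3 h hD) (c.pnil kf3 h hD hS hQ hB)
      hS (((c.A_le h).trans c.V_le).trans hQ) hV (c.four_le kf3 h hD hS hQ hB)
  push Not at hB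
  obtain ⟨y, hy, y2, y1⟩ := hB
  have h1 := ca G A S V h.cov h.elem h.eight hS (c.A_le h) hV (c.S_cent kf3 h hD hS hQ)
    (fun z => c.caseA kf3 h hD hS hQ hy y1 y2) (fun a ha b hb a1 b1 =>
      (c.kappa' kf3 h hD hS hQ ha hb a1 b1).imp fun _ e => ⟨⟨c.norm_V h e.1.1.2, e.1.2⟩, e.2⟩) (by
      rw [c.Q_eq kf3 h hS.isPGroup hQ]
      by_contra! e
      exact c.not_ab kf3 h hD (ab_iff.2 e))
  exact y1 ((eq_of_le_of_card_le hQ (h1.trans (c.card_Q kf3 h hD).symm).le).ge hy)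

end Cfsg.Agent.I2.Ki
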