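import Cfsg.Agent.Lib.I2.U4
import Cfsg.Agent.Lib.I2.DE0
import Cfsg.Agent.Lib.SP.Main

/-!
# Assembly of the classification of the simple groups with irrational 2-elements
-/

set_option autoImplicit false
set_option linter.unusedSectionVars false

namespace Cfsg.Agent.I2

open Subgroup Cfsg.Agent.OO Cfsg.Agent.Coprime Cfsg.Agent.SZ Cfsg.Agent.GW Cfsg.Agent.W4
open Cfsg.Agent.R4 (SC MinSC InD IsSz abelem_sq two_elt)
open scoped commutatorElement Pointwise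

universe u

section

variable {Γ G : Type u} [Group Γ] [Finite Γ] [Group G] [Finite G] {f : Γ →* G}
  {A B M S V Y : Subgroup G} {D : G → Prop}

theorem exists_minSC (h : SC A) (hA : A ≠ ⊥) : ∃ B ≤ A, MinSC B := by
  obtain ⟨B, hB, hm⟩ := (wellFounded_lt (α := Subgroup G)).has_min
    {B | B ≤ A ∧ SC B ∧ B ≠ ⊥} ⟨A, le_rfl, h, hA⟩
  refine ⟨B, hB.1, hB.2.1, hB.2.2, fun C hC hle => ?_⟩
  by_contra! hc
  exact hm C ⟨hle.trans hB.1, hC, hc.1⟩ (lt_of_le_of_ne hle hc.2)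

theorem MC.card_cases (hG : MC G) (h : SC A) (hA : A ≠ ⊥) : ♯A = 4 ∨ 8 ≤ ♯A := by
  have := hG.simple
  obtain ⟨n, hn⟩ := h.two.exists_card_eq
  rcases n with _ | _ | _ | n
  · exact (hA (card_eq_one.1 (by simpa using hn))).elim
  · obtain ⟨a, ha, a1⟩ := (A.bot_or_exists_ne_one).resolve_left hA
    refine (h.not_le_cent hG.nab ha a1 fun g hg => ?_).elim
    obtain ⟨y, -, hy⟩ := (Nat.card_eq_two_iff' (1 : A)).1 (by simpa using hn)
    have e1 := hy ⟨a, ha⟩ (by simpa using a1)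
    have e2 := hy ⟨g * a * g⁻¹, (mem_normalizer_iff.1 hg a).1 ha⟩
      (by simpa [Subtype.ext_iff, R4.conj_eq_one_iff] using a1)
    have e3 : g * a * g⁻¹ = a := congrArg Subtype.val (e2.trans e1.symm)
    exact mem_centralizer_singleton_iff.2 (mul_inv_eq_iff_eq_mul.1 e3)
  · exact .inl hn
  · exact .inr (by rw [hn, show n + 1 + 1 + 1 = 3 + n by ring, pow_add]; have := Nat.two_pow_pos n; omega)

theorem DS.exists_big (h : DS D) : ∃ A, Big D A ∧ ∀ a ∈ A, D a := by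
  obtain ⟨S, hS⟩ := exists_syl 2 (⊤ : Subgroup G)
  let A : Subgroup G :=
    { carrier := {x | x ∈ S ∧ D x}
      one_mem' := ⟨one_mem _, h.one⟩
      mul_mem' := fun hx hy => ⟨mul_mem hx.1 hy.1, h.mul hS.isPGroup hx.1 hy.1 hx.2 hy.2⟩
      inv_mem' := fun {x} hx => (inv_eq (h.sq hx.2)).symm ▸ hx }
  have h1 : ∀ T : Subgroup G, IsPGroup 2 T → A ≤ T → ∀ x ∈ T, D x → x ∈ A := fun T hT hA x hx d => by
    obtain ⟨g, -, e⟩ := hS.exists_conj_le le_top hT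
    have h2 : g ∈ 𝐍(A) := mem_norm_of_conj_mem fun a ha => ⟨e (conj_mem_conj (hA ha)), h.conj ha.2 g⟩
    exact (mem_normalizer_iff.1 h2 x).2 ⟨e (conj_mem_conj hx), h.conj d g⟩
  refine ⟨A, ⟨⟨⟨ab_iff.2 fun a ha b hb => ?_, fun a ha => (pow_two a).trans (h.sq ha.2)⟩,
    fun T hT hA a ha g e => h1 T hT hA _ e (h.conj ha.2 g)⟩, h1⟩, fun _ ha => ha.2⟩
  rw [← inv_eq (h.sq (mul_mem ha hb).2), mul_inv_rev, inv_eq (h.sq ha.2), inv_eq (h.sq hb.2)]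

theorem Big.mono (h : Big D A) (hD : DS D) (hle : A ≤ V) (hV : IsElementaryAbelian 2 V) : Big D V := by
  have h1 : ∀ T : Subgroup G, IsPGroup 2 T → V ≤ T → ∀ x ∈ T, D x → x ∈ V :=
    fun T hT e x hx d => hle (h.top T hT (hle.trans e) x hx d)
  exact ⟨⟨hV, fun T hT e v hv g hg => (mul_mem_cancel_right hv).1
    (h1 T hT e _ (mul_mem hg (e hv)) (hD.om hT (abelem_sq hV hv) (e hv) hg))⟩, h1⟩

theorem Big.ne_bot (h : Big D A) (hD : DS D) (hG : MC G) : A ≠ ⊥ := by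
  rintro rfl
  have h1 := hD.pnil h
  rw [cent_bot] at h1
  obtain ⟨S, hS⟩ := exists_syl 2 (⊤ : Subgroup G)
  refine (der_lt (H := ⊤) ?_ fun e => hG.nab ⟨⟨fun x y => ?_⟩⟩).ne hG.der_top
  · rcases hG.simple.eq_bot_or_eq_top_of_normal (O ⊤) (normalIn_top.1 (Opi_normal _ _)) with e | e
    · have := (h1.sdprod hS).sup_eq
      rw [show Op' 2 ⊤ = ⊥ from e, bot_sup_eq] at this
      exact this ▸ sol_of_isPGroup hS.isPGroup
    · exact e ▸ sol_of_odd (odd_O ⊤)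
  · rw [mem_bot.1 (e.le (mem_top x)), one_mul, mul_one]

/-- reduction to the embedded case -/
theorem MC.dse_or (ex1 : EX1.{u}) (ex2 : EX2.{u}) (ex3 : EX3.{u}) (ex8 : EX8.{u}) (hG : MC G)
    (hD : DS D) : (∃ B M : Subgroup G, DSE B M ∧ 8 ≤ ♯B) ∨ R1.Ab2 G := by
  obtain ⟨A, hA, -⟩ := hD.exists_big
  obtain ⟨V, hV, h8⟩ | h : (∃ V, Big D V ∧ 8 ≤ ♯V) ∨ R1.Ab2 G := by
    rcases hG.card_cases hA.toSC (hA.ne_bot hD hG) with h4 | h8
    swap
    · exact .inl ⟨A, hA, h8⟩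
    by_cases hI : ∀ t : G, t * t = 1 → InD A t
    · exact .inr (hG.u4 hA.toSC h4 hI)
    push Not at hI
    obtain ⟨t, t2, ht⟩ := hI
    obtain ⟨g, -, S, hS, h1, h2⟩ := hA.toSC.exists_conj (le_top : A ≤ ⊤) le_top (two_elt t2)
    have h3 := (hG.exists_q4 hA.toSC h4 hS h1).1 (h2 (conj_mem_conj (mem_zpowers t)))
    have h5 := hA.mono hD le_sup_left (abelem_sup hA.elem
      (abelem_zpowers ((pow_two _).trans (conj_sq t2 g))) (le_cent_symm (zpowers_le.2 h3)))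
    refine .inl ⟨_, h5, (hG.card_cases h5.toSC (h5.ne_bot hD hG)).resolve_left fun e => ht ⟨g, ?_⟩⟩
    rw [eq_of_le_of_card_ge (le_sup_left : A ≤ _) (e.trans h4.symm).le]
    exact mem_sup_right (mem_zpowers _)
  swap
  · exact .inr h
  have key : ∀ B : Subgroup G, MinSC B → (∃ M, DSE B M ∧ 8 ≤ ♯B) ∨
      (♯B = 4 ∨ Exc B) ∧ 4 ≤ ♯B ∧ Cen B := fun B hB => by
    rcases hG.card_cases hB.toSC hB.ne with h4 | h8
    · exact .inr ⟨.inl h4, h4.ge, hG.cen_four hB.toSC h4⟩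
    · exact (ex1 G B hG hB h8).imp (fun ⟨M, e⟩ => ⟨M, e, h8⟩) fun e => ⟨.inr e, by omega, e.cen⟩
  obtain ⟨B, hle, hB⟩ := exists_minSC hV.toSC (hV.ne_bot hD hG)
  rcases key B hB with h | ⟨h1, h2, h3⟩
  · exact .inl ⟨B, h⟩
  by_cases hU : Uq V B
  · exact .inr (h1.elim (fun e => (ex3 G D V B hG hD hV h8 hB.toSC e hle hU).elim)
      fun e => ex8 G D V B hG hD hV hB.toSC e hle hU)
  simp only [Uq, not_forall] at hU
  obtain ⟨C, c1, c2, c3, c4⟩ := hU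
  obtain ⟨B', hle', hB'⟩ := exists_minSC c2 c4
  rcases key B' hB' with h | ⟨-, h4, h5⟩
  · exact .inl ⟨B', h⟩
  exact (ex2 G B B' hG hB.toSC hB'.toSC h2 h4 h3 h5 (le_bot_iff.1 (c3 ▸ inf_le_inf_left B hle'))
    ((hle'.trans c1).trans (hV.toSC.ab.le_cent.trans (cent_anti hle)))).elim

/-- package EO for a group with a possibly nontrivial odd core -/
theorem eo_glue (eoa : EOa.{u}) (eoc : EOc.{u}) (h : Cv f) [B.Normal] (h1 : IsElementaryAbelian 2 B)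
    (h8 : 8 ≤ ♯B) (h2 : ∀ t : G, t * t = 1 → t ∈ B) (h3 : ∀ b ∈ B, Lf f b) (h4 : Odd ♯Y)
    (h5 : ∀ a ∈ B, ∀ b ∈ B, a ≠ 1 → b ≠ 1 → ∃ y ∈ Y, y * a * y⁻¹ = b) (hS : Syl 2 S ⊤) :
    S ≤ 𝐂(B) ∧ (Ab S ∨ ♯S = ♯B ^ 2) := by
  have hn : ∀ g : G, g ∈ 𝐍(B) := fun g => le_normalizer_of_normal (mem_top g)
  have hp : PNil 2 𝐂(B) := h.ds.pp'.pnil ⟨h1, fun _ _ _ _ ha g _ => conj_mem_of_norm (hn g) ha⟩
    fun t e => .of_mem (h2 t e)
  have : (O 𝐂(B)).Normal := normalIn_top.1 ⟨le_top, le_norm_O fun g _ => norm_le_norm_cent B (hn g)⟩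
  obtain ⟨X, _, _, φ, k0, k1, k2⟩ : ∃ (X : Type u) (_ : Group X) (_ : Finite X) (φ : G →* X),
      φ.ker = O 𝐂(B) ∧ Function.Surjective φ ∧ ∀ T : Subgroup G, IsPGroup 2 T → ♯(T.map φ) = ♯T :=
    ⟨_, _, inferInstance, QuotientGroup.mk' (O 𝐂(B)), QuotientGroup.ker_mk' _,
      QuotientGroup.mk'_surjective _, fun T hT => by
        have := Core.card_map_mk_mul (O 𝐂(B)) T
        rwa [inf_comm, inf_eq_bot_odd hT (odd_O _), card_bot, one_mul] at this⟩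
  have ko : Odd ♯φ.ker := by rw [k0]; exact odd_O _
  have k3 : ∀ T : Subgroup G, IsPGroup 2 T → ∀ x ∈ T, φ x = 1 → x = 1 := fun T hT x hx e =>
    mem_bot.1 ((inf_eq_bot_odd hT (odd_O _)).le ⟨hx, k0.le e⟩)
  have hB := abelem_isPGroup h1
  have k4 : 𝐂(B).map φ = 𝐂(B.map φ) := map_centralizer_eq φ k1 (cop ko hB).symm (.inr (sol_of_odd ko))
  obtain ⟨Γ', _, _, f', c1, c2⟩ := h.quot φ k1 ko
  have c3 : EH f' (B.map φ) (Y.map φ) := by
    refine ⟨c1, Normal.map inferInstance φ k1, abelem_map h1 φ, (k2 B hB).symm ▸ h8, fun t t2 => ?_,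
      ?_, k4 ▸ isPGroup_iff_piGrp.2 (piGrp_iff_forall.2 ?_), h4.of_dvd_nat (card_map_dvd _ _), ?_⟩
    · obtain ⟨x, rfl⟩ := k1 t
      have e : φ (constt {2} x) = φ x := by
        rw [map_constt, constt_eq_self (isPGroup_zpowers_iff.1 (two_elt t2))]
      exact ⟨_, h2 _ (k3 _ (isPGroup_zpowers_iff.2 (piElt_constt {2} x)) _
        (mul_mem (mem_zpowers _) (mem_zpowers _)) (by rw [map_mul, e, t2])), e⟩
    · rintro _ ⟨b, hb, rfl⟩
      exact c2 b (h3 b hb)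
    · rintro _ ⟨x, hx, rfl⟩
      rw [← constt_mul_constt_compl {2} x, map_mul, show φ (constt {2}ᶜ x) = 1 from k0.ge
        ((NS.mem_O hp).2 ⟨constt_mem _ hx, odd_elt.2 (piElt_constt _ x)⟩), mul_one]
      exact (piElt_constt _ x).map φ
    · rintro _ ⟨a, ha, rfl⟩ _ ⟨b, hb, rfl⟩ a1 b1
      obtain ⟨y, hy, e⟩ := h5 a ha b hb (by rintro rfl; simp at a1) (by rintro rfl; simp at b1)
      exact ⟨_, mem_map_of_mem φ hy, by rw [← e]; simp⟩
  have c4 : Odd 𝐂(B.map φ).index :=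
    (em _).elim (eoa _ _ f' _ _ c3) fun e => (eoc _ _ f' _ _ c3 e).1
  have c5 := c3.normal
  have c6 : S.map φ ≤ 𝐂(B.map φ) := le_of_coprime_relIndex le_top
    (le_norm_cent le_normalizer_of_normal) (by
      rw [relIndex_top_right]
      obtain ⟨n, e⟩ := (hS.isPGroup.map φ).exists_card_eq
      exact e ▸ (Nat.coprime_two_left.2 c4).pow_left n)
  have c7 : 𝐂(B.map φ) = S.map φ := (hS.map φ).eq_of_le c6
    (by rw [← MonoidHom.range_eq_map, MonoidHom.range_eq_top.2 k1]; exact le_top) c3.twoC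
  refine ⟨fun s hs => ?_, (em (Ab 𝐂(B.map φ))).imp (fun e => ab_iff.2 fun a ha b hb => ?_) fun e => ?_⟩
  · obtain ⟨c, hc, e⟩ := k4.ge (c6 (mem_map_of_mem φ hs))
    exact (mul_mem_cancel_left (inv_mem hc)).1 (O_le _ (k0.le (show φ (c⁻¹ * s) = 1 by simp [e])))
  · have := ab_iff.1 e _ (c6 (mem_map_of_mem φ ha)) _ (c6 (mem_map_of_mem φ hb))
    exact mul_inv_eq_one.1 (k3 S hS.isPGroup _ (mul_mem (mul_mem ha hb) (inv_mem (mul_mem hb ha)))
      (by rw [map_mul, map_inv, map_mul, map_mul, this, mul_inv_cancel]))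
  · rw [← k2 S hS.isPGroup, ← c7, (eoc _ _ f' _ _ c3 e).2, k2 B hB]

theorem DN.exists_odd (h : DN A M) : ∃ Y ≤ 𝐍(A), Odd ♯Y ∧
    ∀ a ∈ A, ∀ b ∈ A, a ≠ 1 → b ≠ 1 → ∃ y ∈ Y, y * a * y⁻¹ = b := by
  obtain ⟨Y, h1, h2, h3⟩ := h.toDSE.r2
  have hn : M ≤ 𝐍(O M) := le_norm_O le_normalizer
  have hA := h.toDSE.A_le
  have hb := inf_eq_bot_odd h.toSC.two (odd_O M)
  refine ⟨𝐍(A) ⊓ (O M ⊔ Y), inf_le_left, odd_of_le (((odd_O M).mul h2).of_dvd_nat
    (card_sup_dvd (.inr (h1.trans hn)))) inf_le_right, fun a ha b hb' a1 b1 => ?_⟩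
  obtain ⟨y, hy, e⟩ := h3 a (hA ha) (.of_mem ha) a1 b (hA hb') (.of_mem hb') b1
  have h4 : Syl 2 A (A ⊔ O M) := ⟨le_sup_left, h.toSC.two, fun e => (odd_O M).not_two_dvd_nat (by
    have := card_sup_of_inf_eq_bot (.inl (hA.trans hn)) hb
    rw [← card_mul_relIndex (le_sup_left : A ≤ A ⊔ O M)] at this
    exact Nat.eq_of_mul_eq_mul_left (card_pos' A) this ▸ e)⟩
  obtain ⟨c, hc, n, hn', rfl⟩ := (h4.frattini ⟨sup_le hA (O_le M), h.normO⟩).mem_iff.1 (h1 hy)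
  rw [sup_comm] at hc
  obtain ⟨o, ho, β, hβ, rfl⟩ := (mem_sup_norm_left (hA.trans hn)).1 hc
  have h5 : β * n ∈ 𝐍(A) := mul_mem (le_normalizer hβ) hn'.2
  refine ⟨β * n, ⟨h5, ?_⟩, mul_inv_eq_one.1 (mem_bot.1 (hb.le
    (mem_inf.2 ⟨mul_mem (conj_mem_of_norm h5 ha) (inv_mem hb'), ?_⟩)))⟩
  · exact (mul_mem_cancel_left (mem_sup_left ho : o ∈ O M ⊔ Y)).1 (mul_assoc o β n ▸ mem_sup_right hy)
  · rw [show β * n * a * (β * n)⁻¹ * b⁻¹ = o⁻¹ * (b * o * b⁻¹) by rw [← e]; group]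
    exact (O M).mul_mem (inv_mem ho) (conj_mem_of_norm (hn (hA hb')) ho)

/-- the embedded case -/
theorem DSE.kn (de1 : DE1.{u}) (ki : KI.{u}) (eoa : EOa.{u}) (eoc : EOc.{u}) (se3 : SE3.{u})
    (h : DSE A M) (h8 : 8 ≤ ♯A) : Kn G := by
  obtain ⟨M', hM', hle⟩ := (eq_top_or_exists_le_coatom M).resolve_left h.ne
  have h' : DSE A M' := { h with
    ne := hM'.1
    norm := h.norm.trans hle
    cent := fun a ha a1 => (h.cent a ha a1).trans hle }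
  obtain ⟨Γ, _, _, f, hf⟩ := h.cov
  have hn := de1 G _ A M' hf.ds h' h8 hM'
  have h2 := ki G _ A M' hf.ds hn
  obtain ⟨Y, y1, y2, y3⟩ := hn.exists_odd
  have h3 : ∀ b ∈ A, Lf f b := fun b hb => by
    obtain ⟨V, hV, e⟩ := hf.ds.exists_big
    obtain ⟨d, hd, d1⟩ := exists_mem_ne_one (hV.ne_bot hf.ds h.toMC)
    obtain ⟨g, hg⟩ := h2 d (hV.toSC.sq hd)
    by_cases b1 : b = 1
    · exact b1 ▸ hf.ds.one
    obtain ⟨y, -, rfl⟩ := y3 _ hg b hb (conj_ne_one.2 d1) b1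
    exact hf.ds.conj (hf.ds.conj (e d hd) g) y
  have h4 : ∀ s ∈ 𝐍(A), s * s = 1 → s ∈ A := fun s hs e =>
    h.toSC.mem (S := A ⊔ zpowers s)
      (h.toSC.two.to_sup_of_normal_left' (two_elt e) (zpowers_le_of_mem hs)) le_sup_left
      (mem_sup_right (mem_zpowers s)) (h2 s e)
  have h5 : ∀ S, Syl 2 S ⊤ → A ≤ S → S ≤ 𝐂(A) ∧ (Ab S ∨ ♯S = ♯A ^ 2) := fun S hS hA => by
    have hSA := h.toSC.le_norm hS.isPGroup hA
    have e1 := Core.card_subgroupOf_of_le (le_norm_self A)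
    obtain ⟨k1, k2⟩ := eo_glue eoa eoc (hf.sub 𝐍(A)) (B := A.subgroupOf 𝐍(A)) (Y := Y.subgroupOf 𝐍(A))
      (S := S.subgroupOf 𝐍(A)) (abelem_congr (subgroupOfEquivOfLe (le_norm_self A)).symm h.elem)
      (e1 ▸ h8) (fun t e => h4 t t.2 (congrArg Subtype.val e)) (fun b hb => (h3 b hb).sub)
      ((Core.card_subgroupOf_of_le y1).symm ▸ y2) (fun a ha b hb a1 b1 =>
        let ⟨y, hy, e⟩ := y3 a ha b hb (fun e => a1 (Subtype.ext e)) fun e => b1 (Subtype.ext e)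
        ⟨⟨y, y1 hy⟩, hy, Subtype.ext e⟩)
      ⟨le_top, isPGroup_subgroupOf hS.isPGroup _, by
        rw [relIndex_top_right]; exact (hS.mono hSA le_top).2.2⟩
    refine ⟨fun s hs => mem_cent_iff.2 fun a ha => congrArg Subtype.val
      (mem_cent_iff.1 (k1 (x := ⟨s, hSA hs⟩) hs) ⟨a, le_normalizer ha⟩ ha), k2.imp (fun e =>
        ab_iff.2 fun a ha b hb => congrArg Subtype.val
          (ab_iff.1 e ⟨a, hSA ha⟩ ha ⟨b, hSA hb⟩ hb)) fun e => ?_⟩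
    rwa [e1, Core.card_subgroupOf_of_le hSA] at e
  obtain ⟨S, hS, hA⟩ := exists_syl_ge (M := ⊤) le_top h.toSC.two
  by_cases ha : Ab S
  · exact kn_of_ab2 h.toMC (ab2_of_syl hS ha)
  have h6 : Cen A := fun g hg e => by
    obtain ⟨T, hT, e'⟩ := exists_syl_ge (M := ⊤) le_top (isPGroup_sup (isPGroup_zpowers_iff.2 e)
      h.toSC.two (Or.inl (zpowers_le.2 hg)))
    exact (h5 T hT (le_sup_right.trans e')).1 (e' (mem_sup_left (mem_zpowers g)))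
  have h1 := se3 G A M' S ⟨hn, h2, hS, hA, h6, (h5 S hS hA).2.resolve_left ha, ha⟩
  refine (SP.szp (M := M') h.simple ⟨fun T hT t ht t2 => ?_, fun T hT g hg ho =>
    h.cov.pp T g hT hg (Nat.odd_iff.2 (Nat.two_dvd_ne_zero.1 ho))⟩ ⟨h'.ne, ?_, fun g hg e => hg ?_⟩
    (fun s hs t ht e e' => h.toSC.comm (h4 s (h1 hs) e) (h4 t (h1 ht) e')) ?_).elim
    (kn_of_ab2 h.toMC) .inr
  · obtain ⟨g, -, e⟩ := hS.exists_conj_le le_top hT
    have k1 := h.toSC.mem hS.isPGroup hA (e (conj_mem_conj ht)) (h2 _ (conj_sq t2 g))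
    refine mem_cent_iff.2 fun x hx => ?_
    have := mem_cent_iff.1 ((h5 S hS hA).1 (e (conj_mem_conj hx))) _ k1
    rw [conj_mul, conj_mul] at this
    simpa using this.symm
  · refine .trans ?_ (card_dvd h'.A_le)
    obtain ⟨k, hk⟩ := h.toSC.two.exists_card_eq
    rcases k with _ | k
    · omega
    · exact ⟨2 ^ k, by rw [hk]; ring⟩
  · obtain ⟨x, hx⟩ := exists_prime_orderOf_dvd_card' 2 e
    have x2 : x * x = 1 := by rw [← pow_two, ← hx, pow_orderOf_eq_one]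
    have x1 : x ≠ 1 := fun e => by simp [e] at hx
    have y2 : g⁻¹ * x * g * (g⁻¹ * x * g) = 1 := by
      have := congrArg Subtype.val x2
      simp only [coe_mul, coe_one] at this
      rw [show g⁻¹ * x * g * (g⁻¹ * x * g) = g⁻¹ * (x * x) * g by group, this]; group
    refine h'.mem (d := g⁻¹ * x * g) ?_ (h2 _ y2) (fun e => x1 ?_) (by simpa [mul_assoc] using x.2.1)
    · simpa using mem_pointwise_smul_iff_inv_smul_mem.1 (mem_inf.1 x.2).2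
    · have := (R4.conj_eq_one_iff (g := g⁻¹) (t := x)).1 (by simpa using e)
      exact Subtype.ext this
  · obtain ⟨a, ha, a1⟩ := h.exists_ne
    have : ∃ b ∈ A, b ≠ 1 ∧ b ≠ a := by
      by_contra! hc
      have h5 : (A : Set G) ⊆ {1, a} := fun b hb => by
        by_cases e : b = 1
        · simp [e]
        · simp [hc b hb e]
      have h6 := (Set.ncard_le_ncard h5).trans (Set.ncard_insert_le _ _)
      rw [Set.ncard_singleton, ← Nat.card_coe_set_eq] at h6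
      exact absurd (h.four.trans h6) (by norm_num)
    obtain ⟨b, hb, b1, e⟩ := this
    exact ⟨a, h'.A_le ha, b, h'.A_le hb, a1, b1, e.symm, h.toSC.sq ha, h.toSC.sq hb⟩

end

theorem ky_of (ex1 : EX1.{u}) (ex2 : EX2.{u}) (ex3 : EX3.{u}) (ex8 : EX8.{u}) (de1 : DE1.{u})
    (ki : KI.{u}) (eoa : EOa.{u}) (eoc : EOc.{u}) (se3 : SE3.{u}) (n : ℕ) : KY.{u} n := by
  induction n with
  | zero => exact fun _ _ _ h => absurd h (Nat.not_lt_zero _)
  | succ n ih =>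
    intro X _ _ hX h1 h2 h3
    have hG : MC X := ⟨h1, h2, h3, ih.mono (Nat.lt_succ_iff.1 hX)⟩
    obtain ⟨D, hD⟩ := h3.exists_ds
    rcases hG.dse_or ex1 ex2 ex3 ex8 hD with ⟨A, M, h, h8⟩ | h
    · exact h.kn de1 ki eoa eoc se3 h8
    · exact kn_of_ab2 hG h

theorem fin30 {G : Type u} [Group G] [Finite G] (ky : ∀ n, KY.{u} n) [IsSimpleGroup G]
    (hna : ¬ IsMulCommutative G)
    (hirr : ∀ x : G, (∀ r : ℕ, r.Prime → r ∣ orderOf x → r = 2) →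
      Subgroup.normalizer ((Subgroup.zpowers x : Subgroup G) : Set G) ≤ Subgroup.centralizer {x}) :
    (∃ (F : Type) (_ : Field F) (_ : Fintype F), 4 ≤ Fintype.card F ∧
        (Fintype.card F % 8 = 0 ∨ Fintype.card F % 8 = 3 ∨ Fintype.card F % 8 = 5) ∧
        Nonempty (G ≃* Matrix.ProjectiveSpecialLinearGroup (Fin 2) F)) ∨
    Cfsg.IsSuzuki G ∨ Cfsg.IsRee G ∨ Cfsg.IsJ1 G :=
  (ky _ G (Nat.lt_succ_self _) ‹_› hna (Irr.cov fun x hx => hirr x fun _ hr e =>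
    by_contra fun e' => hx.not_dvd hr e' e)).list ‹_› hna

end Cfsg.Agent.I2
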