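import Cfsg.Agent.Lib.I2.SE3c
import Cfsg.Agent.Lib.I2.Cov
import Cfsg.Agent.Lib.I2.DE0

/-!
# Package SE3: the strongly embedded subgroup normalizes `A`
-/

set_option autoImplicit false

namespace Cfsg.Agent.I2

open Subgroup Cfsg.Agent.OO Cfsg.Agent.Coprime Cfsg.Agent.ZL Cfsg.Agent.SE Cfsg.Agent.GW Cfsg.Agent.W4
open scoped commutatorElement Pointwise

universe u

namespace Se

variable {G : Type u} [Group G] [Finite G] {A H M N S U Y : Subgroup G} {n p : ℕ}

theorem two_core [hp : Fact p.Prime] (hY : IsPGroup p Y) (hle : Y ≤ M) (h : ¬ p ∣ M.index - 1) :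
    ∃ g ∉ M, Y ≤ g •ᶜ M := by
  by_contra! hc
  have h8 := hY.card_modEq_card_fixedPoints (G ⧸ M)
  have h9 : MulAction.fixedPoints Y (G ⧸ M) = {((1 : G) : G ⧸ M)} := by
    ext c
    obtain ⟨g, rfl⟩ := QuotientGroup.mk_surjective c
    refine ⟨fun hg => by_contra fun e => hc g (fun e' => e (QuotientGroup.eq.2 (by simpa)))
      fun y hy => smul_coe_eq.1 (hg ⟨y, hy⟩), fun e y => ?_⟩
    rw [show (g : G ⧸ M) = (1 : G) from e]
    exact smul_coe_eq.2 (by rw [one_conj]; exact hle y.2)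
  rw [h9, Nat.card_coe_set_eq, Set.ncard_singleton] at h8
  exact h ((Nat.modEq_iff_dvd' Nat.card_pos).1 h8.symm)

theorem k1_of {L T W : Subgroup (Coset N)} {k : Coset N} (h : K1F A M H N L T W k n) : K1 M H := by
  have hT := h.syl.le.trans h.normalL.le
  have hW : W ≤ T := fun w hw => ((h.mem w).1 hw).1
  have hT0 : T ≠ ⊥ := fun e => by
    have := h.four.trans (card_le hW)
    simp [e] at this
  refine ⟨⟨N, h.normal, h.le, fun U hU ho => ?_⟩, fun p hp p2 Y hY hYp => ?_, fun p hp p2 Y hY hYp => ?_⟩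
  · have h1 := hU.quo N
    rw [h.stab] at h1
    have h2 : Odd ♯(U ⁒ N) := odd_iff.2 ((odd_iff.1 ho).quo N)
    have h3 := le_cent_of_coprime (h1.le.trans inf_le_right)
      ((le_inf hT (le_norm_self T)).trans h1.norm)
      (coprime_of_isPGroup h.syl.isPGroup (odd_iff.1 h2)).symm
    have h4 := le_inf (h.centW.trans' (le_inf (h1.le.trans (inf_le_left.trans h.normalL.norm))
      (h3.trans (cent_anti hW)))) (h1.le.trans inf_le_left)
    rw [sup_inf_of_le_left (.inl (le_norm_cent (le_norm_of_le h.syl.le))) hT, inf_comm, h.centL,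
      sup_bot_eq] at h4
    exact (quo_eq_bot_iff (hU.le.trans (inf_le_left.trans h.normal.norm))).1
      (eq_bot_iff.2 (inf_eq_bot_odd h.syl.isPGroup h2 ▸ le_inf h4 le_rfl))
  · haveI := Fact.mk hp
    obtain ⟨g, hg, e⟩ := two_core (M := M.subgroupOf H) (hYp.comap_subtype (K := H))
      (fun x hx => (hY hx).1) (by
        obtain ⟨m, hm⟩ := h.syl.isPGroup.exists_card_eq
        rw [← relIndex, h.idx, Nat.add_sub_cancel, hm]
        exact fun e => p2 ((Nat.prime_dvd_prime_iff_eq hp Nat.prime_two).1 (hp.dvd_of_dvd_pow e)))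
    refine ⟨g, g.2, hg, fun y hy => mem_conj.2 ?_⟩
    have := mem_conj.1 (e (show (⟨y, (hY hy).2⟩ : H) ∈ _ from hy))
    exact this
  haveI := Fact.mk hp
  have hYN := hY.trans h.normal.norm
  have hYL := (quo_mono N hY).trans h.normalL.norm
  obtain ⟨Z, h1, h2, h3, h4, h5⟩ : ∃ Z ≤ L, Z ≠ ⊥ ∧ Sol Z ∧ Y ⁒ N ≤ 𝐍(Z) ∧ 2 ∣ ♯(L ⊓ 𝐍(Z)) := by
    by_cases e : p ∣ ♯L
    · obtain ⟨P, hP, hYP⟩ := exists_syl_ge (quo_mono N hY) (isPGroup_quo hYp N)
      obtain ⟨w, hw, w1⟩ := exists_mem_ne_one (inf_cent_ne_bot_of_nil hP.nil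
        (h.normalL.inf_left hP.le) ((hP.inf_normal h.normalL).ne_bot e))
      have ho := odd_of_mem (odd_of_isPGroup p2 hP.isPGroup) hw.1.1
      obtain ⟨g, hg, g2, e'⟩ := h.real w hw.1.2 ho
      refine ⟨zpowers w, zpowers_le.2 hw.1.2, zpowers_ne_bot.2 w1, sol_of_ab (ab_of_isCyclic inferInstance),
        hYP.trans (le_norm_of_le_cent (le_cent_symm (zpowers_le.2 hw.2))), two_dvd (t := g) (mem_inf.2 ⟨hg, ?_⟩)
          (fun e => w1 (eq_one_of_inv ho e' (e ▸ one_mem _))) g2⟩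
      rw [← conj_eq_self_iff, conj_zpowers, e', zpowers_inv]
    · obtain ⟨Z, hZ, hn⟩ := exists_invariant_sylow 2 hYL (coprime_of_isPGroup (isPGroup_quo hYp N)
        ((piGrp_compl_singleton hp).2 e)) (.inl (sol_of_isPGroup (isPGroup_quo hYp N)))
      have h6 := (dvd_card_of_isPGroup h.syl.isPGroup hT0).trans (card_dvd h.syl.le)
      exact ⟨Z, hZ.le, hZ.ne_bot h6, hZ.sol, hn,
        (hZ.dvd_card_iff.2 h6).trans (card_dvd (le_inf hZ.le (le_norm_self Z)))⟩
  refine ⟨quoPre N (H ⁒ N ⊓ 𝐍(Z)), ?_, (quo_le_iff_le_quoPre hYN).1 (le_inf (quo_mono N hY) h4),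
    (h5.trans (card_dvd (inf_le_inf_right _ h.normalL.le))).trans ?_⟩
  · rw [← quoPre_quo h.normal, quoPre_lt_quoPre_iff, quoPre_quo h.normal, inf_lt_left]
    refine fun e => h.nab ?_
    obtain rfl := (h.smp Z ⟨h1, h.normalL.le.trans e⟩).resolve_left h2
    exact ab_iff_der.2 ((h.smp _ (der_normal Z)).resolve_right (der_lt h3 h2).ne)
  · conv_lhs => rw [← quo_quoPre (H ⁒ N ⊓ 𝐍(Z))]
    exact card_quo_dvd _ N

variable (h : DZ A M S)
include h

theorem le_norm : S ≤ 𝐍(A) := h.toSC.le_norm h.syl.isPGroup h.le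

theorem le_cent : S ≤ 𝐂(A) := fun x hx => h.cen x (le_norm h hx) (two_of_mem h.syl.isPGroup hx)

omit [Finite G] in
theorem mem_A {t : G} (ht : t ∈ S) (t2 : t * t = 1) : t ∈ A :=
  h.toSC.mem h.syl.isPGroup h.le ht (h.inv t t2)

theorem cp : SP.CP G := ⟨fun T hT t ht t2 => by
  obtain ⟨g, -, e⟩ := h.syl.exists_conj_le le_top hT
  have := le_cent_symm (e.trans (le_cent h)) (mem_A h (e (conj_mem_conj ht)) (conj_sq t2 g))
  rwa [cent_conj, conj_mem_conj_iff] at this,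
  fun T hT g hg ho => h.cov.pp T g hT hg (Nat.odd_iff.2 (Nat.two_dvd_ne_zero.1 ho))⟩

theorem se : SE M :=
  se_of_mem h.ne (let ⟨a, ha, a1⟩ := h.exists_ne; two_dvd (h.A_le ha) a1 (by rw [← sq]; exact h.elem.2 a ha))
    fun t ht t1 t2 _ hg => h.mem ht (h.inv t t2) t1 hg

theorem der_le : der S ≤ A := by
  have hN := le_norm h
  have h4 := h.four
  have h1 : S ⁒ A ≠ ⊥ := quo_ne_bot hN fun e => h.nabS (ab_of_le (abelem_ab h.elem) e)
  have h2 := isPGroup_quo h.syl.isPGroup A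
  obtain ⟨x, hx, x1, x2⟩ := exists_inv (dvd_card_of_isPGroup (h2.to_le (Zc_le _))
    (inf_cent_ne_bot_of_nil (nil_of_isPGroup h2) ⟨le_rfl, le_norm_self _⟩ h1))
  obtain ⟨x, hxS, rfl⟩ := (mem_quo_of_le hN).1 hx.1
  rw [← coset_mul (hN hxS) (hN hxS), coset_eq_one_iff (hN (mul_mem hxS hxS))] at x2
  have hZ : 𝐍(A) ⊓ 𝐍(S) ≤ 𝐍(S ⊓ Core.relCentralizer S A) := le_norm_inf inf_le_right
    (Core.le_normalizer_relCentralizer inf_le_right inf_le_left)
  have h3 : x ∈ S ⊓ Core.relCentralizer S A := ⟨hxS, hN hxS, fun y hy =>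
    (coset_commute_iff (hN hy) (hN hxS)).1 (mem_cent_iff.1 hx.2 _ (coset_mem_quo A hy))⟩
  have h5 : ∀ a : A, ∃ z ∈ S ⊓ Core.relCentralizer S A, z * z = a := fun ⟨a, ha⟩ => by
    by_cases a1 : a = 1
    · exact ⟨1, one_mem _, by simp [a1]⟩
    obtain ⟨g, hg, e⟩ := h.trans x2 ha (fun e => x1 ((coset_eq_one_iff (hN hxS)).2 (mem_A h hxS e))) a1
    obtain ⟨c, hc, m, hm, rfl⟩ := ((h.syl.mono (le_cent h) le_top).frattini
      ⟨cent_le_norm A, norm_le_norm_cent A⟩).mem_iff.1 hg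
    refine ⟨_, conj_mem_of_norm (hZ hm) h3, Eq.trans ?_ e⟩
    rw [conj_mul, ← mem_cent_iff_conj.1 hc _ (conj_mem_of_norm hm.1 x2)]
    group
  choose s hs e using h5
  have hA : A ≤ S ⊓ Core.relCentralizer S A := fun a ha => ⟨h.le ha, le_norm_self A ha, fun y hy =>
    commutator_le_right' hN (commutator_mem_commutator hy ha)⟩
  have k : ∀ a b : A, s a * b * (s a * b) = a := fun a b => by
    rw [mul_assoc, ← mul_assoc b.1, mem_cent_iff.1 (le_cent h (hs a).1) b b.2, mul_assoc, ← sq,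
      h.elem.2 b b.2, mul_one, e]
  have h6 := Nat.card_le_card_of_injective (fun y : A × A => (⟨s y.1 * y.2, mul_mem (hs _) (hA y.2.2)⟩ :
    ↥(S ⊓ Core.relCentralizer S A))) fun ⟨a, b⟩ ⟨c, d⟩ e' => by
      have e1 : s a * b = s c * d := congrArg Subtype.val e'
      obtain rfl : a = c := Subtype.ext (by rw [← k a b, e1, k])
      rw [Subtype.ext (mul_left_cancel e1 : b.1 = d.1)]
  rw [Nat.card_prod, ← sq, ← h.card] at h6
  have h7 := eq_of_le_of_card_le inf_le_left h6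
  exact commutator_le.2 fun y hy z hz => (h7.ge hz).2.2 y hy

theorem syl_A : Syl 2 A (A ⊔ O M) :=
  (((IsSdprod.of_sup (h.A_le.trans (O_norm M)) (inf_comm A _ ▸ inf_eq_bot_odd
    (abelem_isPGroup h.elem) (odd_O M))).hall_right (odd_iff.1 (odd_O M))
      (piGrp_singleton (abelem_isPGroup h.elem))).syl).mono le_sup_left (sup_comm _ _).le

theorem syl_M : Syl 2 S M := h.syl.mono ((le_norm h).trans h.norm) le_top

omit [Finite G] in
theorem normal : A ⊔ O M ⊴ M := ⟨sup_le h.A_le (Opi_le _ M), h.normO⟩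

theorem sol : Sol M := by
  have h1 := (h.cov.pp.pnil h.toSC h.inv).sdprod (h.syl.mono (le_cent h) le_top)
  have h2 : Sol 𝐂(A) := by
    rw [← h1.sup_eq, sup_comm]
    exact sol_sup h1.le_norm h.syl.sol (sol_of_odd (odd_O _))
  have h3 : Sol 𝐍(A) := sol_of_quo (norm_le_norm_cent A) (sol_of_le h2 inf_le_left) (sol_of_odd (by
    rw [card_quo (norm_le_norm_cent A), Nat.odd_iff, ← Nat.two_dvd_ne_zero]
    exact fun e => (h.syl.mono (le_norm h) le_top).not_dvd
      (e.trans (relIndex_dvd_of_le_left _ (le_cent h)))))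
  rw [← ((syl_A h).frattini (normal h)).sup_eq, sup_comm]
  exact sol_sup (inf_le_left.trans h.normO) (sol_of_le h3 inf_le_right) (sol_sup
    (h.A_le.trans (O_norm M)) (sol_of_ab (abelem_ab h.elem)) (sol_of_odd (odd_O M)))

theorem ev : Ev M := fun D hD he T hT h2 => by
  obtain ⟨s, hs, s1, s2⟩ := exists_inv he
  have h1 : A ≤ D := fun a ha => by
    by_cases a1 : a = 1
    · exact a1 ▸ one_mem D
    obtain ⟨g, hg, rfl⟩ := se_class_in (se h) (hD.le hs) s1 s2 (h.A_le ha) a1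
      (by rw [← sq]; exact h.elem.2 a ha)
    exact hD.conj_mem hg hs
  obtain ⟨g, hg, e⟩ := (syl_M h).exists_conj_le hT h2
  rw [← conj_le_conj_iff (g := g), ← der_conj, hD.conj_eq hg]
  exact (der_mono e).trans ((der_le h).trans h1)

theorem a2 : R4.E2.A2 (Ohm 2 M) := fun T hT h2 => by
  obtain ⟨g, -, e⟩ := (syl_A h).exists_le_conj' (hT.trans (Ohm_le_iff.2 fun t ht t2 => by
    rw [sq] at t2
    obtain ⟨g, hg, e⟩ := (syl_M h).exists_conj_le (zpowers_le.2 ht) (isPGroup_zp t2)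
    rw [← conj_mem_conj_iff (g := g), (normal h).conj_eq hg]
    exact mem_sup_left (mem_A h (e (conj_mem_conj (mem_zpowers t))) (conj_sq t2 g)))) h2
  exact ab_of_le (ab_conj.2 (abelem_ab h.elem)) e

end Se

open Se in
theorem se3 (kf3 : KF3.{u}) : SE3.{u} := fun G _ _ A M S h => by
  have h8 := h.eight
  have h1 : A ≤ 𝐂(Fit (O M)) := le_cent_Fit_of_forall fun p hp => by
    by_cases p2 : p = 2
    · subst p2
      rw [← inf_eq_left.2 (Op_le 2 (O M)), inf_eq_bot_odd (Op_isPGroup 2 _) (odd_O M), cent_bot]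
      exact le_top
    refine (le_Ohm h.A_le h.elem).trans (le_trans (by_contra fun hc => ?_)
      (cent_anti (Op_le_of_normal p (Opi_normal _ M))))
    obtain ⟨N, hN⟩ := exists_minN (se h) p2 hc
    obtain ⟨B, F, t, hB, hF, hBF, hg, ht, t1, t2, hi, h3⟩ := hN.exists_three h.elem h8 h.A_le
    refine min_false hN ⟨h.simple, cp h, ev h, fun H V hH hV h4 hVM hVH hn => ?_, se h, sol h, h.coatom,
      ⟨A, h.A_le, h.elem, by omega⟩, p2, Nat.not_even_iff_odd.1 fun e => ?_, hB.mono hN.le, hg⟩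
      (a2 h) hF hBF ht t1 t2 hi h3
    · obtain ⟨m, hm⟩ := (abelem_isPGroup hV).exists_card_eq
      obtain ⟨_, _, _, _, _, _, hk⟩ := kf3 G A M H V h.toDSE hH (le_inf hVH hVM) hV (by
        rw [hm] at h4 ⊢
        exact Nat.pow_le_pow_right (n := 2) two_pos ((Nat.pow_lt_pow_iff_right one_lt_two).1
          ((pow_one 2).trans_lt h4))) (fun v hv => h.inv v (by rw [← sq]; exact hV.2 v hv)) hn
      exact k1_of hk
    · obtain ⟨s, hs, s1, s2⟩ := exists_inv (even_iff_two_dvd.1 e)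
      exact hc (Ohm_le_cent (se h) (Op_normal p M).norm (Opi_le _ M hs) s1 s2 (Op'_le_cent_Op p M hs))
  exact h.normO.trans ((syl_A h).norm_le_norm_of_normal (sup_le (le_norm_self A)
    (le_norm_of_le_cent (le_cent_symm ((le_inf le_rfl h1).trans (coprime_cent_Fitting
      (h.A_le.trans (O_norm M)) (coprime_of_isPGroup (abelem_isPGroup h.elem)
        (odd_iff.1 (odd_O M))).symm (sol_of_odd (odd_O M))))))))

end Cfsg.Agent.I2
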